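import Cfsg.Agent.Lib.A7Recog.Carmichael
import Cfsg.Agent.Lib.SymPres.Coxeter

/-!
A chain of five involutions and an element of order three satisfying the relations of
`(01)(23), …, (01)(67)` and `(012)` in the alternating group of degree eight give a homomorphism from it.
-/

set_option autoImplicit false

namespace Cfsg.Agent.A8Three

open Equiv Subgroup Cfsg.Agent.A7Recog

variable {G : Type*} [Group G]

/-- The relations. -/
structure Chain (w : G) (s : ℕ → G) : Prop where
  cube : w * w * w = 1
  sq : ∀ k < 5, s k * s k = 1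
  braid : ∀ k < 4, s k * s (k + 1) * s k = s (k + 1) * s k * s (k + 1)
  comm : ∀ i j, i + 1 < j → j < 5 → s i * s j = s j * s i
  invert : ∀ k, 1 ≤ k → k < 5 → s k * w * s k = w⁻¹
  base : w * (s 0 * w⁻¹ * s 0) * (w * (s 0 * w⁻¹ * s 0)) = 1
  word : s 0 = w * (s 0 * w⁻¹ * s 0)⁻¹ * w

/-- The Carmichael elements of a chain. -/
def car (w : G) (s : ℕ → G) : ℕ → G
  | 0 => w
  | k + 1 => s k * (car w s k)⁻¹ * s k

variable {w : G} {s : ℕ → G}

theorem inv_of_conj (h : Chain w s) {j : ℕ} (hj : j < 5) {x y : G} (e : s j * x * s j = y) :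
    s j * x⁻¹ * s j = y⁻¹ := by
  rw [← e, mul_inv_rev, mul_inv_rev, inv_eq_of_mul_eq_one_right (h.sq j hj), mul_assoc]

theorem conj_succ (h : Chain w s) {k : ℕ} (hk : k < 5) :
    s k * car w s k * s k = (car w s (k + 1))⁻¹ := by
  rw [car, mul_inv_rev, mul_inv_rev, inv_inv, inv_eq_of_mul_eq_one_right (h.sq k hk), mul_assoc]

theorem conj_pred (h : Chain w s) {k : ℕ} (hk : k < 5) :
    s k * car w s (k + 1) * s k = (car w s k)⁻¹ := by
  rw [car, show s k * (s k * (car w s k)⁻¹ * s k) * s k = (s k * s k) * (car w s k)⁻¹ * (s k * s k) by group,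
    h.sq k hk, one_mul, mul_one]

theorem conj_far (h : Chain w s) : ∀ k, k ≤ 5 → ∀ j < 5, j ≠ k → j + 1 ≠ k →
    s j * car w s k * s j = (car w s k)⁻¹ := by
  intro k
  induction k using Nat.strong_induction_on with
  | _ k ih =>
    rcases k with _ | k
    · exact fun _ j hj hne _ => h.invert j (by omega) hj
    intro hk j hj h1 h2
    rcases Nat.lt_trichotomy j k with hjk | hjk | hjk
    · rcases (show j + 1 = k ∨ j + 1 < k by omega) with e | e
      · -- the braid relation
        subst e
        have hb := h.braid j (by omega)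
        have ej := conj_succ h (k := j) (by omega)
        have ej' : (car w s (j + 1))⁻¹ = s j * car w s j * s j := ej.symm
        calc s j * car w s (j + 1 + 1) * s j
            = s j * (s (j + 1) * (car w s (j + 1))⁻¹ * s (j + 1)) * s j := rfl
          _ = (s j * s (j + 1) * s j) * car w s j * (s j * s (j + 1) * s j) := by rw [ej']; group
          _ = s (j + 1) * (s j * (s (j + 1) * car w s j * s (j + 1)) * s j) * s (j + 1) := by
              rw [hb]; group
          _ = s (j + 1) * (s j * (car w s j)⁻¹ * s j) * s (j + 1) := by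
              rw [ih j (by omega) (by omega) (j + 1) (by omega) (by omega) (by omega)]
          _ = s (j + 1) * car w s (j + 1) * s (j + 1) := rfl
          _ = _ := conj_succ h (by omega)
      · have hc := h.comm j k e (by omega)
        calc s j * car w s (k + 1) * s j = (s j * s k) * (car w s k)⁻¹ * (s k * s j) := by rw [car]; group
          _ = (s k * s j) * (car w s k)⁻¹ * (s j * s k) := by rw [hc]
          _ = s k * (s j * (car w s k)⁻¹ * s j) * s k := by group
          _ = s k * car w s k * s k := by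
              rw [inv_of_conj h hj (ih k (by omega) (by omega) j hj (by omega) (by omega)), inv_inv]
          _ = _ := conj_succ h (by omega)
    · exact absurd hjk (by omega)
    · have hc := h.comm k j (by omega) hj
      calc s j * car w s (k + 1) * s j = (s j * s k) * (car w s k)⁻¹ * (s k * s j) := by rw [car]; group
        _ = (s k * s j) * (car w s k)⁻¹ * (s j * s k) := by rw [hc]
        _ = s k * (s j * (car w s k)⁻¹ * s j) * s k := by group
        _ = s k * car w s k * s k := by
            rw [inv_of_conj h hj (ih k (by omega) (by omega) j hj (by omega) (by omega)), inv_inv]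
        _ = _ := conj_succ h (by omega)

theorem car_cube (h : Chain w s) : ∀ k, k ≤ 5 → car w s k * car w s k * car w s k = 1 := by
  intro k
  induction k with
  | zero => exact fun _ => h.cube
  | succ k ih =>
    intro hk
    have h2 := h.sq k (by omega)
    calc car w s (k + 1) * car w s (k + 1) * car w s (k + 1)
        = s k * (car w s k)⁻¹ * (s k * s k) * (car w s k)⁻¹ * (s k * s k) * (car w s k)⁻¹ * s k := by
          simp only [car]; group
      _ = s k * (car w s k * car w s k * car w s k)⁻¹ * s k := by rw [h2]; group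
      _ = 1 := by rw [ih (by omega), inv_one, mul_one, h2]

theorem pair_comm {a b : G} (e : a * b * (a * b) = 1) : b * a * (b * a) = 1 := by
  calc b * a * (b * a) = a⁻¹ * (a * b * (a * b)) * a := by group
    _ = 1 := by rw [e, mul_one, inv_mul_cancel]

theorem pair_conj (h : Chain w s) {j : ℕ} (hj : j < 5) {a b a' b' : G} (ha : s j * a * s j = a'⁻¹)
    (hb : s j * b * s j = b'⁻¹) (e : a * b * (a * b) = 1) : a' * b' * (a' * b') = 1 := by
  have h2 := h.sq j hj
  apply pair_comm
  rw [← inv_eq_one]
  calc (b' * a' * (b' * a'))⁻¹ = a'⁻¹ * b'⁻¹ * (a'⁻¹ * b'⁻¹) := by group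
    _ = s j * a * (s j * s j) * b * (s j * s j) * a * (s j * s j) * b * s j := by rw [← ha, ← hb]; group
    _ = s j * (a * b * (a * b)) * s j := by rw [h2]; group
    _ = 1 := by rw [e, mul_one, h2]

theorem carm (h : Chain w s) : Carm (car w s) 6 := by
  have h0 : ∀ k, 1 ≤ k → k ≤ 5 → car w s 0 * car w s k * (car w s 0 * car w s k) = 1 := by
    intro k h1 hk
    induction k, h1 using Nat.le_induction with
    | base => exact h.base
    | succ k h1 ih =>
      exact pair_conj h (by omega) (conj_far h 0 (by omega) k (by omega) (by omega) (by omega))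
        (conj_succ h (by omega)) (ih (by omega))
  have hup : ∀ i j, i < j → j ≤ 5 → car w s i * car w s j * (car w s i * car w s j) = 1 := by
    intro i
    induction i with
    | zero => exact fun j h1 h2 => h0 j h1 h2
    | succ i ih =>
      intro j hij hj
      exact pair_conj h (by omega) (conj_succ h (by omega))
        (conj_far h j hj i (by omega) (by omega) (by omega)) (ih j (by omega) hj)
  refine ⟨fun i hi => car_cube h i (by omega), fun i hi j hj hij => ?_⟩
  rcases lt_or_gt_of_ne hij with e | e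
  · exact hup i j e (by omega)
  · exact pair_comm (hup j i e (by omega))

theorem word_eq (h : Chain w s) : ∀ k < 5, s k = car w s k * (car w s (k + 1))⁻¹ * car w s k := by
  intro k
  induction k with
  | zero => exact fun _ => h.word
  | succ k ih =>
    intro hk
    have hk0 : k < 5 := by omega
    have hsk := h.sq k hk0
    have hsk1 := h.sq (k + 1) hk
    have hb := h.braid k (by omega)
    set c := s k * s (k + 1) with hc
    have hcinv : c⁻¹ = s (k + 1) * s k := by
      rw [hc, mul_inv_rev, inv_eq_of_mul_eq_one_right hsk, inv_eq_of_mul_eq_one_right hsk1]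
    have e1 : c * car w s k * c⁻¹ = car w s (k + 1) := by
      rw [hcinv, hc]
      calc s k * s (k + 1) * car w s k * (s (k + 1) * s k)
          = s k * (s (k + 1) * car w s k * s (k + 1)) * s k := by group
        _ = _ := by rw [conj_far h k (by omega) (k + 1) hk (by omega) (by omega)]; rfl
    have e2 : c * car w s (k + 1) * c⁻¹ = car w s (k + 2) := by
      rw [hcinv, hc]
      calc s k * s (k + 1) * car w s (k + 1) * (s (k + 1) * s k)
          = s k * (s (k + 1) * car w s (k + 1) * s (k + 1)) * s k := by group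
        _ = _ := by
            rw [conj_succ h hk, inv_of_conj h hk0 (conj_far h (k + 2) (by omega) k hk0 (by omega) (by omega)),
              inv_inv]
    have e3 : c * s k * c⁻¹ = s (k + 1) := by
      rw [hcinv, hc]
      calc s k * s (k + 1) * s k * (s (k + 1) * s k)
          = s (k + 1) * s k * s (k + 1) * (s (k + 1) * s k) := by rw [hb]
        _ = s (k + 1) * (s k * (s (k + 1) * s (k + 1)) * s k) := by group
        _ = _ := by rw [hsk1, mul_one, hsk, mul_one]
    rw [show k + 1 + 1 = k + 2 from rfl, ← e3, ← e2, ← e1]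
    conv_lhs => rw [ih hk0, ← e1]
    group

/-- The three-cycle `(0 1 2)`. -/
def w8 : Perm (Fin 8) := swap 0 1 * swap 1 2

/-- The products `(0 1)(k+2 k+3)`. -/
def s8 (k : ℕ) : Perm (Fin 8) :=
  if h : k < 5 then swap 0 1 * swap ⟨k + 2, by omega⟩ ⟨k + 3, by omega⟩ else 1

theorem chain8 : Chain w8 s8 := by
  refine ⟨?_, ?_, ?_, fun i j h1 h2 => ?_, fun k h1 h2 => ?_, ?_, ?_⟩
  · decide +kernel
  · decide +kernel
  · decide +kernel
  · have : ∀ j < 5, ∀ i < 5, i + 1 < j → s8 i * s8 j = s8 j * s8 i := by decide +kernel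
    exact this j h2 i (by omega) h1
  · have : ∀ k < 5, 1 ≤ k → s8 k * w8 * s8 k = w8⁻¹ := by decide +kernel
    exact this k h2 h1
  · decide +kernel
  · decide +kernel

theorem cgen_car8 : cgen (car w8 s8) 6 = alternatingGroup (Fin 8) := by
  set Y := car w8 s8 with hY
  have hsign : ∀ i < 6, Perm.sign (Y i) = 1 := by rw [hY]; decide +kernel
  have hle : cgen Y 6 ≤ alternatingGroup (Fin 8) := (closure_le _).2 (by
    rintro _ ⟨i, hi, rfl⟩; exact Perm.mem_alternatingGroup.2 (hsign i hi))
  have hm : ∀ i < 6, Y i ∈ cgen Y 6 := fun i hi => mem_cgen hi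
  have hadj : ∀ a : Fin 7, ∀ i < 6, swap a.castSucc a.succ * Y i * swap a.castSucc a.succ ∈ cgen Y 6 := by
    intro a i hi
    have key : ∀ a : Fin 7, ∀ i < 6, (swap a.castSucc a.succ * Y i * swap a.castSucc a.succ = Y i) ∨
        (∃ j < 6, swap a.castSucc a.succ * Y i * swap a.castSucc a.succ = (Y j)⁻¹) ∨
        (∃ j < 6, swap a.castSucc a.succ * Y i * swap a.castSucc a.succ = Y j) ∨
        (∃ j < 6, ∃ l < 6, swap a.castSucc a.succ * Y i * swap a.castSucc a.succ = Y j * Y l) ∨
        (∃ j < 6, ∃ l < 6, swap a.castSucc a.succ * Y i * swap a.castSucc a.succ = (Y j)⁻¹ * Y l) ∨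
        (∃ j < 6, ∃ l < 6, swap a.castSucc a.succ * Y i * swap a.castSucc a.succ = Y j * (Y l)⁻¹) ∨
        (∃ j < 6, ∃ l < 6, swap a.castSucc a.succ * Y i * swap a.castSucc a.succ = (Y j)⁻¹ * (Y l)⁻¹) := by
      rw [hY]; decide +kernel
    rcases key a i hi with e | ⟨j, hj, e⟩ | ⟨j, hj, e⟩ | ⟨j, hj, l, hl, e⟩ | ⟨j, hj, l, hl, e⟩ |
        ⟨j, hj, l, hl, e⟩ | ⟨j, hj, l, hl, e⟩ <;> rw [e]
    · exact hm i hi
    · exact inv_mem (hm j hj)
    · exact hm j hj
    · exact mul_mem (hm j hj) (hm l hl)
    · exact mul_mem (inv_mem (hm j hj)) (hm l hl)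
    · exact mul_mem (hm j hj) (inv_mem (hm l hl))
    · exact mul_mem (inv_mem (hm j hj)) (inv_mem (hm l hl))
  haveI hn : (cgen Y 6).Normal := by
    rw [← Subgroup.normalizer_eq_top_iff, eq_top_iff, ← SymCoxeter.closure_adj 7, SymCoxeter.gen,
      closure_le]
    rintro _ ⟨a, ha, rfl⟩
    have hadjeq : SymCoxeter.adj 7 a = swap (⟨a, ha⟩ : Fin 7).castSucc (⟨a, ha⟩ : Fin 7).succ := by
      rw [SymCoxeter.adj, dif_pos (show a < 7 from ha)]; rfl
    rw [hadjeq, SetLike.mem_coe, mem_normalizer_iff_map_conj_eq]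
    refine eq_of_le_of_card_ge ?_ (by rw [card_map_of_injective (MulAut.conj _).injective])
    rw [cgen, MonoidHom.map_closure, closure_le]
    rintro _ ⟨_, ⟨i, hi, rfl⟩, rfl⟩
    show swap _ _ * Y i * (swap _ _)⁻¹ ∈ _
    rw [swap_inv]
    exact hadj _ i hi
  refine le_antisymm hle ?_
  rw [← Perm.closure_three_cycles_eq_alternating, closure_le]
  intro t ht
  have h0 : (Y 0).IsThreeCycle := by
    rw [hY, ← card_support_eq_three_iff]; decide +kernel
  obtain ⟨c, hc⟩ := isConj_iff.1 (Perm.isConj_iff_cycleType_eq.2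
    ((h0.cycleType).trans (ht : Perm.IsThreeCycle t).cycleType.symm))
  rw [← hc]
  exact hn.conj_mem _ (hm 0 (by norm_num)) c

theorem card_alt_eight : Nat.card (alternatingGroup (Fin 8)) = 20160 := by
  have h := two_mul_nat_card_alternatingGroup (α := Fin 8)
  rw [Nat.card_perm, Nat.card_fin, show Nat.factorial 8 = 40320 from rfl] at h
  omega

/-- The homomorphism given by a chain. -/
theorem exists_hom (h : Chain w s) : ∃ θ : alternatingGroup (Fin 8) →* G,
    (∀ x : alternatingGroup (Fin 8), (x : Perm (Fin 8)) = w8 → θ x = w) ∧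
    ∀ k < 5, ∀ x : alternatingGroup (Fin 8), (x : Perm (Fin 8)) = s8 k → θ x = s k := by
  classical
  set W : Perm (Fin 8) × G := (w8, w) with hW
  set S : ℕ → Perm (Fin 8) × G := fun k => (s8 k, s k) with hS
  have hch : Chain W S :=
    ⟨Prod.ext chain8.cube h.cube, fun k hk => Prod.ext (chain8.sq k hk) (h.sq k hk),
      fun k hk => Prod.ext (chain8.braid k hk) (h.braid k hk),
      fun i j h1 h2 => Prod.ext (chain8.comm i j h1 h2) (h.comm i j h1 h2),
      fun k h1 h2 => Prod.ext (chain8.invert k h1 h2) (h.invert k h1 h2),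
      Prod.ext chain8.base h.base, Prod.ext chain8.word h.word⟩
  obtain ⟨T, hT, hTs⟩ := exists_cover (car W S) 6 (carm hch)
  have hcar : ∀ k, (car W S k).1 = car w8 s8 k := by
    intro k
    induction k with
    | zero => rfl
    | succ k ih => simp only [car, Prod.fst_mul, Prod.fst_inv, ih]; rfl
  have himg : (cgen (car W S) 6).map (MonoidHom.fst (Perm (Fin 8)) G) = alternatingGroup (Fin 8) := by
    rw [← cgen_car8, cgen, MonoidHom.map_closure, cgen, Set.image_image]
    exact congrArg Subgroup.closure (Set.image_congr fun k _ => hcar k)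
  set π := (MonoidHom.fst (Perm (Fin 8)) G).subgroupMap (cgen (car W S) 6) with hπ
  have hle : Nat.card (cgen (car W S) 6) ≤ 20160 := by
    have h1 : Nat.card (cgen (car W S) 6) ≤ Nat.card (T : Set (Perm (Fin 8) × G)) :=
      Nat.card_mono T.finite_toSet hTs
    rw [show Nat.factorial (6 + 2) = 40320 from rfl] at hT
    rw [Nat.card_coe_set_eq, Set.ncard_coe_finset] at h1
    omega
  haveI : Finite (cgen (car W S) 6) := (T.finite_toSet.subset hTs).to_subtype
  have hbij : Function.Bijective π := (MonoidHom.subgroupMap_surjective _ _).bijective_of_nat_card_le (by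
    rw [himg, card_alt_eight]; exact hle)
  let e : cgen (car W S) 6 ≃* alternatingGroup (Fin 8) :=
    (MulEquiv.ofBijective π hbij).trans (MulEquiv.subgroupCongr himg)
  let θ : alternatingGroup (Fin 8) →* G :=
    ((MonoidHom.snd (Perm (Fin 8)) G).comp (cgen (car W S) 6).subtype).comp e.symm.toMonoidHom
  have key : ∀ (p : Perm (Fin 8) × G), p ∈ cgen (car W S) 6 →
      ∀ x : alternatingGroup (Fin 8), (x : Perm (Fin 8)) = p.1 → θ x = p.2 := by
    intro p hp x hx
    have : e ⟨p, hp⟩ = x := Subtype.ext hx.symm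
    show (((e.symm x) : cgen (car W S) 6) : Perm (Fin 8) × G).2 = p.2
    rw [← this, e.symm_apply_apply]
  refine ⟨θ, fun x hx => key W (mem_cgen (i := 0) (by norm_num)) x hx, fun k hk x hx => key (S k) ?_ x hx⟩
  rw [word_eq hch k hk]
  exact mul_mem (mul_mem (mem_cgen (by omega)) (inv_mem (mem_cgen (by omega)))) (mem_cgen (by omega))

end Cfsg.Agent.A8Three
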