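import Cfsg.Agent.Lib.A8Three.CentB
import Cfsg.Agent.S0215

/-!
The centraliser of a non-central involution in the characterisation of `A₈`.
-/

set_option autoImplicit false
set_option maxRecDepth 20000
set_option synthInstance.maxSize 2000
set_option maxHeartbeats 1000000
set_option linter.style.haveILetI false

namespace Cfsg.Agent.A8Three

open Equiv Subgroup

theorem T0_facts : (∀ x ∈ T0L, x ∈ TL) ∧ (1 : P8) ∈ T0L ∧ T0L.length = 32 ∧ a8 ∈ T0L ∧ a8' ∈ T0L ∧
    (∀ x ∈ WL, x ∈ T0L) ∧ (∀ x ∈ T0L, x * a8 = a8 * x ∧ x ^ 16 = 1 ∧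
      (x * a8' * x⁻¹ = a8' ∨ x * a8' * x⁻¹ = a8 * a8')) ∧
    (∀ x ∈ TL, (∀ y ∈ TL, x * y = y * x) → x = 1 ∨ x = b8) := by
  decide +kernel

theorem W_t_cases : ∀ σ ∈ VL ++ UL, σ ≠ 1 → σ ≠ a8 → σ = a8' ∨ σ = a8 * a8' ∨ σ ∈ UL := by
  decide +kernel

theorem U_facts : (∀ u ∈ UL, Perm.sign u = 1 ∧ u * a8 = a8 * u ∧ u * a8' = a8' * u) ∧ g8 * a8 = a8 * g8 ∧
    a8 * u8 = b8 ∧ u8 ∈ UL ∧ (∀ u ∈ UL, ∀ v ∈ UL, u * v ∈ UL ∧ u * v = v * u) ∧ (1 : P8) ∈ UL ∧
    UL.Nodup ∧ UL.length = 4 ∧ a8 * (a8' * a8) = a8' := by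
  decide +kernel

/-- The Sylow 2-subgroup of the centraliser of `a8`. -/
def T0s : Subgroup P8 := ofList T0L T0_facts.2.1 fun _ hx _ hy => T0_closed hx hy
/-- The four-group on the large part. -/
def Us : Subgroup P8 := ofList UL U_facts.2.2.2.2.2.1 fun x hx y hy => (U_facts.2.2.2.2.1 x hx y hy).1

namespace Full

variable {G : Type*} [Group G] [Finite G] (E : Full G)
include E

/-- The involutions of `W` conjugate to `a` lie in `V` or in `U`. -/
theorem W_a_class {σ : P8} (hσ : σ ∈ WL) (hs : Perm.sign σ = 1) (h : IsConj E.a (E.t σ hs)) :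
    σ ≠ 1 ∧ σ ∈ VL ++ UL := by
  have h1 : σ ≠ 1 := fun e => by
    subst e
    rw [E.t_one] at h
    obtain ⟨c, hc⟩ := isConj_iff.1 h
    exact E.a_ne (conj_eq_one_iff.1 hc)
  refine ⟨h1, ?_⟩
  rcases W_classes σ hσ h1 with (h2 | h2) | ⟨c, hc, ec⟩
  · exact List.mem_append.2 (Or.inl h2)
  · exact List.mem_append.2 (Or.inr h2)
  · refine absurd (h.trans (IsConj.symm ?_)) E.a_not_conj_b
    exact isConj_iff.2 ⟨E.t c (conjL_even c hc), (E.t_conj _ sgn_b8).trans (E.t_ext _ _ ec)⟩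

theorem aa'_conj : IsConj E.a (E.a * E.a') := by
  have h := lists_inP.1 (a8 * a8') (by decide +kernel)
  rw [show E.a * E.a' = E.F ⟨a8 * a8', h.1⟩ from E.F_mul inP_a8 inP_a8']
  exact E.isConj_a_of_comm ((E.F_comm h.1 inP_g8).2 h.2.1)
    ((E.F_mul _ _).trans ((E.F_ext _ PS.one_mem h.2.2.1).trans E.F_one)) (E.ne_one_of_eq _ (by decide +kernel))

theorem a'_conj : IsConj E.a E.a' :=
  isConj_iff.2 ⟨_, (E.F_conj a_conj.1 inP_a8).trans (E.F_ext _ _ a_conj.2)⟩

/-- The elements of `CV` of 2-power order lie in `W`. -/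
theorem cv_two {x : G} (hx : x ∈ E.CV) (h : ∃ k, x ^ (2 ^ k) = 1) : x ∈ E.W := by
  obtain ⟨L, hL, hLC, -, hdec⟩ := E.cv_cases
  obtain ⟨v, hv, u, hu, hvV, huL, rfl⟩ := hdec x hx h
  rw [E.F_eq hv, E.F'_eq hu]
  refine mul_mem (E.t_mem_img (show v ∈ Ws from W_sub.2.2.2.2.2.2.2.2.1 v hvV) _) ?_
  -- the two-element `F' u` of `CV` centralising `w` lies in `U`
  rcases hL with rfl | rfl | rfl
  · rw [List.mem_singleton] at huL
    subst huL
    rw [E.t_one]; exact one_mem _
  · exact E.t_mem_img (show u ∈ Ws from W_sub.2.2.2.2.2.2.2.2.2 u huL) _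
  · by_cases hu1 : u = 1
    · subst hu1; rw [E.t_one]; exact one_mem _
    · exfalso
      -- `u` and `u8` both centralise `V`
      obtain ⟨v', hv', u', hu', hv'V, hu'L, e⟩ := hdec _ (E.hU u8 U_facts.2.2.2.1 (lists_inP.2 u8 (by decide +kernel)).1)
        ⟨1, by
          rw [pow_one, pow_two]
          exact (E.F'_mul _ _).trans ((E.F'_ext _ PS'.one_mem (by decide +kernel)).trans E.F'_one)⟩
      rw [E.F_eq hv', E.F'_eq, E.F'_eq, E.t_mul] at e
      have e' := E.t_val _ _ e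
      have key : ∀ v ∈ VL, ∀ u ∈ UL4, u8 ≠ v * u := by decide +kernel
      exact key v' hv'V u' hu'L e'

/-- The centraliser of `a` lies in `H`. -/
theorem cent_a {c : G} (hc : c * E.a = E.a * c) : c ∈ E.H := by
  classical
  haveI : Fact (Nat.Prime 2) := ⟨Nat.prime_two⟩
  obtain ⟨hT0, -, hT0len, haT0, ha'T0, hWT0, hT0p, hcenT⟩ := T0_facts
  obtain ⟨hUs, hga, hau, hu8, hU2, -, hUnd, hUlen, -⟩ := U_facts
  set K := centralizer ({E.a} : Set G) with hK
  -- the Sylow 2-subgroup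
  set S0 := E.img T0s with hS0
  have hS0K : S0 ≤ K := by
    intro x hx
    obtain ⟨σ, hs, hσ, rfl⟩ := E.mem_img.1 hx
    rw [mem_centralizer_singleton_iff, E.a_t]
    exact (E.t_comm hs sgn_a8).2 (hT0p σ hσ).1
  have hS0c : Nat.card (S0.subgroupOf K) = 32 := by
    rw [Nat.card_congr (subgroupOfEquivOfLe hS0K).toEquiv, hS0, E.card_img fun σ h => sgn_TL (hT0 σ h)]
    exact (card_ofList _ _ model_rels.2.2.2.2).trans hT0len
  have hfac : (Nat.card K).factorization 2 = 5 := by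
    have h1 : 2 ^ 5 ∣ Nat.card K := by
      rw [show (2 : ℕ) ^ 5 = 32 from rfl, ← hS0c]; exact card_subgroup_dvd_card _
    have := (Nat.prime_two.pow_dvd_iff_le_factorization Nat.card_pos.ne').1 h1
    by_contra hne
    set aK : K := ⟨E.a, mem_centralizer_singleton_iff.2 rfl⟩ with haK
    have ho : Nat.card (zpowers aK) = 2 ^ 1 := by
      rw [Nat.card_zpowers, haK, orderOf_mk, pow_one]
      exact orderOf_eq_prime (by rw [pow_two, E.aa]) E.a_ne
    obtain ⟨R, hRc, hRa⟩ := Sylow.exists_subgroup_card_pow_prime_le (p := 2) (n := 1) (m := 6)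
      ((Nat.prime_two.pow_dvd_iff_le_factorization Nat.card_pos.ne').2 (by omega)) (zpowers aK) ho (by norm_num)
    obtain ⟨Q, hQ⟩ := E.exists_sylow
    let R' : Sylow 2 G := Sylow.ofCard (R.map K.subtype) (by
      rw [card_map_of_injective (Subgroup.subtype_injective _), hRc, E.fac_two])
    obtain ⟨g, hg⟩ := MulAction.exists_smul_eq G R' Q
    have hmem : ∀ x ∈ R.map K.subtype, g * x * g⁻¹ ∈ E.T := by
      intro x hx
      rw [← hQ, ← hg, Sylow.coe_subgroup_smul]
      exact ⟨x, hx, rfl⟩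
    obtain ⟨σ, hs, hσ, e⟩ := E.mem_img.1 (hmem E.a ⟨aK, hRa (mem_zpowers _), rfl⟩)
    have hback : ∀ y ∈ E.T, ∃ x ∈ R.map K.subtype, g * x * g⁻¹ = y := by
      intro y hy
      rw [← hQ, ← hg, Sylow.coe_subgroup_smul] at hy
      obtain ⟨x, hx, hxy⟩ := hy
      exact ⟨x, hx, hxy⟩
    rcases hcenT σ hσ (fun τ hτ => by
      have ht := sgn_TL hτ
      obtain ⟨x, ⟨xK, -, rfl⟩, hx⟩ := hback _ (E.t_mem_img (show τ ∈ Ts from hτ) ht)
      refine (E.t_comm hs ht).1 ?_
      have hxa : (xK : G) * E.a = E.a * xK := mem_centralizer_singleton_iff.1 xK.2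
      rw [e, ← hx]
      calc g * E.a * g⁻¹ * (g * (xK : G) * g⁻¹) = g * (E.a * (xK : G)) * g⁻¹ := by group
        _ = g * ((xK : G) * E.a) * g⁻¹ := by rw [hxa]
        _ = _ := by simp [mul_assoc]) with rfl | rfl
    · rw [E.t_one] at e
      exact E.a_ne (conj_eq_one_iff.1 e.symm)
    · exact E.a_not_conj_b (isConj_iff.2 ⟨g, e.symm⟩)
  let P : Sylow 2 K := Sylow.ofCard (S0.subgroupOf K) (by rw [hS0c, hfac]; rfl)
  -- the quotient by `a`
  set aK : K := ⟨E.a, mem_centralizer_singleton_iff.2 rfl⟩ with haK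
  set B : Subgroup K := zpowers aK with hB
  have hcen : ∀ g : K, g * aK = aK * g := fun g => Subtype.ext (mem_centralizer_singleton_iff.1 g.2)
  haveI hBn : B.Normal := ⟨fun n hn g => by
    obtain ⟨k, rfl⟩ := mem_zpowers_iff.1 hn
    rw [(show Commute g (aK ^ k) from (show Commute g aK from hcen g).zpow_right k).eq, mul_inv_cancel_right]
    exact zpow_mem (mem_zpowers aK) k⟩
  have hao : orderOf aK = 2 := by
    rw [haK, orderOf_mk]; exact orderOf_eq_prime (by rw [pow_two, E.aa]) E.a_ne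
  have hB2 : ∀ y ∈ B, y = 1 ∨ y = aK := by
    intro y hy
    obtain ⟨i, hi, e⟩ := Finset.mem_image.1 (mem_zpowers_iff_mem_range_orderOf.1 hy)
    rw [Finset.mem_range, hao] at hi
    interval_cases i
    · exact Or.inl (e.symm.trans (pow_zero _))
    · exact Or.inr (e.symm.trans (pow_one _))
  set π := QuotientGroup.mk' B with hπ
  have haS0 : E.a ∈ S0 := by rw [E.a_t]; exact E.t_mem_img (show a8 ∈ T0s from haT0) _
  have ha'S0 : E.a' ∈ S0 := by rw [E.a'_t]; exact E.t_mem_img (show a8' ∈ T0s from ha'T0) _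
  set a'K : K := ⟨E.a', hS0K ha'S0⟩ with ha'K
  have ha'2 : E.a' * E.a' = 1 := by
    rw [E.a'_t, E.t_mul]
    exact (E.t_ext _ _ (by decide +kernel)).trans E.t_one
  have ha'B : a'K ∉ B := fun h => by
    rcases hB2 _ h with e | e
    · exact E.ne_one_of_eq inP_a8' (by decide +kernel) (congrArg Subtype.val e)
    · exact absurd (E.F_val inP_a8' inP_a8 (congrArg Subtype.val e)) (by decide +kernel)
  let Pb : Sylow 2 (K ⧸ B) := P.mapSurjective (QuotientGroup.mk'_surjective B)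
  have hPb : ∀ y : K, π y ∈ (Pb : Subgroup (K ⧸ B)) ↔ (y : G) ∈ S0 := by
    intro y
    constructor
    · rintro ⟨x, hx, e⟩
      have h1 : x⁻¹ * y ∈ B := QuotientGroup.eq.1 e
      have hx' : (x : G) ∈ S0 := hx
      have h2 : (x : G) * ((x⁻¹ * y : K) : G) = (y : G) := by simp
      rw [← h2]
      refine mul_mem hx' ?_
      rcases hB2 _ h1 with e' | e' <;> rw [e']
      · exact one_mem _
      · exact haS0
    · exact fun h => ⟨y, h, rfl⟩
  have hiso : ∀ k : K ⧸ B, k * π a'K * k⁻¹ ∈ Pb → k * π a'K * k⁻¹ = π a'K := by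
    intro k hk
    obtain ⟨g, rfl⟩ := QuotientGroup.mk'_surjective B k
    rw [← map_inv, ← map_mul, ← map_mul] at hk ⊢
    have hm : (g : G) * E.a' * (g : G)⁻¹ ∈ S0 := (hPb (g * a'K * g⁻¹)).1 hk
    obtain ⟨σ, hs, hσ, e⟩ := E.mem_img.1 hm
    have hga' : (g : G) * E.a = E.a * g := mem_centralizer_singleton_iff.1 g.2
    have hconj : IsConj E.a (E.t σ hs) := E.a'_conj.trans (isConj_iff.2 ⟨g, e.symm⟩)
    have hfin : σ = a8' ∨ σ = a8 * a8' := by
      by_cases hσW : σ ∈ WL
      · obtain ⟨hσ1, hσL⟩ := E.W_a_class hσW hs hconj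
        have hσa : σ ≠ a8 := fun h => by
          subst h
          have e1 : (g : G) * E.a' * (g : G)⁻¹ = (g : G) * E.a * (g : G)⁻¹ := by
            rw [← e, hga', mul_inv_cancel_right, E.a_t]
          exact absurd (E.F_val inP_a8' inP_a8 (conj_injective e1)) (by decide +kernel)
        rcases W_t_cases σ hσL hσ1 hσa with h | h | h
        · exact Or.inl h
        · exact Or.inr h
        · exfalso
          obtain ⟨c, hc, ec⟩ := W_pairs a8 (by decide +kernel) σ h (by decide +kernel) hσ1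
          refine E.a_not_conj_b ((E.aa'_conj.trans (isConj_iff.2 ⟨(g : G), ?_⟩)).trans (IsConj.symm
            (isConj_iff.2 ⟨E.t c (conjL_even c hc), (E.t_conj _ sgn_b8).trans
              (E.t_ext _ (by rw [map_mul, sgn_a8, hs, one_mul]) ec)⟩)))
          rw [← E.t_mul sgn_a8 hs, e, ← E.a_t]
          calc (g : G) * (E.a * E.a') * (g : G)⁻¹ = ((g : G) * E.a) * E.a' * (g : G)⁻¹ := by group
            _ = (E.a * g) * E.a' * (g : G)⁻¹ := by rw [hga']
            _ = _ := by simp [mul_assoc]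
      · exfalso
        have hσσ : σ * σ = 1 := by
          refine E.t_val (by rw [map_mul, hs, one_mul]) (map_one _) ?_
          rw [← E.t_mul hs hs, e, E.t_one]
          calc (g : G) * E.a' * (g : G)⁻¹ * ((g : G) * E.a' * (g : G)⁻¹)
              = (g : G) * (E.a' * E.a') * (g : G)⁻¹ := by group
            _ = 1 := by rw [ha'2]; group
        have hu := T0_out σ hσ hσW hσσ
        set u := E.t u8 (hUs u8 hu8).1 with hu'
        -- `u` lies in the conjugate of `W`
        have hucv : (g : G)⁻¹ * u * (g : G) ∈ E.W := by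
          refine E.cv_two (E.mem_CV.2 ⟨?_, ?_⟩) ⟨1, ?_⟩
          · have hua : u * E.a = E.a * u := by rw [E.a_t]; exact (E.t_comm _ _).2 (hUs u8 hu8).2.1
            have := (show Commute u E.a from hua).map (MulAut.conj (g : G)⁻¹).toMonoidHom
            simp only [MulEquiv.coe_toMonoidHom, MulAut.conj_apply, inv_inv] at this
            rw [show (g : G)⁻¹ * E.a * (g : G) = E.a by rw [mul_assoc, ← hga', inv_mul_cancel_left]] at this
            exact this.eq
          · have hut : Commute u ((g : G) * E.a' * (g : G)⁻¹) := by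
              rw [← e]; exact (E.t_comm _ _).2 hu.symm
            have := hut.map (MulAut.conj (g : G)⁻¹).toMonoidHom
            simp only [MulEquiv.coe_toMonoidHom, MulAut.conj_apply, inv_inv] at this
            rw [show (g : G)⁻¹ * ((g : G) * E.a' * (g : G)⁻¹) * (g : G) = E.a' by group] at this
            exact this.eq
          · rw [pow_one, pow_two]
            have huu : u * u = 1 := (E.t_mul _ _).trans ((E.t_ext _ _ (by decide +kernel)).trans E.t_one)
            calc (g : G)⁻¹ * u * (g : G) * ((g : G)⁻¹ * u * (g : G)) = (g : G)⁻¹ * (u * u) * (g : G) := by group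
              _ = 1 := by rw [huu]; group
        set A := E.W.map (MulAut.conj (g : G)).toMonoidHom with hA
        have hAcomm : ∀ x ∈ A, ∀ y ∈ A, x * y = y * x := by
          rintro _ ⟨x, hx, rfl⟩ _ ⟨y, hy, rfl⟩
          rw [← map_mul, ← map_mul, E.W_comm x hx y hy]
        have huA : u ∈ A := ⟨_, hucv, by
          simp only [MulEquiv.coe_toMonoidHom, MulAut.conj_apply]; group⟩
        have haW : E.a ∈ E.W := by rw [E.a_t]; exact E.t_mem_img (show a8 ∈ Ws from W_sub.2.2.2.1) _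
        have haA : E.a ∈ A := ⟨E.a, haW, by
          simp only [MulEquiv.coe_toMonoidHom, MulAut.conj_apply]; rw [hga', mul_inv_cancel_right]⟩
        have hAH : ∀ x ∈ A, ∃ τ, ∃ ht : Perm.sign τ = 1, τ ∈ T0L ∧ E.t τ ht = x := by
          intro x hx
          have hxb : x * E.b = E.b * x := by
            have : E.b = E.a * u := by
              rw [E.a_t, hu', E.t_mul]; exact (E.t_ext _ _ hau).symm
            rw [this, ← mul_assoc, hAcomm x hx E.a haA, mul_assoc, hAcomm x hx u huA, ← mul_assoc]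
          obtain ⟨τ, ht, eτ⟩ := E.mem_H (E.cent_b hxb)
          refine ⟨τ, ht, comm_ab ht ((E.t_comm ht sgn_a8).1 ?_) ((E.t_comm ht sgn_b8).1 ?_), eτ⟩
          · rw [eτ, ← E.a_t]; exact hAcomm x hx E.a haA
          · rw [eτ]; exact hxb
        have hAle : A ≤ E.H := fun x hx => by
          obtain ⟨τ, ht, -, rfl⟩ := hAH x hx; exact E.t_mem _ _
        have hpre : E.pre A = Ws := by
          refine Ws_unique _ (fun τ h => ?_) ?_ (fun τ h τ' h' => ?_)
          · obtain ⟨ht, h⟩ := E.mem_pre.1 h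
            obtain ⟨ρ, hr, hρ, e'⟩ := hAH _ h
            exact E.t_val hr ht e' ▸ hT0 ρ hρ
          · rw [E.card_pre hAle, hA, card_map_of_injective (MulAut.conj (g : G)).injective]
            exact E.card_W
          · obtain ⟨ht, h⟩ := E.mem_pre.1 h
            obtain ⟨ht', h'⟩ := E.mem_pre.1 h'
            exact (E.t_comm ht ht').1 (hAcomm _ h _ h')
        refine hσW ?_
        have ha'W : E.a' ∈ E.W := by rw [E.a'_t]; exact E.t_mem_img (show a8' ∈ Ws from W_sub.2.2.2.2.1) _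
        have : σ ∈ Ws := hpre ▸ E.mem_pre.2 ⟨hs, e ▸ ⟨E.a', ha'W, rfl⟩⟩
        exact this
    have hval : ((g * a'K * g⁻¹ : K) : G) = E.t σ hs := e.symm
    rcases hfin with rfl | rfl
    · exact congrArg π (Subtype.ext (hval.trans E.a'_t.symm))
    · have : g * a'K * g⁻¹ = aK * a'K := Subtype.ext (by
        rw [hval, Subgroup.coe_mul]
        show E.t _ hs = E.a * E.a'
        rw [E.a_t, E.a'_t]
        exact (E.t_mul _ _).symm)
      rw [this, map_mul, show π aK = 1 from (QuotientGroup.eq_one_iff aK).2 (mem_zpowers aK), one_mul]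
  have ho : orderOf (π a'K) = 2 := by
    refine orderOf_eq_prime ?_ fun e => ha'B ((QuotientGroup.eq_one_iff a'K).1 e)
    rw [← map_pow, show a'K ^ 2 = 1 from Subtype.ext (by rw [Subgroup.coe_pow, pow_two]; exact ha'2), map_one]
  obtain ⟨N, hNn, hodd, hN⟩ := S0215.result Pb (π a'K) ho ((hPb a'K).2 ha'S0) hiso
  haveI := hNn
  -- the core is trivial
  set Ub := E.img Us with hUb
  have hUK : Ub ≤ K := by
    intro x hx
    obtain ⟨u, hs, hu, rfl⟩ := E.mem_img.1 hx
    rw [mem_centralizer_singleton_iff, E.a_t]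
    exact (E.t_comm hs sgn_a8).2 (hUs u hu).2.1
  set A := (Ub.subgroupOf K).map π with hA
  have hAmem : ∀ x ∈ A, ∃ u, ∃ hu : u ∈ UL, ∃ hk : E.t u (hUs u hu).1 ∈ K, π ⟨_, hk⟩ = x := by
    rintro _ ⟨y, hy, rfl⟩
    obtain ⟨u, hs, hu, e⟩ := E.mem_img.1 (show (y : G) ∈ Ub from hy)
    exact ⟨u, hu, e ▸ y.2, congrArg π (Subtype.ext e)⟩
  have huu : ∀ u, ∀ hu : u ∈ UL, E.t u (hUs u hu).1 * E.t u (hUs u hu).1 = 1 := fun u hu =>
    (E.t_mul _ _).trans ((E.t_ext _ _ (lists_inP.2 u (List.mem_append.2 (Or.inl hu))).2.2.1).trans E.t_one)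
  have hinjU : Function.Injective (π.comp (Ub.subgroupOf K).subtype) := by
    rw [injective_iff_map_eq_one]
    rintro ⟨y, hy⟩ h
    obtain ⟨u, hs, hu, e⟩ := E.mem_img.1 (show (y : G) ∈ Ub from hy)
    have hyB : y ∈ B := (QuotientGroup.eq_one_iff y).1 h
    rcases hB2 y hyB with e' | e'
    · exact Subtype.ext e'
    · exfalso
      rw [show (y : G) = E.a from congrArg Subtype.val e', E.a_t] at e
      have : ∀ u ∈ UL, u ≠ a8 := by decide +kernel
      exact this u hu (E.t_val hs sgn_a8 e)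
  have hAc : Nat.card A = 4 := by
    have hrange : (Ub.subgroupOf K).map π = (π.comp (Ub.subgroupOf K).subtype).range := by
      rw [MonoidHom.range_comp, range_subtype]
    rw [hA, hrange]
    rw [← Nat.card_congr (MonoidHom.ofInjective hinjU).toEquiv,
      Nat.card_congr (subgroupOfEquivOfLe hUK).toEquiv, hUb, E.card_img fun u hu => (hUs u hu).1]
    exact (card_ofList _ _ hUnd).trans hUlen
  haveI : IsMulCommutative A := ⟨⟨fun x y => Subtype.ext (by
    obtain ⟨u, hu, hk, eu⟩ := hAmem x x.2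
    obtain ⟨v, hv, hk', ev⟩ := hAmem y y.2
    rw [Subgroup.coe_mul, Subgroup.coe_mul, ← eu, ← ev, ← map_mul, ← map_mul]
    exact congrArg π (Subtype.ext ((E.t_comm (hUs u hu).1 (hUs v hv).1).2 (hU2 u hu v hv).2)))⟩⟩
  have hAexp : ∀ x : A, x ^ 2 = 1 := fun x => Subtype.ext (by
    obtain ⟨u, hu, hk, eu⟩ := hAmem x x.2
    rw [Subgroup.coe_pow, ← eu, ← map_pow, show (⟨_, hk⟩ : K) ^ 2 = 1 from Subtype.ext (by
      rw [Subgroup.coe_pow, pow_two]; exact huu u hu), map_one]
    rfl)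
  have hnc : ¬ IsCyclic A := fun h => by
    obtain ⟨x, hx⟩ := isCyclic_iff_exists_orderOf_eq_natCard.1 h
    rw [hAc] at hx
    have := Nat.le_of_dvd (by norm_num) (orderOf_dvd_of_pow_eq_one (hAexp x))
    omega
  have hnorm : A ≤ normalizer (N : Set (K ⧸ B)) := by
    rw [Subgroup.normalizer_eq_top]; exact le_top
  have hNodd : ¬ 2 ∣ Nat.card N := fun h => Nat.not_even_iff_odd.2 hodd (even_iff_two_dvd.2 h)
  have hcop : (Nat.card A).Coprime (Nat.card N) := by
    rw [hAc, show (4 : ℕ) = 2 ^ 2 from rfl]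
    exact (Nat.prime_two.coprime_iff_not_dvd.2 hNodd).pow_left 2
  have hN1 : N = ⊥ := by
    rw [eq_bot_iff, ← CoprimeAct.generated_by_centralizers hnc hnorm hcop]
    refine iSup₂_le fun d hd n hn => ?_
    obtain ⟨hnN, hnd⟩ := hn
    have hnd := mem_centralizer_singleton_iff.1 hnd
    obtain ⟨u, hu, hk, rfl⟩ := hAmem d hd.1
    have hu1 : u ≠ 1 := fun h => hd.2 (by
      subst h
      rw [show (⟨_, hk⟩ : K) = 1 from Subtype.ext E.t_one, map_one])
    obtain ⟨m, rfl⟩ := QuotientGroup.mk'_surjective B n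
    rw [Subgroup.mem_bot]
    -- a lift of odd order
    obtain ⟨m', hm', hpow⟩ : ∃ m' : K, π m' = π m ∧ m' ^ Nat.card N = 1 := by
      have h1 : π (m ^ Nat.card N) = 1 := by
        rw [map_pow]
        have h0 : (⟨π m, hnN⟩ : N) ^ Nat.card N = 1 := pow_card_eq_one'
        exact congrArg Subtype.val h0
      rcases hB2 _ ((QuotientGroup.eq_one_iff _).1 h1) with h | h
      · exact ⟨m, rfl, h⟩
      · refine ⟨m * aK, by
          rw [map_mul, show π aK = 1 from (QuotientGroup.eq_one_iff aK).2 (mem_zpowers aK), mul_one], ?_⟩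
        obtain ⟨k, hk'⟩ := hodd
        rw [(show Commute m aK from hcen m).mul_pow, h, hk', pow_succ, pow_mul,
          show aK ^ 2 = 1 from hao ▸ pow_orderOf_eq_one aK, one_pow, one_mul, ← pow_two]
        exact hao ▸ pow_orderOf_eq_one aK
    rw [← hm']
    suffices h : m' = 1 by rw [h, map_one]
    rw [← hm', ← map_mul, ← map_mul] at hnd
    set uK : K := ⟨_, hk⟩ with huK
    -- `m'` centralises `u`
    have hcu : (m' : G) * E.t u (hUs u hu).1 = E.t u (hUs u hu).1 * m' := by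
      rcases hB2 _ (QuotientGroup.eq.1 hnd) with h | h
      · exact congrArg Subtype.val (inv_mul_eq_one.1 h)
      · exfalso
        have h' : (uK * m' : K) = m' * uK * aK := by rw [← h]; group
        have h'' : E.t u (hUs u hu).1 * (m' : G) = (m' : G) * E.t u (hUs u hu).1 * E.a := congrArg Subtype.val h'
        have hP' := lists_inP.2 u (List.mem_append.2 (Or.inl hu))
        obtain ⟨c, hc, ec⟩ := W_pairs a8 (by decide +kernel) u hu (by decide +kernel) hu1
        have ha1 : IsConj E.a (E.t u (hUs u hu).1) := by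
          refine E.a'_conj.trans (IsConj.trans (b := E.t u8 (hUs u8 hu8).1) ?_ ?_)
          · have key : ∃ τ, Perm.sign τ = 1 ∧ τ * a8' * τ⁻¹ = u8 := ⟨swap 0 4 * swap 2 7 * swap 1 5 * swap 3 6,
              by decide +kernel, by decide +kernel⟩
            obtain ⟨τ, hτ, eτ⟩ := key
            rw [E.a'_t]
            exact isConj_iff.2 ⟨E.t τ hτ, (E.t_conj _ _).trans (E.t_ext _ _ eτ)⟩
          · rcases rlem_gen' UL (by simp) u8 hu8 (by decide +kernel) u hu with rfl | rfl | rfl | rfl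
            · exact absurd rfl hu1
            · exact IsConj.refl _
            · exact isConj_iff.2 ⟨E.t g8 inP_g8.1, E.t_conj _ _⟩
            · refine isConj_iff.2 ⟨E.t g8⁻¹ (by rw [Perm.sign_inv]; exact inP_g8.1), (E.t_conj _ _).trans (E.t_ext _ _ ?_)⟩
              rw [inv_inv]
        refine E.a_not_conj_b ((ha1.trans (isConj_iff.2 ⟨(m' : G)⁻¹, ?_⟩)).trans (IsConj.symm
          (isConj_iff.2 ⟨E.t c (conjL_even c hc), (E.t_conj _ sgn_b8).trans
            (E.t_ext _ (by rw [map_mul, sgn_a8, (hUs u hu).1, one_mul]) ec)⟩)))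
        rw [inv_inv, mul_assoc, h'', ← E.t_mul sgn_a8 (hUs u hu).1, ← E.a_t]
        have hua : E.t u (hUs u hu).1 * E.a = E.a * E.t u (hUs u hu).1 := by
          rw [E.a_t]; exact (E.t_comm _ _).2 (hUs u hu).2.1
        rw [← hua]; group
    -- hence it lies in `H` and has 2-power order
    have hma : (m' : G) * E.a = E.a * m' := mem_centralizer_singleton_iff.1 m'.2
    obtain ⟨k, hkH, hku⟩ : ∃ k : G, (k ∈ E.H ∧ Commute k E.a) ∧ k * E.t u8 (hUs u8 hu8).1 * k⁻¹ = E.t u (hUs u hu).1 := by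
      have hg : Commute (E.t g8 inP_g8.1) E.a := by rw [E.a_t]; exact (E.t_comm _ _).2 hga
      rcases rlem_gen' UL (by simp) u8 hu8 (by decide +kernel) u hu with rfl | rfl | rfl | rfl
      · exact absurd rfl hu1
      · exact ⟨1, ⟨one_mem _, Commute.one_left _⟩, by simp⟩
      · exact ⟨_, ⟨E.t_mem g8 inP_g8.1, hg⟩, E.t_conj _ _⟩
      · refine ⟨(E.t g8 inP_g8.1)⁻¹, ⟨inv_mem (E.t_mem _ _), hg.inv_left⟩, ?_⟩
        have hi : (E.t g8 inP_g8.1)⁻¹ = E.t g8⁻¹ (by rw [Perm.sign_inv]; exact inP_g8.1) := E.t_inv _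
        rw [hi, E.t_conj]
        exact E.t_ext _ _ (by rw [inv_inv])
    set n' := k⁻¹ * (m' : G) * k with hn'
    have hna : n' * E.a = E.a * n' := ((hkH.2.inv_left.mul_left hma).mul_left hkH.2).eq
    have hnu : n' * E.t u8 (hUs u8 hu8).1 = E.t u8 (hUs u8 hu8).1 * n' := by
      rw [← hku] at hcu
      calc k⁻¹ * (m' : G) * k * E.t u8 _ = k⁻¹ * ((m' : G) * (k * E.t u8 (hUs u8 hu8).1 * k⁻¹)) * k := by group
        _ = k⁻¹ * ((k * E.t u8 (hUs u8 hu8).1 * k⁻¹) * (m' : G)) * k := by rw [hcu]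
        _ = _ := by rw [hn']; group
    have hnb : n' * E.b = E.b * n' := by
      have : E.b = E.a * E.t u8 (hUs u8 hu8).1 := by
        rw [E.a_t, E.t_mul]; exact (E.t_ext _ _ hau).symm
      rw [this]; exact ((show Commute n' _ from hna).mul_right hnu).eq
    obtain ⟨τ, ht, eτ⟩ := E.mem_H (E.cent_b hnb)
    rw [← eτ, E.a_t] at hna
    rw [← eτ] at hnb
    have hτ0 := comm_ab ht ((E.t_comm ht sgn_a8).1 hna) ((E.t_comm ht sgn_b8).1 hnb)
    have h16 : n' ^ 16 = 1 := by
      rw [← eτ, t, ← map_pow,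
        show (⟨τ, mem_alt ht⟩ : alternatingGroup (Fin 8)) ^ 16 = 1 from Subtype.ext (hT0p τ hτ0).2.1, map_one]
    have hnN' : n' ^ Nat.card N = 1 := by
      have := conj_pow (a := k⁻¹) (b := (m' : G)) (i := Nat.card N)
      rw [inv_inv] at this
      rw [this, show (m' : G) ^ Nat.card N = 1 from congrArg Subtype.val hpow]; group
    have hg : n' ^ (Nat.gcd 16 (Nat.card N)) = 1 := pow_gcd_eq_one.2 ⟨h16, hnN'⟩
    rw [show Nat.gcd 16 (Nat.card N) = 1 from (show Nat.Coprime (2 ^ 4) (Nat.card N) from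
      (Nat.prime_two.coprime_iff_not_dvd.2 hNodd).pow_left 4), pow_one] at hg
    refine Subtype.ext ?_
    calc (m' : G) = k * n' * k⁻¹ := by rw [hn']; group
      _ = 1 := by rw [hg]; group
  -- conclusion
  set cK : K := ⟨c, mem_centralizer_singleton_iff.2 hc⟩ with hcK
  have hcom := hN (π cK)
  rw [hN1, Subgroup.mem_bot, ← map_inv, ← map_inv, ← map_mul, ← map_mul, ← map_mul] at hcom
  have hmem : a'K * cK * a'K⁻¹ * cK⁻¹ ∈ B := (QuotientGroup.eq_one_iff _).1 hcom
  have hca : c * E.a * c⁻¹ = E.t a8 sgn_a8 := by rw [hc, mul_inv_cancel_right, E.a_t]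
  have ha'a : Perm.sign (a8 * a8') = 1 := by rw [map_mul, sgn_a8, sgn_a8', one_mul]
  rcases hB2 _ hmem with h | h
  · have h' : E.a' * c * E.a'⁻¹ * c⁻¹ = 1 := congrArg Subtype.val h
    refine E.normV (v := a8) (v' := a8') (by decide +kernel) (by decide +kernel) sgn_a8 sgn_a8' hca ?_
    rw [← E.a'_t]
    calc c * E.a' * c⁻¹ = (E.a' * c * E.a'⁻¹ * c⁻¹)⁻¹ * E.a' := by group
      _ = E.a' := by rw [h']; group
  · have h' : E.a' * c * E.a'⁻¹ * c⁻¹ = E.a := congrArg Subtype.val h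
    refine E.normV (v := a8) (v' := a8 * a8') (by decide +kernel) (by decide +kernel) sgn_a8 ha'a hca ?_
    rw [← E.t_mul sgn_a8 sgn_a8', ← E.a_t, ← E.a'_t]
    calc c * E.a' * c⁻¹ = (E.a' * c * E.a'⁻¹ * c⁻¹)⁻¹ * E.a' := by group
      _ = E.a * E.a' := by rw [h', inv_eq_of_mul_eq_one_right E.aa]

end Full

end Cfsg.Agent.A8Three
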