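import Cfsg.Agent.Lib.A8Three.CentH
import Cfsg.Agent.Lib.SelfThree.Main
import Cfsg.Agent.Lib.SmallCent.Main

/-!
The centraliser of a central involution in the characterisation of `A₈`.
-/

set_option autoImplicit false
set_option maxRecDepth 20000
set_option synthInstance.maxSize 2000
set_option maxHeartbeats 1000000
set_option linter.style.haveILetI false

namespace Cfsg.Agent.A8Three

open Equiv Subgroup

/-- `(2 4)(3 7)` -/
def s24 : P8 := swap 2 4 * swap 3 7

/-- The group generated by `a8`, `e8`, `u8`. -/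
def EL : List P8 := [1, a8, e8, u8, a8 * e8, a8 * u8, e8 * u8, a8 * e8 * u8]

theorem qb_facts : Perm.sign q8 = 1 ∧ q8 * b8 = b8 * q8 ∧ q8 ^ 3 = 1 ∧ q8 ≠ 1 ∧ Perm.sign e8 = 1 ∧
    Perm.sign u8 = 1 ∧ e8 * a8 = a8 * e8 ∧ e8 * e8 = 1 ∧ e8 * b8 = b8 * e8 ∧
    q8 * a8 * q8⁻¹ = a8 * e8 ∧ q8 * (a8 * e8) * q8⁻¹ = e8 ∧ q8 * e8 * q8⁻¹ = a8 ∧ u8 = a8 * b8 ∧
    a8' * b8 = b8 * a8' ∧ Perm.sign s24 = 1 ∧ s24 * b8 = b8 * s24 ∧ s24 * q8 * s24⁻¹ = q8⁻¹ ∧
    (∀ x ∈ TL, x * b8 = b8 * x) ∧ b8 * a8 = a8 * b8 ∧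
    (∃ π ∈ EL, q8 = a8' * (q8 * a8' * q8⁻¹) * π ∨ q8⁻¹ = a8' * (q8 * a8' * q8⁻¹) * π) := by
  decide +kernel

theorem E4_facts : [1, a8, e8, a8 * e8].Nodup ∧
    (∀ x ∈ [1, a8, e8, a8 * e8], ∀ y ∈ [1, a8, e8, a8 * e8], x * y ∈ [1, a8, e8, a8 * e8] ∧
      x * y = y * x ∧ x * x = 1 ∧ Perm.sign x = 1 ∧ x * b8 = b8 * x) := by
  decide +kernel

theorem alt5_norm_three : ∀ x : alternatingGroup (Fin 5), x ^ 3 = 1 → x ≠ 1 →
    (Finset.univ.filter fun k : alternatingGroup (Fin 5) => k * x * k⁻¹ = x ∨ k * x * k⁻¹ = x⁻¹).card ≤ 6 := by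
  decide +kernel

theorem alt5_norm_cube : ∀ x : alternatingGroup (Fin 5), x ^ 3 = 1 → x ≠ 1 → ∀ k : alternatingGroup (Fin 5),
    (k * x * k⁻¹ = x ∨ k * x * k⁻¹ = x⁻¹) → k ^ 3 = 1 → k = 1 ∨ k = x ∨ k = x⁻¹ := by
  decide +kernel

/-- A subgroup of `A₅` of order at least 12 without elements of order 5 contains no inverted element of
order 3. -/
theorem alt5_no_inverted (K : Subgroup (alternatingGroup (Fin 5))) (hK : 12 ≤ Nat.card K)
    (h24 : ∀ k ∈ K, k ^ 24 = 1) {x y : alternatingGroup (Fin 5)} (hx : x ∈ K) (hy : y ∈ K)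
    (hx3 : x ^ 3 = 1) (hx1 : x ≠ 1) (hy2 : y * y = 1) (hinv : y * x * y⁻¹ = x⁻¹) : False := by
  classical
  haveI : Fact (Nat.Prime 2) := ⟨Nat.prime_two⟩
  haveI : Fact (Nat.Prime 3) := ⟨Nat.prime_three⟩
  haveI : Fact (Nat.Prime 5) := ⟨by norm_num⟩
  have hA5 : Nat.card (alternatingGroup (Fin 5)) = 60 := by
    have h := two_mul_nat_card_alternatingGroup (α := Fin 5)
    rw [Nat.card_perm, Nat.card_fin, show Nat.factorial 5 = 120 from rfl] at h
    omega
  have h60 : Nat.card K ∣ 60 := hA5 ▸ card_subgroup_dvd_card K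
  have h5 : ¬ 5 ∣ Nat.card K := fun h => by
    obtain ⟨k, hk⟩ := exists_prime_orderOf_dvd_card' (G := K) 5 h
    have := orderOf_dvd_of_pow_eq_one (show k ^ 24 = 1 from Subtype.ext (h24 k k.2))
    rw [hk] at this
    norm_num at this
  have hK12 : Nat.card K = 12 := by
    have h12 : Nat.card K ∣ 12 :=
      ((((by norm_num : Nat.Prime 5).coprime_iff_not_dvd).2 h5).symm).dvd_of_dvd_mul_left
        (show Nat.card K ∣ 5 * 12 from h60)
    exact le_antisymm (Nat.le_of_dvd (by norm_num) h12) hK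
  let N : Subgroup (alternatingGroup (Fin 5)) :=
    { carrier := {k | k * x * k⁻¹ = x ∨ k * x * k⁻¹ = x⁻¹}
      one_mem' := Or.inl (by group)
      mul_mem' := by
        intro k l hk hl
        have e : k * l * x * (k * l)⁻¹ = k * (l * x * l⁻¹) * k⁻¹ := by group
        rcases hl with h | h <;> rcases hk with h' | h'
        · exact Or.inl (by rw [e, h, h'])
        · exact Or.inr (by rw [e, h, h'])
        · exact Or.inr (by rw [e, h, show k * x⁻¹ * k⁻¹ = (k * x * k⁻¹)⁻¹ by group, h'])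
        · exact Or.inl (by rw [e, h, show k * x⁻¹ * k⁻¹ = (k * x * k⁻¹)⁻¹ by group, h', inv_inv])
      inv_mem' := by
        intro k hk
        rcases hk with h | h
        · refine Or.inl ?_
          conv_lhs => rw [← h]
          group
        · refine Or.inr ?_
          have h' : x = (k * x * k⁻¹)⁻¹ := by rw [h, inv_inv]
          conv_lhs => rw [h']
          group }
  set L := K ⊓ N with hL
  have hxL : x ∈ L := ⟨hx, Or.inl (by group)⟩
  have hyL : y ∈ L := ⟨hy, Or.inr hinv⟩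
  have hy1 : y ≠ 1 := fun h => by
    rw [h, one_mul, inv_one, mul_one] at hinv
    refine hx1 ?_
    calc x = x ^ 3 * (x * x)⁻¹ := by group
      _ = 1 := by rw [hx3, show x * x = 1 by nth_rw 2 [hinv]; exact mul_inv_cancel x]; group
  have h6 : 6 ≤ Nat.card L := by
    refine Nat.le_of_dvd Nat.card_pos (Nat.Coprime.mul_dvd_of_dvd_of_dvd (m := 2) (n := 3) (by norm_num) ?_ ?_)
    · rw [← orderOf_eq_prime (x := y) (p := 2) (by rw [pow_two, hy2]) hy1, ← Subgroup.orderOf_mk y hyL]
      exact orderOf_dvd_natCard _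
    · rw [← orderOf_eq_prime (x := x) (p := 3) hx3 hx1, ← Subgroup.orderOf_mk x hxL]
      exact orderOf_dvd_natCard _
  have hidx : (L.subgroupOf K).index ≤ 2 := by
    have h := (L.subgroupOf K).card_mul_index
    rw [Nat.card_congr (subgroupOfEquivOfLe (inf_le_left : L ≤ K)).toEquiv, hK12] at h
    nlinarith
  haveI : (L.subgroupOf K).Normal := by
    have h0 : (L.subgroupOf K).index ≠ 0 := Subgroup.index_ne_zero_of_finite
    rcases (show (L.subgroupOf K).index = 1 ∨ (L.subgroupOf K).index = 2 by omega) with h | h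
    · rw [Subgroup.index_eq_one] at h; rw [h]; infer_instance
    · exact Subgroup.normal_of_index_eq_two h
  have hall : ∀ k ∈ K, k ∈ N := by
    intro k hk
    have h1 := (inferInstance : (L.subgroupOf K).Normal).conj_mem ⟨x, hx⟩
      (Subgroup.mem_subgroupOf.2 hxL) ⟨k, hk⟩
    have h2 : k * x * k⁻¹ ∈ N := (Subgroup.mem_subgroupOf.1 h1).2
    rcases alt5_norm_cube x hx3 hx1 _ h2 (by rw [conj_pow, hx3, mul_one, mul_inv_cancel]) with h | h | h
    · exact absurd (conj_eq_one_iff.1 h) hx1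
    · exact Or.inl h
    · exact Or.inr h
  have : Nat.card K ≤ 6 := by
    refine le_trans ?_ (alt5_norm_three x hx3 hx1)
    rw [← Set.ncard_coe_finset, ← Nat.card_coe_set_eq]
    exact Nat.card_mono (Finset.finite_toSet _) fun k hk => Finset.mem_filter.2 ⟨Finset.mem_univ _, hall k hk⟩
  omega

section

variable {G : Type*} [Group G] [Finite G]

/-- An involution acting without fixed points inverts. -/
theorem invol_invert {R : Subgroup G} {i : G} (hi : i * i = 1) (hn : ∀ r ∈ R, i * r * i ∈ R)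
    (hf : ∀ r ∈ R, i * r = r * i → r = 1) {r : G} (hr : r ∈ R) : i * r * i = r⁻¹ := by
  let f : R → R := fun u => ⟨(u : G)⁻¹ * (i * u * i), mul_mem (inv_mem u.2) (hn _ u.2)⟩
  have hf' : Function.Injective f := fun u v e => by
    have e' : (u : G)⁻¹ * (i * u * i) = (v : G)⁻¹ * (i * v * i) := congrArg Subtype.val e
    have h1 : (v : G) * (u : G)⁻¹ = 1 := by
      refine hf _ (mul_mem v.2 (inv_mem u.2)) ?_
      have hii : i⁻¹ = i := inv_eq_of_mul_eq_one_right hi
      calc i * ((v : G) * (u : G)⁻¹) = (i * v * i) * (i * u * i)⁻¹ * i := by rw [mul_inv_rev, mul_inv_rev, hii]; simp [mul_assoc, hi, ← mul_assoc i i]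
        _ = v * ((v : G)⁻¹ * (i * v * i)) * (i * u * i)⁻¹ * i := by group
        _ = v * ((u : G)⁻¹ * (i * u * i)) * (i * u * i)⁻¹ * i := by rw [e']
        _ = _ := by group
    exact (Subtype.ext (mul_inv_eq_one.1 h1)).symm
  obtain ⟨u, hu⟩ := Finite.injective_iff_surjective.1 hf' ⟨r, hr⟩
  have hu' : (u : G)⁻¹ * (i * u * i) = r := congrArg Subtype.val hu
  have hii : i⁻¹ = i := inv_eq_of_mul_eq_one_right hi
  rw [← hu', mul_inv_rev, mul_inv_rev, mul_inv_rev, hii, inv_inv]
  calc i * ((u : G)⁻¹ * (i * u * i)) * i = i * (u : G)⁻¹ * i * u * (i * i) := by group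
    _ = i * ((u : G)⁻¹ * i) * u := by rw [hi]; group

theorem eq_one_of_sq {R : Subgroup G} (hR : ¬ 2 ∣ Nat.card R) {x : G} (hx : x ∈ R) (h2 : x * x = 1) :
    x = 1 := by
  by_contra h1
  haveI : Fact (Nat.Prime 2) := ⟨Nat.prime_two⟩
  refine hR ?_
  rw [← orderOf_eq_prime (x := x) (p := 2) (by rw [pow_two, h2]) h1, ← Subgroup.orderOf_mk x hx]
  exact orderOf_dvd_natCard _

end

namespace Full

variable {G : Type*} [Group G] [Finite G] (E : Full G)
include E

/-- The image of `b8`. -/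
def b : G := E.t b8 sgn_b8

/-- The image of `q8`. -/
def q : G := E.t q8 qb_facts.1

theorem cent_q {x : G} (h : x * E.q = E.q * x) : x ∈ E.H := by
  refine E.cent_conj sgn_dd conj_facts.2.2.1 (fun y hy => E.cent_dd hy) ?_
  rwa [show E.t (cq8 * (w8 * g8) * cq8⁻¹) _ = E.q from E.t_ext _ qb_facts.1 conj_facts.1]

/-- The elements of `H` centralising `b` have orders dividing 24. -/
theorem pow_cent_b {x : G} (hx : x ∈ E.H) (h : x * E.b = E.b * x) : x ^ 24 = 1 := by
  obtain ⟨σ, hs, rfl⟩ := E.mem_H hx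
  have h24 := comm_b ((E.t_comm hs sgn_b8).1 h)
  rw [t, ← map_pow, show (⟨σ, mem_alt hs⟩ : alternatingGroup (Fin 8)) ^ 24 = 1 from Subtype.ext h24, map_one]

/-- A subgroup of order prime to 6 normalised by the centraliser of `b` in `H` is trivial. -/
theorem kill_core (R : Subgroup G) (hRb : ∀ x ∈ R, x * E.b = E.b * x) (h2' : ¬ 2 ∣ Nat.card R)
    (h3 : ¬ 3 ∣ Nat.card R) (hn : ∀ h ∈ E.H, h * E.b = E.b * h → ∀ x ∈ R, h * x * h⁻¹ ∈ R) : R = ⊥ := by
  classical
  obtain ⟨hqs, hqb, hq3, hq1, hes, hus, hea, hee, heb, hqa, hqae, hqe, hu, ha'b, -, -, -, -, hba, π, hπ, hqprod⟩ :=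
    qb_facts
  have hH : ∀ x ∈ R, x ∈ E.H → x = 1 := by
    intro x hx hxH
    have h24 : orderOf x ∣ 24 := orderOf_dvd_of_pow_eq_one (E.pow_cent_b hxH (hRb x hx))
    have hd : orderOf x ∣ Nat.card R := by
      rw [← Subgroup.orderOf_mk x hx]; exact orderOf_dvd_natCard _
    have hcop : Nat.Coprime (Nat.card R) 24 := by
      rw [show (24 : ℕ) = 2 ^ 3 * 3 from rfl]
      exact ((Nat.prime_two.coprime_iff_not_dvd.2 h2').pow_left 3).symm.mul_right
        (Nat.prime_three.coprime_iff_not_dvd.2 h3).symm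
    exact orderOf_eq_one_iff.1 (Nat.dvd_one.1 (hcop.gcd_eq_one ▸ Nat.dvd_gcd hd h24))
  have hnR : ∀ σ, ∀ hs : Perm.sign σ = 1, σ * b8 = b8 * σ → ∀ x ∈ R, E.t σ hs * x * (E.t σ hs)⁻¹ ∈ R :=
    fun σ hs h => hn _ (E.t_mem _ _) ((E.t_comm hs sgn_b8).2 h)
  have tt : ∀ σ, ∀ hs : Perm.sign σ = 1, σ * σ = 1 → E.t σ hs * E.t σ hs = 1 :=
    fun σ hs h => (E.t_mul hs hs).trans ((E.t_ext _ _ h).trans E.t_one)
  have ti : ∀ σ, ∀ hs : Perm.sign σ = 1, σ * σ = 1 → (E.t σ hs)⁻¹ = E.t σ hs :=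
    fun σ hs h => inv_eq_of_mul_eq_one_right (tt σ hs h)
  set A := E.t a8 sgn_a8 with hA
  set e := E.t e8 hes with he
  set q := E.t q8 hqs with hq
  set a' := E.t a8' sgn_a8' with ha'
  have haa : a8 * a8 = 1 := by decide +kernel
  have ha'a' : a8' * a8' = 1 := by decide +kernel
  have qA : q * A * q⁻¹ = A * e := (E.t_conj _ _).trans ((E.t_ext _ _ hqa).trans (E.t_mul _ _).symm)
  have qAe : q * (A * e) * q⁻¹ = e := by
    rw [hA, he, E.t_mul sgn_a8 hes]; exact (E.t_conj _ _).trans (E.t_ext _ _ hqae)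
  have qe : q * e * q⁻¹ = A := (E.t_conj _ _).trans (E.t_ext _ _ hqe)
  have hfix_q : ∀ r ∈ R, r * q = q * r → r = 1 := fun r hr h => hH r hr (E.cent_q h)
  -- the common fixed points of `a` and `e`
  let Q' : Subgroup G := R ⊓ centralizer {A} ⊓ centralizer {e}
  have mQ : ∀ x, x ∈ Q' ↔ x ∈ R ∧ x * A = A * x ∧ x * e = e * x := by
    intro x
    simp only [Q', Subgroup.mem_inf, mem_centralizer_singleton_iff, and_assoc]
  have hQ0 : ∀ x ∈ Q', x = 1 := by
    intro x hx
    have hAa' : A * a' = a' * A := (E.t_comm _ _).2 (by decide +kernel)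
    have hcA : ∀ y ∈ Q', y * E.a = E.a * y := fun y hy => by rw [E.a_t]; exact ((mQ y).1 hy).2.1
    have hfix : ∀ y ∈ Q', a' * y = y * a' → y = 1 := by
      intro y hy h
      refine hH y ((mQ y).1 hy).1 (E.cv_le (E.mem_CV.2 ⟨hcA y hy, ?_⟩))
      rw [E.a'_t]; exact h.symm
    have hπP : ∀ y ∈ Q', ∀ τ, τ ∈ EL → ∀ ht : Perm.sign τ = 1, Commute y (E.t τ ht) := by
      intro y hy τ hτ ht
      obtain ⟨hyR, hyA, hye⟩ := (mQ y).1 hy
      have cA : Commute y A := hyA
      have ce : Commute y e := hye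
      have cu : Commute y (E.t u8 hus) := by
        rw [show E.t u8 hus = A * E.b from (E.t_ext hus _ hu).trans (E.t_mul sgn_a8 sgn_b8).symm]
        exact cA.mul_right (hRb y hyR)
      simp only [EL, List.mem_cons, List.not_mem_nil, or_false] at hτ
      rcases hτ with rfl | rfl | rfl | rfl | rfl | rfl | rfl | rfl
      · rw [E.t_one]; exact Commute.one_right y
      · exact cA
      · exact ce
      · exact cu
      · rw [← E.t_mul sgn_a8 hes]; exact cA.mul_right ce
      · rw [← E.t_mul sgn_a8 hus]; exact cA.mul_right cu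
      · rw [← E.t_mul hes hus]; exact ce.mul_right cu
      · rw [← E.t_mul (by rw [map_mul, sgn_a8, hes, one_mul]) hus, ← E.t_mul sgn_a8 hes]
        exact (cA.mul_right ce).mul_right cu
    have conjQ : ∀ g : G, (∀ y ∈ R, g * y * g⁻¹ ∈ R) → ∀ y ∈ Q', Commute y (g⁻¹ * A * g) →
        Commute y (g⁻¹ * e * g) → g * y * g⁻¹ ∈ Q' := by
      intro g hg y hy c1 c2
      refine (mQ _).2 ⟨hg y ((mQ y).1 hy).1, ?_, ?_⟩
      · calc g * y * g⁻¹ * A = g * (y * (g⁻¹ * A * g)) * g⁻¹ := by group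
          _ = g * ((g⁻¹ * A * g) * y) * g⁻¹ := by rw [c1.eq]
          _ = _ := by group
      · calc g * y * g⁻¹ * e = g * (y * (g⁻¹ * e * g)) * g⁻¹ := by group
          _ = g * ((g⁻¹ * e * g) * y) * g⁻¹ := by rw [c2.eq]
          _ = _ := by group
    have hqQ : ∀ y ∈ Q', q⁻¹ * y * q ∈ Q' := by
      intro y hy
      have cA : Commute y A := ((mQ y).1 hy).2.1
      have ce : Commute y e := ((mQ y).1 hy).2.2
      have := conjQ q⁻¹ (fun z hz => hn q⁻¹ (inv_mem (E.t_mem _ _))
        (Commute.inv_left ((E.t_comm hqs sgn_b8).2 hqb) :) z hz) y hy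
        (by rw [inv_inv, qA]; exact cA.mul_right ce) (by rw [inv_inv, qe]; exact cA)
      rwa [inv_inv] at this
    have ha'Q : ∀ y ∈ Q', a' * y * a' ∈ Q' := by
      intro y hy
      have := conjQ a' (hnR a8' sgn_a8' ha'b) y hy
        (by
          rw [show a'⁻¹ * A * a' = A by rw [mul_assoc, hAa', inv_mul_cancel_left]]
          exact ((mQ y).1 hy).2.1)
        (by
          rw [ti a8' sgn_a8' ha'a',
            show a' * e * a' = E.t (a8' * e8 * a8') (by rw [map_mul, map_mul, sgn_a8', hes]; rfl) from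
              (congrArg (· * a') (E.t_mul sgn_a8' hes)).trans (E.t_mul _ sgn_a8')]
          exact hπP y hy _ (by decide +kernel) _)
      rwa [ti a8' sgn_a8' ha'a'] at this
    have inv1 : ∀ y ∈ Q', a' * y * a' = y⁻¹ := fun y hy =>
      invol_invert (tt a8' sgn_a8' ha'a') ha'Q hfix hy
    have hqQ' : ∀ y ∈ Q', q * y * q⁻¹ ∈ Q' := by
      intro y hy
      have h := hqQ _ (hqQ y hy)
      have e2 : q⁻¹ * q⁻¹ = q := by
        have h3 : q * q * q = 1 := by
          rw [hq, E.t_mul hqs hqs, E.t_mul]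
          exact (E.t_ext _ _ (by rw [← hq3, pow_succ, pow_two])).trans E.t_one
        rw [← mul_inv_rev, inv_eq_iff_mul_eq_one]; exact h3
      have e3 : q * q = q⁻¹ := by rw [← inv_inv (q * q), mul_inv_rev, e2]
      rwa [show q⁻¹ * (q⁻¹ * y * q) * q = (q⁻¹ * q⁻¹) * y * (q * q) by group, e2, e3] at h
    have inv2 : ∀ y ∈ Q', (q * a' * q⁻¹) * y * (q * a' * q⁻¹) = y⁻¹ := by
      intro y hy
      have h := inv1 _ (hqQ y hy)
      calc q * a' * q⁻¹ * y * (q * a' * q⁻¹) = q * (a' * (q⁻¹ * y * q) * a') * q⁻¹ := by group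
        _ = q * (q⁻¹ * y * q)⁻¹ * q⁻¹ := by rw [h]
        _ = y⁻¹ := by group
    set p := a' * (q * a' * q⁻¹) with hp
    have hcomm : Commute p x := by
      have h1 := inv2 x hx
      have h2 := inv1 _ (inv_mem hx)
      rw [inv_inv] at h2
      have h3 : p * x * (q * a' * q⁻¹ * a') = x := by
        rw [hp]
        calc a' * (q * a' * q⁻¹) * x * (q * a' * q⁻¹ * a') = a' * ((q * a' * q⁻¹) * x * (q * a' * q⁻¹)) * a' := by group
          _ = x := by rw [h1, h2]
      have h4 : q * a' * q⁻¹ * a' = p⁻¹ := by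
        rw [hp, mul_inv_rev, mul_inv_rev, mul_inv_rev, inv_inv, ti a8' sgn_a8' ha'a', mul_assoc q a']
      rw [h4] at h3
      exact mul_inv_eq_iff_eq_mul.1 h3
    have hπs : Perm.sign π = 1 := by
      have : ∀ τ ∈ EL, Perm.sign τ = 1 := by decide +kernel
      exact this π hπ
    have hpt : p = E.t (a8' * (q8 * a8' * q8⁻¹)) (by rw [map_mul, sign_conj', sgn_a8', one_mul]) := by
      rw [hp, hq, ha', E.t_conj hqs sgn_a8', E.t_mul]
    have hXs : Perm.sign (a8' * (q8 * a8' * q8⁻¹) * π) = 1 := by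
      rw [map_mul, map_mul, sign_conj', sgn_a8', hπs]; rfl
    have hc2 : Commute (E.t (a8' * (q8 * a8' * q8⁻¹) * π) hXs) x := by
      rw [← E.t_mul (σ := a8' * (q8 * a8' * q8⁻¹)) (by rw [map_mul, sign_conj', sgn_a8', one_mul]) hπs, ← hpt]
      exact hcomm.mul_left (hπP x hx π hπ hπs).symm
    refine hfix_q x ((mQ x).1 hx).1 ?_
    rcases hqprod with h | h
    · rw [show q = E.t (a8' * (q8 * a8' * q8⁻¹) * π) hXs from E.t_ext hqs hXs h]
      exact hc2.symm.eq
    · have : q⁻¹ = E.t (a8' * (q8 * a8' * q8⁻¹) * π) hXs := (E.t_inv hqs).trans (E.t_ext _ hXs h)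
      rw [← this] at hc2
      exact (Commute.inv_left_iff.1 hc2).symm.eq
  -- the fixed points of `a`
  have hfpf : SelfThree.Fpf q R := by
    refine ⟨?_, hnR q8 hqs hqb, fun r hr h => hfix_q r hr h.symm⟩
    rw [hq, t, ← map_pow]
    exact (congrArg E.θ (Subtype.ext hq3 : (⟨q8, mem_alt hqs⟩ : alternatingGroup (Fin 8)) ^ 3 = 1)).trans (map_one _)
  have hA0 : ∀ x ∈ R, x * A = A * x → x = 1 := by
    intro x hx hxA
    have hAe : A * e = e * A := (E.t_comm _ _).2 hea.symm
    have hee' := tt e8 hes hee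
    have hAA := tt a8 sgn_a8 haa
    let RA : Subgroup G := R ⊓ centralizer {A}
    have invE : ∀ y ∈ R, y * A = A * y → e * y * e = y⁻¹ := by
      intro y hy hyA
      refine invol_invert (R := RA) hee' (fun r hr => ⟨?_, ?_⟩) (fun r hr h => ?_)
        ⟨hy, mem_centralizer_singleton_iff.2 hyA⟩
      · have := hnR e8 hes heb r hr.1
        rwa [ti e8 hes hee] at this
      · have hr' : r * A = A * r := mem_centralizer_singleton_iff.1 hr.2
        refine mem_centralizer_singleton_iff.2 ?_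
        calc e * r * e * A = e * r * (e * A) := by group
          _ = e * r * (A * e) := by rw [hAe]
          _ = e * (r * A) * e := by group
          _ = e * A * r * e := by rw [hr']; group
          _ = A * (e * r * e) := by rw [← hAe]; group
      · exact hQ0 r ((mQ r).2 ⟨hr.1, mem_centralizer_singleton_iff.1 hr.2, h.symm⟩)
    have hAi : A⁻¹ = A := ti a8 sgn_a8 haa
    have hAx : A * x * A = x := by rw [← hxA, mul_assoc, hAA, mul_one]
    have i1 : e * x * e = x⁻¹ := invE x hx hxA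
    have i2 : (A * e) * x * (A * e) = x⁻¹ := by
      calc A * e * x * (A * e) = A * e * x * (e * A) := by rw [hAe]
        _ = A * (e * x * e) * A := by group
        _ = A⁻¹ * x⁻¹ * A⁻¹ := by rw [i1, hAi]
        _ = (A * x * A)⁻¹ := by group
        _ = x⁻¹ := by rw [hAx]
    have j1 : A * (q * x * q⁻¹) * A = (q * x * q⁻¹)⁻¹ := by
      rw [← qe]
      calc q * e * q⁻¹ * (q * x * q⁻¹) * (q * e * q⁻¹) = q * (e * x * e) * q⁻¹ := by group
        _ = _ := by rw [i1]; group
    have j2 : A * (q⁻¹ * x * q) * A = (q⁻¹ * x * q)⁻¹ := by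
      have : A = q⁻¹ * (A * e) * q := by rw [← qA]; group
      rw [this]
      calc q⁻¹ * (A * e) * q * (q⁻¹ * x * q) * (q⁻¹ * (A * e) * q)
          = q⁻¹ * ((A * e) * x * (A * e)) * q := by group
        _ = _ := by rw [i2]; group
    have hp := hfpf.prod_eq hx
    have hc : Commute x (q * x * q⁻¹) := hfpf.commute_conj hx
    have h1 : x * (q * x * q⁻¹)⁻¹ * (q⁻¹ * x * q)⁻¹ = 1 := by
      calc x * (q * x * q⁻¹)⁻¹ * (q⁻¹ * x * q)⁻¹
          = (A * x * A) * (A * (q * x * q⁻¹) * A) * (A * (q⁻¹ * x * q) * A) := by rw [hAx, j1, j2]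
        _ = A * x * (A * A) * (q * x * q⁻¹) * (A * A) * (q⁻¹ * x * q) * A := by group
        _ = A * (x * (q * x * q⁻¹) * (q⁻¹ * x * q)) * A := by rw [hAA]; group
        _ = 1 := by rw [hp, mul_one, hAA]
    have h2 : (q⁻¹ * x * q)⁻¹ = x * (q * x * q⁻¹) :=
      inv_eq_of_mul_eq_one_left hp
    rw [h2] at h1
    refine eq_one_of_sq h2' hx ?_
    calc x * x = x * ((q * x * q⁻¹)⁻¹ * (x * (q * x * q⁻¹))) := by rw [hc.eq, inv_mul_cancel_left]
      _ = 1 := by rw [← mul_assoc, h1]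
  -- generation by the centralisers
  obtain ⟨hE1, hE⟩ := E4_facts
  let A4 : Subgroup P8 := ofList [1, a8, e8, a8 * e8] (by simp) fun u hu v hv => (hE u hu v hv).1
  have hA4 : ∀ u ∈ E.img A4, ∃ σ, ∃ hs : Perm.sign σ = 1, σ ∈ [1, a8, e8, a8 * e8] ∧ E.t σ hs = u :=
    fun u hu => E.mem_img.1 hu
  have hcard : Nat.card (E.img A4) = 4 := by
    rw [E.card_img fun u hu => (hE u hu u hu).2.2.2.1, card_ofList _ _ hE1]
    rfl
  haveI : IsMulCommutative (E.img A4) := ⟨⟨fun u v => Subtype.ext (by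
    obtain ⟨σ, hs, hσ, eu⟩ := hA4 u u.2
    obtain ⟨τ, ht, hτ, ev⟩ := hA4 v v.2
    rw [Subgroup.coe_mul, Subgroup.coe_mul, ← eu, ← ev]
    exact (E.t_comm hs ht).2 (hE σ hσ τ hτ).2.1)⟩⟩
  have hexp : ∀ u : E.img A4, u ^ 2 = 1 := fun u => Subtype.ext (by
    obtain ⟨σ, hs, hσ, eu⟩ := hA4 u u.2
    rw [Subgroup.coe_pow, ← eu, pow_two]
    exact tt σ hs (hE σ hσ σ hσ).2.2.1)
  have hnc : ¬ IsCyclic (E.img A4) := fun h => by
    obtain ⟨g, hg⟩ := isCyclic_iff_exists_orderOf_eq_natCard.1 h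
    rw [hcard] at hg
    have := Nat.le_of_dvd (by norm_num) (orderOf_dvd_of_pow_eq_one (hexp g))
    omega
  have hnorm : E.img A4 ≤ normalizer (R : Set G) := by
    intro u hu
    obtain ⟨σ, hs, hσ, rfl⟩ := hA4 u hu
    refine mem_normalizer_iff_map_conj_eq.2 (eq_of_le_of_card_ge ?_ ?_)
    · rintro _ ⟨r, hr, rfl⟩
      exact hnR σ hs (hE σ hσ σ hσ).2.2.2.2 r hr
    · exact (card_map_of_injective (MulAut.conj _).injective).ge
  have hcop : (Nat.card (E.img A4)).Coprime (Nat.card R) := by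
    rw [hcard, show (4 : ℕ) = 2 ^ 2 from rfl]
    exact (Nat.prime_two.coprime_iff_not_dvd.2 h2').pow_left 2
  rw [eq_bot_iff, ← CoprimeAct.generated_by_centralizers hnc hnorm hcop]
  refine iSup₂_le fun d hd n hn' => ?_
  obtain ⟨hnR', hnd⟩ := hn'
  have hnd := mem_centralizer_singleton_iff.1 hnd
  obtain ⟨σ, hs, hσ, rfl⟩ := hA4 d hd.1
  rw [Subgroup.mem_bot]
  simp only [List.mem_cons, List.not_mem_nil, or_false] at hσ
  rcases hσ with rfl | rfl | rfl | rfl
  · exact absurd E.t_one hd.2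
  · exact hA0 n hnR' hnd
  · -- `e` is a conjugate of `a`
    have h := hA0 (q * n * q⁻¹) (hnR q8 hqs hqb n hnR') (by
      rw [← qe]
      calc q * n * q⁻¹ * (q * e * q⁻¹) = q * (n * e) * q⁻¹ := by group
        _ = q * (e * n) * q⁻¹ := by rw [hnd]
        _ = _ := by group)
    exact conj_eq_one_iff.1 h
  · have hnd' : n * (A * e) = (A * e) * n := by rw [hA, he, E.t_mul sgn_a8 hes]; exact hnd
    have h := hA0 (q⁻¹ * n * q) (by
        have := hn q⁻¹ (inv_mem (E.t_mem _ _)) (Commute.inv_left ((E.t_comm hqs sgn_b8).2 hqb) :) n hnR'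
        rwa [inv_inv] at this) (by
      rw [show A = q⁻¹ * (A * e) * q by rw [← qA]; group]
      calc q⁻¹ * n * q * (q⁻¹ * (A * e) * q) = q⁻¹ * (n * (A * e)) * q := by group
        _ = q⁻¹ * ((A * e) * n) * q := by rw [hnd']
        _ = _ := by group)
    calc n = q * (q⁻¹ * n * q) * q⁻¹ := by group
      _ = 1 := by rw [h]; group

/-- The centraliser of `b` lies in `H`. -/
theorem cent_b {c : G} (hc : c * E.b = E.b * c) : c ∈ E.H := by
  classical
  obtain ⟨hqs, hqb, hq3, hq1, -, -, -, -, -, -, -, -, -, -, hss, hsb, hsq, hTb, -, -⟩ := qb_facts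
  haveI : Fact (Nat.Prime 3) := ⟨Nat.prime_three⟩
  haveI : Fact (Nat.Prime 2) := ⟨Nat.prime_two⟩
  set C := centralizer ({E.b} : Set G) with hC
  have tq3 : E.q ^ 3 = 1 := by
    rw [q, t, ← map_pow]
    exact (congrArg E.θ (Subtype.ext hq3 : (⟨q8, mem_alt hqs⟩ : alternatingGroup (Fin 8)) ^ 3 = 1)).trans (map_one _)
  have tq1 : E.q ≠ 1 := fun e => hq1 (E.t_val hqs (map_one _) (e.trans E.t_one.symm))
  have tb2 : E.b * E.b = 1 := (E.t_mul _ _).trans ((E.t_ext _ _ (by decide +kernel)).trans E.t_one)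
  have tb1 : E.b ≠ 1 := fun e => absurd (E.t_val sgn_b8 (map_one _) (e.trans E.t_one.symm)) (by decide +kernel)
  have hqC : E.q ∈ C := mem_centralizer_singleton_iff.2 ((E.t_comm hqs sgn_b8).2 hqb)
  -- the part inside `H`
  set CH := E.H ⊓ C with hCH
  have hqCH : E.q ∈ CH := ⟨E.t_mem _ _, hqC⟩
  have h192 : 192 ∣ Nat.card CH := by
    have h3 : 3 ∣ Nat.card CH := by
      rw [← orderOf_eq_prime tq3 tq1, ← Subgroup.orderOf_mk _ hqCH]; exact orderOf_dvd_natCard _
    have h64 : 64 ∣ Nat.card CH := by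
      rw [← E.card_T]
      refine card_dvd_of_le fun x hx => ⟨E.T_le hx, ?_⟩
      obtain ⟨σ, hs, hσ, rfl⟩ := E.mem_img.1 hx
      exact mem_centralizer_singleton_iff.2 ((E.t_comm hs sgn_b8).2 (hTb σ hσ))
    exact Nat.Coprime.mul_dvd_of_dvd_of_dvd (m := 64) (n := 3) (by norm_num) h64 h3
  suffices hCc : Nat.card C ≤ 192 by
    have heq : CH = C := eq_of_le_of_card_ge inf_le_right (hCc.trans (Nat.le_of_dvd Nat.card_pos h192))
    exact (heq.ge (mem_centralizer_singleton_iff.2 hc) : c ∈ CH).1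
  have hfac2 : ∀ m, 2 ^ m ∣ Nat.card C → m ≤ 6 := fun m hm => by
    rw [← E.fac_two]
    exact (Nat.prime_two.pow_dvd_iff_le_factorization Nat.card_pos.ne').1 (hm.trans (card_subgroup_dvd_card C))
  -- the quotient by `b`
  set bC : C := ⟨E.b, mem_centralizer_singleton_iff.2 rfl⟩ with hbC
  set qC : C := ⟨E.q, hqC⟩ with hqCdef
  set B : Subgroup C := zpowers bC with hB
  have hbcen : ∀ g : C, g * bC = bC * g := fun g => Subtype.ext (mem_centralizer_singleton_iff.1 g.2)
  haveI hBn : B.Normal := ⟨fun n hn g => by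
    obtain ⟨k, rfl⟩ := mem_zpowers_iff.1 hn
    rw [(show Commute g (bC ^ k) from (show Commute g bC from hbcen g).zpow_right k).eq, mul_inv_cancel_right]
    exact zpow_mem (mem_zpowers bC) k⟩
  have hbo : orderOf bC = 2 := by
    rw [hbC, orderOf_mk]; exact orderOf_eq_prime (by rw [pow_two, tb2]) tb1
  have hB2 : ∀ y ∈ B, y = 1 ∨ y = bC := by
    intro y hy
    obtain ⟨i, hi, e⟩ := Finset.mem_image.1 (mem_zpowers_iff_mem_range_orderOf.1 hy)
    rw [Finset.mem_range, hbo] at hi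
    interval_cases i
    · exact Or.inl (e.symm.trans (pow_zero _))
    · exact Or.inr (e.symm.trans (pow_one _))
  set π := QuotientGroup.mk' B with hπ
  have hqnB : qC ∉ B := by
    intro h
    rcases hB2 _ h with e | e
    · exact tq1 (congrArg Subtype.val e)
    · have e' : E.q = E.b := congrArg Subtype.val e
      rw [e', pow_succ, pow_two, tb2, one_mul] at tq3
      exact tb1 tq3
  have hxo : orderOf (π qC) = 3 := by
    refine orderOf_eq_prime ?_ fun e => hqnB ((QuotientGroup.eq_one_iff qC).1 e)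
    rw [← map_pow, show qC ^ 3 = 1 from Subtype.ext tq3, map_one]
  have hcent : Subgroup.centralizer ({π qC} : Set (C ⧸ B)) = zpowers (π qC) := by
    refine le_antisymm (fun y hy => ?_) (Subgroup.zpowers_le.2 (mem_centralizer_singleton_iff.2 rfl))
    obtain ⟨g, rfl⟩ := QuotientGroup.mk'_surjective B y
    have h1 := mem_centralizer_singleton_iff.1 hy
    rw [← map_mul, ← map_mul, hπ, QuotientGroup.mk'_apply, QuotientGroup.mk'_apply, QuotientGroup.eq] at h1
    have hgq : g * qC = qC * g := by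
      rcases hB2 _ h1 with e | e
      · exact inv_mul_eq_one.1 e
      · exfalso
        have e' : g⁻¹ * qC * g = qC * bC := by
          have : qC * g = g * qC * bC := by rw [← e]; group
          rw [mul_assoc, this]; group
        have h3 : (g⁻¹ * qC * g) ^ 3 = 1 := by
          have := conj_pow (a := g⁻¹) (b := qC) (i := 3)
          rw [inv_inv] at this
          rw [this, show qC ^ 3 = 1 from Subtype.ext tq3]; group
        rw [e', (show Commute qC bC from hbcen qC).mul_pow, show qC ^ 3 = 1 from Subtype.ext tq3, one_mul] at h3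
        have h3' : E.b ^ 3 = 1 := congrArg Subtype.val h3
        rw [pow_succ, pow_two, tb2, one_mul] at h3'
        exact tb1 h3'
    have hgH : (g : G) ∈ E.H := E.cent_q (congrArg Subtype.val hgq)
    obtain ⟨σ, hs, e⟩ := E.mem_H hgH
    have hgb : (g : G) * E.b = E.b * g := mem_centralizer_singleton_iff.1 g.2
    have hgq' : (g : G) * E.q = E.q * g := congrArg Subtype.val hgq
    rw [← e] at hgb hgq'
    have hm := comm_bq hs ((E.t_comm hs sgn_b8).1 hgb) ((E.t_comm hs hqs).1 hgq')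
    have hmem : ∀ τ ∈ [1, q8, q8 * q8, b8, b8 * q8, b8 * (q8 * q8)], ∀ ht : Perm.sign τ = 1,
        ∃ y : C, (y : G) = E.t τ ht ∧ π y ∈ zpowers (π qC) := by
      intro τ hτ ht
      have hb0 : π bC = 1 := (QuotientGroup.eq_one_iff bC).2 (mem_zpowers bC)
      simp only [List.mem_cons, List.not_mem_nil, or_false] at hτ
      rcases hτ with rfl | rfl | rfl | rfl | rfl | rfl
      · exact ⟨1, E.t_one.symm, by rw [map_one]; exact one_mem _⟩
      · exact ⟨qC, rfl, mem_zpowers _⟩
      · exact ⟨qC * qC, (E.t_mul hqs hqs).trans (E.t_ext _ _ rfl),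
          by rw [map_mul]; exact mul_mem (mem_zpowers _) (mem_zpowers _)⟩
      · exact ⟨bC, rfl, by rw [hb0]; exact one_mem _⟩
      · exact ⟨bC * qC, (E.t_mul sgn_b8 hqs).trans (E.t_ext _ _ rfl),
          by rw [map_mul, hb0, one_mul]; exact mem_zpowers _⟩
      · refine ⟨bC * (qC * qC), ?_, by
          rw [map_mul, map_mul, hb0, one_mul]; exact mul_mem (mem_zpowers _) (mem_zpowers _)⟩
        show E.b * (E.q * E.q) = _
        rw [b, q, E.t_mul hqs hqs, E.t_mul sgn_b8]
    obtain ⟨y, hy, hπy⟩ := hmem σ hm hs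
    rwa [show g = y from Subtype.ext (e.symm.trans hy.symm)]
  have hcardC : Nat.card C = 2 * Nat.card (C ⧸ B) := by
    rw [← B.card_mul_index, hB, Nat.card_zpowers, hbo]
    rfl
  rcases SelfThree.main _ (C ⧸ B) rfl (π qC) hxo hcent with
    ⟨N, hN, hnil, hcop, hq36⟩ | ⟨M, hM, -, hM2, ⟨e⟩⟩ | hL
  · -- the nilpotent case
    haveI := hN
    have h36 : Nat.card ((C ⧸ B) ⧸ N) = 3 ∨ Nat.card ((C ⧸ B) ⧸ N) = 6 := by
      rcases hq36 with h | ⟨⟨e⟩⟩
      · exact Or.inl h
      · right; rw [Nat.card_congr e.toEquiv, Nat.card_perm, Nat.card_fin]; rfl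
    have hXN : Nat.card (C ⧸ B) = Nat.card N * Nat.card ((C ⧸ B) ⧸ N) := (N.card_mul_index).symm
    by_cases hodd : ∃ p, p.Prime ∧ p ≠ 2 ∧ p ∣ Nat.card N
    · exfalso
      obtain ⟨p, hp, hp2, hpN⟩ := hodd
      haveI := Fact.mk hp
      have hp3 : p ≠ 3 := fun h => by
        subst h
        exact (Nat.prime_three.coprime_iff_not_dvd.1 hcop.symm) hpN
      obtain ⟨P⟩ := (inferInstance : Nonempty (Sylow p C))
      have hpne : P.1 ≠ ⊥ := P.ne_bot_of_dvd_card (by
        rw [hcardC, hXN]; exact dvd_mul_of_dvd_right (dvd_mul_of_dvd_left hpN _) _)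
      haveI : Group.IsNilpotent N := hnil
      obtain ⟨Pn⟩ := (inferInstance : Nonempty (Sylow p N))
      haveI hPn : (Pn : Subgroup N).Normal := inferInstance
      -- every element of `p`-power order maps into the Sylow subgroup of `N`
      have hpN' : ∀ y : C, (∃ k, y ^ p ^ k = 1) → ∃ h : π y ∈ N, (⟨π y, h⟩ : N) ∈ (Pn : Subgroup N) := by
        rintro y ⟨k, hk⟩
        have hy : (π y) ^ p ^ k = 1 := by rw [← map_pow, hk, map_one]
        have h1 : (π y) ^ Nat.card ((C ⧸ B) ⧸ N) ∈ N := N.pow_index_mem _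
        have hcp : Nat.Coprime (p ^ k) (Nat.card ((C ⧸ B) ⧸ N)) := by
          refine Nat.Coprime.pow_left k (hp.coprime_iff_not_dvd.2 fun h => ?_)
          rcases h36 with e | e <;> rw [e] at h
          · exact hp3 ((Nat.prime_dvd_prime_iff_eq hp Nat.prime_three).1 h)
          · rcases (Nat.Prime.dvd_mul hp).1 (show p ∣ 2 * 3 from h) with h | h
            · exact hp2 ((Nat.prime_dvd_prime_iff_eq hp Nat.prime_two).1 h)
            · exact hp3 ((Nat.prime_dvd_prime_iff_eq hp Nat.prime_three).1 h)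
        have hmem : π y ∈ N := by
          have : π y ∈ zpowers ((π y) ^ Nat.card ((C ⧸ B) ⧸ N)) := by
            rw [mem_zpowers_pow_iff]
            exact (hcp.coprime_dvd_left (orderOf_dvd_of_pow_eq_one hy)).symm
          exact Subgroup.zpowers_le.2 h1 this
        refine ⟨hmem, ?_⟩
        have hzp : IsPGroup p (zpowers (⟨π y, hmem⟩ : N)) := by
          obtain ⟨j, -, hj⟩ := (Nat.dvd_prime_pow hp).1 (orderOf_dvd_of_pow_eq_one hy)
          exact IsPGroup.of_card (n := j) (by rw [Nat.card_zpowers, orderOf_mk, hj])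
        obtain ⟨S, hS⟩ := hzp.exists_le_sylow
        letI := Sylow.unique_of_normal Pn hPn
        rw [Subsingleton.elim Pn S]
        exact hS (mem_zpowers _)
      set Pt : Subgroup C := ((Pn : Subgroup N).map N.subtype).comap π with hPt
      have hPle : (P : Subgroup C) ≤ Pt := fun y hy => by
        obtain ⟨k, hk⟩ := P.isPGroup' ⟨y, hy⟩
        obtain ⟨h, h'⟩ := hpN' y ⟨k, congrArg Subtype.val hk⟩
        exact ⟨_, h', rfl⟩
      have hPtc : Nat.card Pt ∣ 2 * Nat.card (Pn : Subgroup N) := by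
        set f := π.subgroupMap Pt with hf
        have h1 := f.ker.card_mul_index
        rw [Subgroup.index_ker, MonoidHom.range_eq_top.2 (π.subgroupMap_surjective Pt),
          Nat.card_congr Subgroup.topEquiv.toEquiv] at h1
        rw [← h1]
        refine Nat.mul_dvd_mul ?_ ?_
        · rw [← card_map_of_injective (f := Pt.subtype) Pt.subtype_injective]
          refine (card_dvd_of_le (K := B) ?_).trans (by rw [hB, Nat.card_zpowers, hbo])
          rintro _ ⟨y, hy, rfl⟩
          exact (QuotientGroup.eq_one_iff _).1 (congrArg Subtype.val (MonoidHom.mem_ker.1 hy))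
        · rw [← card_map_of_injective (f := N.subtype) N.subtype_injective]
          exact card_dvd_of_le (map_comap_le _ _)
      obtain ⟨m, hm⟩ := IsPGroup.iff_card.1 Pn.isPGroup'
      obtain ⟨n, hn⟩ := IsPGroup.iff_card.1 P.isPGroup'
      have hidx : ∀ y ∈ Pt, (∃ k, y ^ p ^ k = 1) → y ∈ (P : Subgroup C) := by
        -- the index of `P` in `Pt` divides 2
        have hmn : m ≤ n := by
          have h : p ^ m ∣ Nat.card C := by
            rw [← hm, hcardC, hXN]
            exact dvd_mul_of_dvd_right (dvd_mul_of_dvd_left (card_subgroup_dvd_card _) _) _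
          have hPc := P.card_eq_multiplicity
          rw [hn] at hPc
          rw [Nat.pow_right_injective hp.two_le hPc]
          exact (hp.pow_dvd_iff_le_factorization Nat.card_pos.ne').1 h
        have hri : ((P : Subgroup C).subgroupOf Pt).index ∣ 2 := by
          have h := ((P : Subgroup C).subgroupOf Pt).card_mul_index
          rw [Nat.card_congr (subgroupOfEquivOfLe hPle).toEquiv, hn] at h
          have h2 : p ^ n * ((P : Subgroup C).subgroupOf Pt).index ∣ 2 * p ^ n := by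
            rw [h]; exact hPtc.trans (by rw [hm]; exact Nat.mul_dvd_mul_left 2 (pow_dvd_pow p hmn))
          rw [mul_comm 2] at h2
          exact Nat.dvd_of_mul_dvd_mul_left (pow_pos hp.pos n) h2
        haveI : ((P : Subgroup C).subgroupOf Pt).Normal := by
          rcases (Nat.dvd_prime Nat.prime_two).1 hri with h | h
          · rw [Subgroup.index_eq_one] at h; rw [h]; infer_instance
          · exact Subgroup.normal_of_index_eq_two h
        rintro y hy ⟨k, hk⟩
        have h2 : (⟨y, hy⟩ : Pt) ^ 2 ∈ (P : Subgroup C).subgroupOf Pt := by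
          obtain ⟨c, hc⟩ := hri
          rw [hc, pow_mul]
          exact pow_mem (Subgroup.pow_index_mem _ _) c
        have h2' : y ^ 2 ∈ (P : Subgroup C) := by simpa [Subgroup.mem_subgroupOf] using h2
        have : y ∈ zpowers (y ^ 2) := by
          rw [mem_zpowers_pow_iff]
          exact (((Nat.coprime_primes hp Nat.prime_two).2 hp2).pow_left k).coprime_dvd_left
            (orderOf_dvd_of_pow_eq_one hk) |>.symm
        exact Subgroup.zpowers_le.2 h2' this
      have hall : ∀ y : C, (∃ k, y ^ p ^ k = 1) → y ∈ (P : Subgroup C) := fun y hy => by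
        obtain ⟨h, h'⟩ := hpN' y hy
        exact hidx y ⟨_, h', rfl⟩ hy
      have hRc : Nat.card ((P : Subgroup C).map C.subtype) = p ^ n := by
        rw [card_map_of_injective (Subgroup.subtype_injective _)]; exact hn
      have hbot := E.kill_core ((P : Subgroup C).map C.subtype) ?_ ?_ ?_ ?_
      · exact hpne ((map_eq_bot_iff_of_injective _ (Subgroup.subtype_injective _)).1 hbot)
      · rintro _ ⟨y, -, rfl⟩
        exact mem_centralizer_singleton_iff.1 y.2
      · rw [hRc]; exact fun h => hp2 ((Nat.prime_dvd_prime_iff_eq Nat.prime_two hp).1 (Nat.prime_two.dvd_of_dvd_pow h)).symm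
      · rw [hRc]; exact fun h => hp3 ((Nat.prime_dvd_prime_iff_eq Nat.prime_three hp).1 (Nat.prime_three.dvd_of_dvd_pow h)).symm
      · rintro h - hhb _ ⟨y, hy, rfl⟩
        obtain ⟨k, hk⟩ := P.isPGroup' ⟨y, hy⟩
        refine ⟨⟨h, mem_centralizer_singleton_iff.2 hhb⟩ * y * ⟨h, mem_centralizer_singleton_iff.2 hhb⟩⁻¹,
          hall _ ⟨k, ?_⟩, rfl⟩
        rw [conj_pow, show y ^ p ^ k = 1 from congrArg Subtype.val hk, mul_one, mul_inv_cancel]
    · -- `N` is a 2-group
      obtain ⟨m, hm⟩ : ∃ m, Nat.card N = 2 ^ m := by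
        refine ⟨(Nat.card N).primeFactorsList.length, Nat.eq_prime_pow_of_unique_prime_dvd Nat.card_pos.ne' fun {d} hd hdd => ?_⟩
        by_contra hne
        exact hodd ⟨d, hd, hne, hdd⟩
      rcases h36 with h | h <;> rw [h, hm] at hXN <;> rw [hcardC, hXN]
      · have h6 : m + 1 ≤ 6 := hfac2 (m + 1) ⟨3, by rw [hcardC, hXN, pow_succ]; ring⟩
        have : 2 ^ m ≤ 2 ^ 5 := Nat.pow_le_pow_right two_pos (by omega)
        omega
      · have h6 : m + 2 ≤ 6 := hfac2 (m + 2) ⟨3, by rw [hcardC, hXN]; ring⟩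
        have : 2 ^ m ≤ 2 ^ 4 := Nat.pow_le_pow_right two_pos (by omega)
        omega
  · -- the case of `A₅`
    exfalso
    haveI := hM
    obtain ⟨m, hm⟩ := (IsPGroup.iff_card (p := 2) (G := M)).1 fun g => ⟨1, Subtype.ext (hM2 g g.2)⟩
    have hA5 : Nat.card (alternatingGroup (Fin 5)) = 60 := by
      have h := two_mul_nat_card_alternatingGroup (α := Fin 5)
      rw [Nat.card_perm, Nat.card_fin, show Nat.factorial 5 = 120 from rfl] at h
      omega
    have hcX : Nat.card (C ⧸ B) = 2 ^ m * 60 := by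
      rw [← hA5, ← Nat.card_congr e.toEquiv, ← hm]
      exact (M.card_mul_index).symm
    have hm3 : m + 3 ≤ 6 := hfac2 (m + 3) ⟨15, by rw [hcardC, hcX]; ring⟩
    let φ : C →* alternatingGroup (Fin 5) := (e.toMonoidHom.comp (QuotientGroup.mk' M)).comp π
    have hφ : Function.Surjective φ := e.surjective.comp
      ((QuotientGroup.mk'_surjective M).comp (QuotientGroup.mk'_surjective B))
    have hker : Nat.card φ.ker ≤ 16 := by
      have h := φ.ker.card_mul_index
      rw [Subgroup.index_ker, MonoidHom.range_eq_top.2 hφ, Nat.card_congr Subgroup.topEquiv.toEquiv, hA5,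
        hcardC, hcX] at h
      have : 2 ^ m ≤ 2 ^ 3 := Nat.pow_le_pow_right two_pos (by omega)
      nlinarith
    let ψ : CH →* alternatingGroup (Fin 5) := φ.comp (Subgroup.inclusion (inf_le_right : CH ≤ C))
    have hψk : Nat.card ψ.ker ≤ 16 := le_trans (Nat.card_le_card_of_injective
      (fun y => (⟨Subgroup.inclusion (inf_le_right : CH ≤ C) y.1, y.2⟩ : φ.ker))
      fun y y' h => Subtype.ext (Subgroup.inclusion_injective _ (congrArg (fun z : φ.ker => (z : C)) h))) hker
    have h24 : ∀ y ∈ ψ.range, y ^ 24 = 1 := by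
      rintro _ ⟨y, rfl⟩
      rw [← map_pow, show y ^ 24 = 1 from Subtype.ext
        (E.pow_cent_b y.2.1 (mem_centralizer_singleton_iff.1 y.2.2)), map_one]
    set qH : CH := ⟨E.q, hqCH⟩ with hqH
    set sH : CH := ⟨E.t s24 hss, E.t_mem _ _, mem_centralizer_singleton_iff.2 ((E.t_comm hss sgn_b8).2 hsb)⟩
      with hsH
    set x := ψ qH with hx
    have hx3 : x ^ 3 = 1 := by rw [hx, ← map_pow, show qH ^ 3 = 1 from Subtype.ext tq3, map_one]
    have hx1 : x ≠ 1 := by
      intro h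
      have h1 : π qC ∈ M := by
        rw [← QuotientGroup.eq_one_iff]
        exact e.injective (h.trans (map_one e).symm)
      have h2 := hM2 _ h1
      rw [← orderOf_dvd_iff_pow_eq_one, hxo] at h2
      norm_num at h2
    have hy : ψ sH * x * (ψ sH)⁻¹ = x⁻¹ := by
      rw [hx, ← map_inv ψ sH, ← map_mul, ← map_mul, ← map_inv]
      refine congrArg ψ (Subtype.ext ?_)
      show E.t s24 hss * E.q * (E.t s24 hss)⁻¹ = E.q⁻¹
      rw [q, E.t_conj hss hqs, E.t_inv hqs]
      exact E.t_ext _ _ hsq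
    have hys : ψ sH * ψ sH = 1 := by
      rw [← map_mul, show sH * sH = 1 from Subtype.ext ((E.t_mul hss hss).trans
        ((E.t_ext _ _ (show s24 * s24 = 1 by decide +kernel)).trans E.t_one)), map_one]
    have hr : 12 ≤ Nat.card ψ.range := by
      have h := ψ.ker.card_mul_index
      rw [Subgroup.index_ker] at h
      have := Nat.le_of_dvd Nat.card_pos h192
      nlinarith
    exact alt5_no_inverted ψ.range hr h24 ⟨qH, rfl⟩ ⟨sH, rfl⟩ hx3 hx1 hys hy
  · -- the case of `L₂(7)`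
    exfalso
    obtain ⟨e⟩ := hL
    haveI : Fact (Nat.Prime 7) := ⟨by norm_num⟩
    have h168 : Nat.card (C ⧸ B) = 168 := by
      rw [Nat.card_congr e.toEquiv]
      have h := SmallCent.card_psl (ZMod 7)
      rw [ZMod.card] at h
      norm_num at h
      rw [Nat.card_eq_fintype_card]
      omega
    have h := h192.trans (card_dvd_of_le (inf_le_right : CH ≤ C))
    rw [hcardC, h168] at h
    norm_num at h

end Full

end Cfsg.Agent.A8Three
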