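import Cfsg.Agent.Lib.A8Three.Hom

/-!
Centralisers and normalisers inside the embedded alternating group, and its Sylow 2-subgroup.
-/

set_option autoImplicit false
set_option maxRecDepth 20000
set_option synthInstance.maxSize 2000
set_option maxHeartbeats 1000000
set_option linter.style.haveILetI false

namespace Cfsg.Agent.A8Three

open Equiv Subgroup

theorem sgn_a8 : Perm.sign a8 = 1 := inP_a8.1
theorem sgn_a8' : Perm.sign a8' = 1 := inP_a8'.1
theorem sgn_b8 : Perm.sign b8 = 1 := by decide +kernel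
theorem sgn_c8 : Perm.sign c8 = 1 := by decide +kernel
theorem sgn_dd : Perm.sign (w8 * g8) = 1 := (PS.mul_mem inP_w8 inP_g8 : InP (w8 * g8)).1
theorem sgn_TL {σ : P8} (h : σ ∈ TL) : Perm.sign σ = 1 := model_rels.2.1 σ h

theorem W_sub : (∀ x ∈ WL, x ∈ TL) ∧ (1 : P8) ∈ WL ∧ (1 : P8) ∈ TL ∧ a8 ∈ WL ∧ a8' ∈ WL ∧ b8 ∈ WL ∧
    WL.length = 16 ∧ TL.length = 64 ∧ (∀ x ∈ VL, x ∈ WL) ∧ (∀ x ∈ UL, x ∈ WL) := by
  decide +kernel

theorem VL_two : ∀ v ∈ VL, ∀ v' ∈ VL, v ≠ 1 → v' ≠ 1 → v ≠ v' →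
    (a8 = v ∨ a8 = v' ∨ a8 = v * v') ∧ (a8' = v ∨ a8' = v' ∨ a8' = v * v') := by
  decide +kernel

theorem W_two : ∀ σ ∈ VL ++ UL, ∀ τ ∈ VL ++ UL, σ ≠ 1 → τ ≠ 1 → σ ≠ τ → σ * τ ∈ VL ++ UL →
    (σ ∈ VL ∧ τ ∈ VL) ∨ (c8 * σ * c8⁻¹ ∈ VL ∧ c8 * τ * c8⁻¹ ∈ VL) := by
  decide +kernel

theorem dd_facts : Perm.sign bb8 = 1 ∧ bb8 * bb8 = 1 ∧ bb8 ≠ 1 := by decide +kernel

/-- The Sylow 2-subgroup of the model. -/
def Ts : Subgroup P8 := ofList TL W_sub.2.2.1 fun _ hx _ hy => T_closed hx hy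
/-- The elementary abelian subgroup of order 16 of the model. -/
def Ws : Subgroup P8 := ofList WL W_sub.2.1 fun _ hx _ hy => W_closed hx hy

theorem card_Ts : Nat.card Ts = 64 := (card_ofList _ _ model_rels.2.2.1).trans W_sub.2.2.2.2.2.2.2.1
theorem card_Ws : Nat.card Ws = 16 := (card_ofList _ _ model_rels.2.2.2.1).trans W_sub.2.2.2.2.2.2.1

theorem Ws_le : Ws ≤ Ts := fun x hx => W_sub.1 x hx

theorem Ws_unique (A : Subgroup P8) (hA : A ≤ Ts) (hc : Nat.card A = 16)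
    (hcomm : ∀ x ∈ A, ∀ y ∈ A, x * y = y * x) : A = Ws := by
  classical
  have cb : ∀ (P : P8 → Prop) [DecidablePred P], (∀ x ∈ A ⊓ Ws, P x) →
      Nat.card (A ⊓ Ws : Subgroup P8) ≤ (WL.filter fun v => P v).length := by
    intro P _ hP
    refine le_trans ?_ (List.toFinset_card_le _)
    rw [← Set.ncard_coe_finset, ← Nat.card_coe_set_eq]
    exact Nat.card_mono (Finset.finite_toSet _) fun x hx =>
      List.mem_toFinset.2 (List.mem_filter.2 ⟨hx.2, decide_eq_true (hP x hx)⟩)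
  by_contra hne
  obtain ⟨t, htA, htW⟩ : ∃ t ∈ A, t ∉ Ws := by
    by_contra h
    exact hne (eq_of_le_of_card_ge (fun x hx => not_not.1 fun hn => h ⟨x, hx, hn⟩) (by rw [hc, card_Ws]))
  have hri : Ws.relIndex Ts = 4 := by
    have h := (Ws.subgroupOf Ts).card_mul_index
    rw [Nat.card_congr (subgroupOfEquivOfLe Ws_le).toEquiv, card_Ws, card_Ts] at h
    show (Ws.subgroupOf Ts).index = 4
    omega
  have h4 : Ws.relIndex A ≤ 4 := hri ▸ relIndex_le_of_le_right hA (by rw [hri]; norm_num)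
  have hmul : Nat.card (A ⊓ Ws : Subgroup P8) * Ws.relIndex A = 16 := by
    have h := (Ws.subgroupOf A).card_mul_index
    rw [hc] at h
    have e : Nat.card (Ws.subgroupOf A) = Nat.card (A ⊓ Ws : Subgroup P8) := by
      rw [← Subgroup.inf_subgroupOf_left]
      exact Nat.card_congr (subgroupOfEquivOfLe inf_le_left).toEquiv
    rw [e] at h
    exact h
  have h1 := le_trans (cb (fun v => t * v = v * t) fun x hx => hcomm t htA x hx.1)
    (W_unique_one t (hA htA) htW)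
  by_cases h2 : ∃ t' ∈ A, t' ∉ Ws ∧ t * t' ∉ Ws
  · obtain ⟨t', ht', ht'W, htt⟩ := h2
    have h := le_trans (cb (fun v => t * v = v * t ∧ t' * v = v * t') fun x hx =>
      ⟨hcomm t htA x hx.1, hcomm t' ht' x hx.1⟩) (W_unique_two t (hA htA) htW t' (hA ht') ht'W htt)
    nlinarith
  · have hidx : (Ws.subgroupOf A).index = 2 := by
      rw [Subgroup.index_eq_two_iff]
      refine ⟨⟨t, htA⟩, fun y => ?_⟩
      simp only [Subgroup.mem_subgroupOf, Subgroup.coe_mul]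
      by_cases hy : (y : P8) ∈ Ws
      · refine Or.inr ⟨hy, fun h => htW ?_⟩
        simpa using mul_mem (inv_mem hy) h
      · refine Or.inl ⟨?_, hy⟩
        rw [hcomm (y : P8) y.2 t htA]
        exact not_not.1 fun h => h2 ⟨y, y.2, hy, h⟩
    rw [show Ws.relIndex A = 2 from hidx] at hmul
    omega

namespace Full

variable {G : Type*} [Group G] [Finite G] (E : Full G)
include E

theorem z_t : E.z = E.t g8 inP_g8.1 := E.F_eq _
theorem w_t : E.w = E.t w8 inP_w8.1 := E.F_eq _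
theorem a_t : E.a = E.t a8 sgn_a8 := E.F_eq _
theorem a'_t : E.a' = E.t a8' sgn_a8' := E.F_eq _
theorem dd_t : E.dd = E.t (w8 * g8) sgn_dd := E.F_eq _

theorem card_H : Nat.card E.H = 20160 := by
  rw [← card_alt_eight]
  exact (Nat.card_congr (MonoidHom.ofInjective E.θ_inj).toEquiv).symm

/-- The image in `G` of a subgroup of the model. -/
def img (A : Subgroup P8) : Subgroup G := (A.subgroupOf (alternatingGroup (Fin 8))).map E.θ

/-- The preimage in the model of a subgroup of `G`. -/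
def pre (B : Subgroup G) : Subgroup P8 := (B.comap E.θ).map (alternatingGroup (Fin 8)).subtype

theorem mem_img {A : Subgroup P8} {x : G} : x ∈ E.img A ↔ ∃ σ, ∃ hs : Perm.sign σ = 1, σ ∈ A ∧ E.t σ hs = x := by
  constructor
  · rintro ⟨σ, hσ, rfl⟩
    exact ⟨σ, Perm.mem_alternatingGroup.1 σ.2, hσ, rfl⟩
  · rintro ⟨σ, hs, hσ, rfl⟩
    exact ⟨⟨σ, mem_alt hs⟩, hσ, rfl⟩

theorem t_mem_img {A : Subgroup P8} {σ : P8} (h : σ ∈ A) (hs : Perm.sign σ = 1) : E.t σ hs ∈ E.img A :=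
  E.mem_img.2 ⟨σ, hs, h, rfl⟩

theorem card_img {A : Subgroup P8} (h : ∀ σ ∈ A, Perm.sign σ = 1) : Nat.card (E.img A) = Nat.card A := by
  rw [img, card_map_of_injective E.θ_inj]
  exact Nat.card_congr (subgroupOfEquivOfLe fun σ hσ => mem_alt (h σ hσ)).toEquiv

theorem mem_pre {B : Subgroup G} {σ : P8} : σ ∈ E.pre B ↔ ∃ hs : Perm.sign σ = 1, E.t σ hs ∈ B := by
  constructor
  · rintro ⟨x, hx, rfl⟩
    exact ⟨Perm.mem_alternatingGroup.1 x.2, hx⟩
  · rintro ⟨hs, h⟩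
    exact ⟨⟨σ, mem_alt hs⟩, h, rfl⟩

theorem card_pre {B : Subgroup G} (hB : B ≤ E.H) : Nat.card (E.pre B) = Nat.card B := by
  have e : (B.comap E.θ).map E.θ = B := map_comap_eq_self hB
  rw [pre, card_map_of_injective (Subgroup.subtype_injective _)]
  conv_rhs => rw [← e, card_map_of_injective E.θ_inj]

/-- A Sylow 2-subgroup. -/
def T : Subgroup G := E.img Ts
/-- The elementary abelian subgroup of order 16. -/
def W : Subgroup G := E.img Ws

theorem card_T : Nat.card E.T = 64 := (E.card_img fun _ h => sgn_TL h).trans card_Ts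
theorem card_W : Nat.card E.W = 16 := (E.card_img fun _ h => sgn_TL (Ws_le h)).trans card_Ws
theorem T_le : E.T ≤ E.H := map_le_range _ _
theorem W_le : E.W ≤ E.H := map_le_range _ _

theorem W_comm : ∀ x ∈ E.W, ∀ y ∈ E.W, x * y = y * x := by
  intro x hx y hy
  obtain ⟨σ, hs, hσ, rfl⟩ := E.mem_img.1 hx
  obtain ⟨τ, ht, hτ, rfl⟩ := E.mem_img.1 hy
  exact (E.t_comm hs ht).2 (W_closed_code σ hσ τ hτ).2.1

/-- The centraliser of the diagonal element lies in `H`. -/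
theorem cent_dd {x : G} (h : x * E.t (w8 * g8) sgn_dd = E.t (w8 * g8) sgn_dd * x) : x ∈ E.H := by
  rw [← E.dd_t] at h
  obtain ⟨hbs, hbb, hb1⟩ := dd_facts
  set C := centralizer ({E.dd} : Set G) with hC
  have h9 : 9 ∣ Nat.card (E.H ⊓ C : Subgroup G) := by
    rw [← E.card_D9]
    refine card_dvd_of_le fun y hy => ?_
    obtain ⟨σ, hσ, hm, rfl⟩ := E.mem_DL hy.1 hy.2
    exact ⟨E.range_F_le ⟨_, rfl⟩, mem_centralizer_singleton_iff.2 ((E.F_comm hσ _).2
      ((DL_exp σ hm).2 _ (by decide +kernel)))⟩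
  have h2 : 2 ∣ Nat.card (E.H ⊓ C : Subgroup G) := by
    have hbC : E.t bb8 hbs ∈ E.H ⊓ C := ⟨E.t_mem _ _, mem_centralizer_singleton_iff.2 (by
      rw [E.dd_t, E.t_comm]; exact conj_facts.2.2.2.2.2.2.2)⟩
    haveI : Fact (Nat.Prime 2) := ⟨Nat.prime_two⟩
    have ho : orderOf (E.t bb8 hbs) = 2 := orderOf_eq_prime
      (by rw [pow_two, E.t_mul]; exact (E.t_ext _ _ hbb).trans E.t_one)
      (fun e => hb1 (E.t_val hbs (map_one _) (e.trans E.t_one.symm)))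
    rw [← ho, ← Subgroup.orderOf_mk _ hbC]
    exact orderOf_dvd_natCard _
  have heq : E.H ⊓ C = C := eq_of_le_of_card_ge inf_le_right (by
    rw [hC, Data.dd, E.diag, ← Data.dd, ← hC]
    exact Nat.le_of_dvd Nat.card_pos
      (Nat.Coprime.mul_dvd_of_dvd_of_dvd (m := 9) (n := 2) (by norm_num) h9 h2))
  exact (heq.ge (mem_centralizer_singleton_iff.2 h) : x ∈ E.H ⊓ C).1

theorem cent_conj {σ τ : P8} (hσ : Perm.sign σ = 1) (hτ : Perm.sign τ = 1)
    (h : ∀ x : G, x * E.t σ hσ = E.t σ hσ * x → x ∈ E.H) {x : G}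
    (hx : x * E.t (τ * σ * τ⁻¹) (by rw [sign_conj', hσ]) = E.t (τ * σ * τ⁻¹) (by rw [sign_conj', hσ]) * x) :
    x ∈ E.H := by
  rw [← E.t_conj hτ hσ] at hx
  set c := E.t τ hτ with hc
  set s := E.t σ hσ with hs
  have h1 := h (c⁻¹ * x * c) (by
    calc c⁻¹ * x * c * s = c⁻¹ * (x * (c * s * c⁻¹)) * c := by group
      _ = c⁻¹ * ((c * s * c⁻¹) * x) * c := by rw [hx]
      _ = s * (c⁻¹ * x * c) := by group)
  have hcH : c ∈ E.H := E.t_mem _ _
  have := mul_mem (mul_mem hcH h1) (inv_mem hcH)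
  simpa [mul_assoc] using this

theorem cent_z {x : G} (h : x * E.z = E.z * x) : x ∈ E.H := by
  obtain ⟨σ, hσ, -, rfl⟩ := E.mem_range_z h
  exact E.range_F_le ⟨_, rfl⟩

theorem a_not_conj_b : ¬ IsConj E.a (E.t b8 sgn_b8) := fun h => by
  obtain ⟨hbs, -, -⟩ := dd_facts
  refine E.not_conj_dd (u := E.t bb8 hbs) ?_ (h.trans (isConj_iff.2
    ⟨E.t cb8 conj_facts.2.2.2.1, (E.t_conj _ _).trans (E.t_ext _ _ conj_facts.2.1)⟩))
  rw [E.dd_t, E.t_comm]
  exact conj_facts.2.2.2.2.2.2.2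

theorem cv_le {x : G} (hx : x ∈ E.CV) : x ∈ E.H := by
  obtain ⟨L, -, -, hdec, -⟩ := E.cv_cases
  obtain ⟨v, hv, u, hu, i, -, -, rfl⟩ := hdec x hx
  exact mul_mem (mul_mem (E.range_F_le ⟨_, rfl⟩) (E.range_F'_le ⟨_, rfl⟩))
    (pow_mem (E.range_F_le ⟨_, rfl⟩) i)

/-- An element mapping `V` into itself lies in `H`. -/
theorem normV {g : G} {v v' : P8} (hv : v ∈ VL) (hv' : v' ∈ VL) (hs : Perm.sign v = 1)
    (hs' : Perm.sign v' = 1) (e : g * E.a * g⁻¹ = E.t v hs) (e' : g * E.a' * g⁻¹ = E.t v' hs') : g ∈ E.H := by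
  classical
  haveI : Fact (Nat.Prime 3) := ⟨Nat.prime_three⟩
  have hv1 : v ≠ 1 := fun h => by
    subst h; rw [E.t_one] at e; exact E.a_ne (conj_eq_one_iff.1 e)
  have hv1' : v' ≠ 1 := fun h => by
    subst h; rw [E.t_one] at e'
    exact E.ne_one_of_eq inP_a8' (by decide +kernel) (conj_eq_one_iff.1 e')
  have hne : v ≠ v' := fun h => by
    subst h
    have := conj_injective (e.trans e'.symm)
    exact absurd (E.F_val inP_a8 inP_a8' this) (by decide +kernel)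
  have hinv : ∀ x ∈ E.CV, g * x * g⁻¹ ∈ E.CV := by
    intro x hx
    obtain ⟨h1, h2⟩ := E.mem_CV.1 hx
    have c1 : Commute (g * x * g⁻¹) (E.t v hs) := by
      rw [← e]; exact (show Commute x E.a from h1).map (MulAut.conj g).toMonoidHom
    have c2 : Commute (g * x * g⁻¹) (E.t v' hs') := by
      rw [← e']; exact (show Commute x E.a' from h2).map (MulAut.conj g).toMonoidHom
    have c3 : Commute (g * x * g⁻¹) (E.t (v * v') (by rw [map_mul, hs, hs', one_mul])) := by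
      rw [← E.t_mul hs hs']; exact c1.mul_right c2
    obtain ⟨hA, hA'⟩ := VL_two v hv v' hv' hv1 hv1' hne
    have cases3 : ∀ σ, ∀ hσ : Perm.sign σ = 1, (σ = v ∨ σ = v' ∨ σ = v * v') →
        Commute (g * x * g⁻¹) (E.t σ hσ) := by
      rintro σ hσ (rfl | rfl | rfl)
      exacts [c1, c2, c3]
    refine E.mem_CV.2 ⟨?_, ?_⟩
    · rw [E.a_t]; exact (cases3 _ _ hA).eq
    · rw [E.a'_t]; exact (cases3 _ _ hA').eq
  have hz : E.z ∈ E.CV := E.mem_CV.2 ⟨(E.F_comm inP_g8 inP_a8).2 (by decide +kernel),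
    (E.F_comm inP_g8 inP_a8').2 (by decide +kernel)⟩
  have hz3 : E.z ^ 3 = 1 := by
    rw [Data.z, ← map_pow]
    exact (E.F_ext _ PS.one_mem (by decide +kernel)).trans E.F_one
  have hz1 : E.z ≠ 1 := E.ne_one_of_eq inP_g8 (by decide +kernel)
  have hzo : ∀ y : G, y ^ 3 = 1 → y ≠ 1 → ∀ hy : y ∈ E.CV, Nat.card (zpowers (⟨y, hy⟩ : E.CV)) =
      3 ^ (Nat.card E.CV).factorization 3 := by
    intro y hy3 hy1 hy
    have : orderOf (⟨y, hy⟩ : E.CV) = 3 := by rw [orderOf_mk]; exact orderOf_eq_prime hy3 hy1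
    rw [Nat.card_zpowers, this]
    have hd : 3 ^ 1 ∣ Nat.card E.CV := by rw [pow_one, ← this]; exact orderOf_dvd_natCard _
    have h1 := (Nat.prime_three.pow_dvd_iff_le_factorization Nat.card_pos.ne').1 hd
    have h2 : (Nat.card E.CV).factorization 3 ≤ 1 := by
      by_contra hh
      exact E.not_nine E.aa E.a_ne (Dvd.dvd.trans
        ((Nat.prime_three.pow_dvd_iff_le_factorization (k := 2) Nat.card_pos.ne').2 (by omega))
        (card_dvd_of_le fun x hx => mem_centralizer_singleton_iff.2 (E.mem_CV.1 hx).1))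
    rw [show (Nat.card E.CV).factorization 3 = 1 by omega, pow_one]
  have hz3' : (g * E.z * g⁻¹) ^ 3 = 1 := by rw [conj_pow, hz3, mul_one, mul_inv_cancel]
  let P₁ : Sylow 3 E.CV := Sylow.ofCard _ (hzo _ hz3 hz1 hz)
  let P₂ : Sylow 3 E.CV := Sylow.ofCard _
    (hzo _ hz3' (fun h => hz1 (conj_eq_one_iff.1 h)) (hinv _ hz))
  obtain ⟨c, hc⟩ := MulAction.exists_smul_eq E.CV P₂ P₁
  have hm : c * ⟨g * E.z * g⁻¹, hinv _ hz⟩ * c⁻¹ ∈ zpowers (⟨E.z, hz⟩ : E.CV) := by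
    have : c * ⟨g * E.z * g⁻¹, hinv _ hz⟩ * c⁻¹ ∈ (P₁ : Subgroup E.CV) := by
      rw [← hc, Sylow.coe_subgroup_smul]
      exact ⟨_, mem_zpowers _, rfl⟩
    exact this
  obtain ⟨i, hi⟩ := mem_zpowers_iff.1 hm
  have hi' : E.z ^ i = ((c : G) * g) * E.z * ((c : G) * g)⁻¹ := by
    have h := congrArg Subtype.val hi
    simp only [Subgroup.coe_mul, Subgroup.coe_zpow, Subgroup.coe_inv] at h
    rw [h]; group
  have hcg : (c : G) * g ∈ E.H := by
    refine E.range_F_le ?_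
    rw [E.F_range, mem_normalizer_iff_map_conj_eq, MonoidHom.map_zpowers]
    refine eq_of_le_of_card_ge (Subgroup.zpowers_le.2 ⟨i, hi'⟩) ?_
    rw [Nat.card_zpowers, Nat.card_zpowers]
    exact (MulEquiv.orderOf_eq (MulAut.conj _) _).ge
  simpa using mul_mem (inv_mem (E.cv_le c.2)) hcg

/-- The normaliser of `W` lies in `H`. -/
theorem normW {g : G} (hg : ∀ x ∈ E.W, g * x * g⁻¹ ∈ E.W) : g ∈ E.H := by
  have haW : ∀ v ∈ VL, ∀ hs : Perm.sign v = 1, E.t v hs ∈ E.W :=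
    fun v hv hs => E.t_mem_img (show v ∈ Ws from W_sub.2.2.2.2.2.2.2.2.1 v hv) hs
  have key : ∀ v ∈ VL, v ≠ 1 → ∀ hs : Perm.sign v = 1,
      ∃ σ, ∃ hσ : Perm.sign σ = 1, σ ≠ 1 ∧ σ ∈ VL ++ UL ∧ g * E.t v hs * g⁻¹ = E.t σ hσ := by
    intro v hv hv1 hs
    obtain ⟨σ, hσs, hσ, e⟩ := E.mem_img.1 (hg _ (haW v hv hs))
    have hvP := lists_inP.1 v hv
    have hσ1 : σ ≠ 1 := fun h => hv1 (E.t_val hs (map_one _) (by
      subst h; rw [E.t_one] at e; rw [E.t_one]; exact conj_eq_one_iff.1 e.symm))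
    refine ⟨σ, hσs, hσ1, ?_, e.symm⟩
    rcases W_classes σ hσ hσ1 with (h | h) | ⟨c, hc, ec⟩
    · exact List.mem_append.2 (Or.inl h)
    · exact List.mem_append.2 (Or.inr h)
    · exfalso
      refine E.a_not_conj_b ?_
      have h1 : IsConj E.a (E.t v hs) := by
        rw [← E.F_eq hvP.1]
        refine E.isConj_a_of_comm ((E.F_comm hvP.1 inP_g8).2 hvP.2.1)
          ((E.F_mul _ _).trans ((E.F_ext _ PS.one_mem hvP.2.2.1).trans E.F_one)) (E.ne_one_of_eq _ hv1)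
      refine (h1.trans (isConj_iff.2 ⟨g, e.symm⟩)).trans (IsConj.symm ?_)
      exact isConj_iff.2 ⟨E.t c (conjL_even c hc), (E.t_conj _ sgn_b8).trans (E.t_ext _ _ ec)⟩
  obtain ⟨σ, hσs, hσ1, hσL, e⟩ := key a8 (by decide +kernel) (by decide +kernel) sgn_a8
  obtain ⟨τ, hτs, hτ1, hτL, e'⟩ := key a8' (by decide +kernel) (by decide +kernel) sgn_a8'
  obtain ⟨ρ, hρs, -, hρL, e''⟩ := key (a8 * a8') (by decide +kernel) (by decide +kernel)
    (by rw [map_mul, sgn_a8, sgn_a8', one_mul])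
  have hne : σ ≠ τ := fun h => by
    subst h
    exact absurd (E.t_val sgn_a8 sgn_a8' (conj_injective (e.trans e'.symm))) (by decide +kernel)
  have hmul : σ * τ = ρ := by
    refine E.t_val (by rw [map_mul, hσs, hτs, one_mul]) hρs ?_
    rw [← E.t_mul hσs hτs, ← e, ← e', ← e'', ← E.t_mul sgn_a8 sgn_a8']
    group
  rcases W_two σ hσL τ hτL hσ1 hτ1 hne (hmul ▸ hρL) with ⟨h1, h2⟩ | ⟨h1, h2⟩
  · exact E.normV h1 h2 hσs hτs (by rw [E.a_t]; exact e) (by rw [E.a'_t]; exact e')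
  · have hk : E.t c8 sgn_c8 * g ∈ E.H := by
      refine E.normV h1 h2 (by rw [sign_conj', hσs]) (by rw [sign_conj', hτs]) ?_ ?_
      · rw [← E.t_conj sgn_c8 hσs, ← e, E.a_t]; group
      · rw [← E.t_conj sgn_c8 hτs, ← e', E.a'_t]; group
    simpa using mul_mem (inv_mem (E.t_mem c8 sgn_c8)) hk

/-- The normaliser of `T` lies in `H`. -/
theorem normT {g : G} (hg : ∀ x ∈ E.T, g * x * g⁻¹ ∈ E.T) : g ∈ E.H := by
  set B : Subgroup G := E.W.map (MulAut.conj g).toMonoidHom with hB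
  have hBT : B ≤ E.T := by
    rintro _ ⟨x, hx, rfl⟩
    obtain ⟨σ, hs, hσ, rfl⟩ := E.mem_img.1 hx
    exact hg _ (E.t_mem_img (Ws_le hσ) hs)
  have hpre : E.pre B = Ws := by
    refine Ws_unique _ (fun σ h => ?_) ?_ (fun σ h τ h' => ?_)
    · obtain ⟨hs, h⟩ := E.mem_pre.1 h
      obtain ⟨τ, ht, hτ, e⟩ := E.mem_img.1 (hBT h)
      exact E.t_val ht hs e ▸ hτ
    · rw [E.card_pre (hBT.trans E.T_le), hB, card_map_of_injective (MulAut.conj g).injective]
      exact E.card_W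
    · obtain ⟨hs, x, hx, e⟩ := E.mem_pre.1 h
      obtain ⟨ht, y, hy, e'⟩ := E.mem_pre.1 h'
      refine (E.t_comm hs ht).1 ?_
      rw [← e, ← e', ← map_mul, ← map_mul, E.W_comm x hx y hy]
  refine E.normW fun x hx => ?_
  have hxB : g * x * g⁻¹ ∈ B := ⟨x, hx, rfl⟩
  obtain ⟨σ, hs, -, e⟩ := E.mem_img.1 (hBT hxB)
  rw [← e] at hxB ⊢
  exact E.t_mem_img (hpre ▸ E.mem_pre.2 ⟨hs, hxB⟩) hs

theorem fac_two : (Nat.card G).factorization 2 = 6 := by
  haveI : Fact (Nat.Prime 2) := ⟨Nat.prime_two⟩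
  have h1 : 2 ^ 6 ∣ Nat.card G := by
    rw [show (2 : ℕ) ^ 6 = 64 from rfl, ← E.card_T]; exact card_subgroup_dvd_card E.T
  have := (Nat.prime_two.pow_dvd_iff_le_factorization Nat.card_pos.ne').1 h1
  by_contra hne
  obtain ⟨S', hS'c, hTS'⟩ := Sylow.exists_subgroup_card_pow_succ (n := 6)
    ((Nat.prime_two.pow_dvd_iff_le_factorization (k := 6 + 1) Nat.card_pos.ne').2 (by omega)) E.card_T
  have hidx : (E.T.subgroupOf S').index = 2 := by
    have h := (E.T.subgroupOf S').card_mul_index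
    rw [Nat.card_congr (Subgroup.subgroupOfEquivOfLe hTS').toEquiv, E.card_T, hS'c] at h
    norm_num at h
    omega
  haveI : (E.T.subgroupOf S').Normal := Subgroup.normal_of_index_eq_two hidx
  have hS'H : S' ≤ E.H := fun g hg => E.normT fun x hx => by
    have := (inferInstance : (E.T.subgroupOf S').Normal).conj_mem ⟨x, hTS' hx⟩
      (Subgroup.mem_subgroupOf.2 hx) ⟨g, hg⟩
    simpa [Subgroup.mem_subgroupOf] using this
  have := card_dvd_of_le hS'H
  rw [hS'c, E.card_H] at this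
  norm_num at this

/-- `T` as a Sylow subgroup. -/
theorem exists_sylow : ∃ P : Sylow 2 G, (P : Subgroup G) = E.T := by
  haveI : Fact (Nat.Prime 2) := ⟨Nat.prime_two⟩
  exact ⟨Sylow.ofCard E.T (by rw [E.card_T, E.fac_two]; rfl), rfl⟩

/-- Every involution is conjugate to `a` or to `b`. -/
theorem invol_cases {u : G} (hu : u * u = 1) (hu1 : u ≠ 1) : IsConj E.a u ∨ IsConj (E.t b8 sgn_b8) u := by
  haveI : Fact (Nat.Prime 2) := ⟨Nat.prime_two⟩
  obtain ⟨Q, hQ⟩ := E.exists_sylow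
  have ho : orderOf u = 2 := orderOf_eq_prime (by rw [pow_two, hu]) hu1
  obtain ⟨R, hR⟩ := (IsPGroup.of_card (G := zpowers u) (n := 1) (p := 2)
    (by rw [Nat.card_zpowers, ho, pow_one])).exists_le_sylow
  obtain ⟨c, hc⟩ := MulAction.exists_smul_eq G R Q
  have hmem : c * u * c⁻¹ ∈ E.T := by
    rw [← hQ, ← hc, Sylow.coe_subgroup_smul]
    exact ⟨u, hR (mem_zpowers _), rfl⟩
  obtain ⟨σ, hs, hσ, e⟩ := E.mem_img.1 hmem
  have h2 : σ * σ = 1 := by
    refine E.t_val (by rw [map_mul, hs, one_mul]) (map_one _) ?_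
    rw [← E.t_mul hs hs, e, E.t_one]
    calc c * u * c⁻¹ * (c * u * c⁻¹) = c * (u * u) * c⁻¹ := by group
      _ = 1 := by rw [hu]; group
  have h1 : σ ≠ 1 := fun h => hu1 (by subst h; rw [E.t_one] at e; exact conj_eq_one_iff.1 e.symm)
  have hcu : IsConj (c * u * c⁻¹) u := (isConj_iff.2 ⟨c, rfl⟩ : IsConj u _).symm
  obtain ⟨k, hk, h | h⟩ := T_conj σ hσ h2 h1
  · left
    refine IsConj.trans ?_ hcu
    rw [← e, E.a_t]
    exact isConj_iff.2 ⟨E.t k (conjL_even k hk), (E.t_conj _ _).trans (E.t_ext _ _ h)⟩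
  · right
    refine IsConj.trans ?_ hcu
    rw [← e]
    exact isConj_iff.2 ⟨E.t k (conjL_even k hk), (E.t_conj _ _).trans (E.t_ext _ _ h)⟩

end Full

end Cfsg.Agent.A8Three
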