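import Cfsg.Agent.Lib.A8Three.Facts

/-!
The two charts attached to the 3-local hypotheses of the characterisation of `A₈`.
-/

set_option autoImplicit false
set_option maxRecDepth 20000
set_option synthInstance.maxSize 2000
set_option maxHeartbeats 1000000
set_option linter.style.haveILetI false

namespace Cfsg.Agent.A8Three

open Equiv Subgroup

theorem inP_g8 : InP g8 := by decide +kernel
theorem inP_w8 : InP w8 := by decide +kernel
theorem inP_h8 : InP h8 := by decide +kernel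
theorem inP_k8 : InP k8 := by decide +kernel
theorem inP_a8 : InP a8 := by decide +kernel
theorem inP'_g8 : InP' g8 := by decide +kernel
theorem inP'_w8 : InP' w8 := by decide +kernel
theorem inP'_h8 : InP' h8 := by decide +kernel
theorem inP'_k8 : InP' k8 := by decide +kernel

/-- The data read off from the local hypotheses. -/
structure Data (G : Type*) [Group G] [Finite G] where
  /-- the chart of the normaliser of `⟨z⟩` -/
  F : PS →* G
  /-- the chart of the normaliser of `⟨w⟩` -/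
  F' : PS' →* G
  F_inj : Function.Injective F
  F'_inj : Function.Injective F'
  F_range : F.range = normalizer (zpowers (F ⟨g8, inP_g8⟩) : Set G)
  F'_range : F'.range = normalizer (zpowers (F' ⟨w8, inP'_w8⟩) : Set G)
  agree : ∀ (σ : P8) (h : InP σ) (h' : InP' σ), F ⟨σ, h⟩ = F' ⟨σ, h'⟩
  not_27 : ¬ 27 ∣ Nat.card G
  diag : Nat.card (centralizer ({F ⟨w8 * g8, PS.mul_mem inP_w8 inP_g8⟩} : Set G)) = 18
  k_conj : IsConj (F ⟨a8, inP_a8⟩) (F ⟨k8, inP_k8⟩)
  w_conj : IsConj (F ⟨g8, inP_g8⟩) (F ⟨w8, inP_w8⟩)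

section

variable {G : Type*} [Group G]

theorem zpowers_conj (g z : G) : zpowers (g * z * g⁻¹) = (zpowers z).map (MulAut.conj g).toMonoidHom := by
  rw [MonoidHom.map_zpowers]; rfl

theorem normalizer_zpowers_conj (g z : G) :
    normalizer (zpowers (g * z * g⁻¹) : Set G) =
      (normalizer (zpowers z : Set G)).map (MulAut.conj g).toMonoidHom := by
  rw [zpowers_conj]
  exact (map_equiv_normalizer_eq _ (MulAut.conj g)).symm

theorem card_centralizer_inv (x : G) :
    Nat.card (centralizer ({x⁻¹} : Set G)) = Nat.card (centralizer ({x} : Set G)) := by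
  have : centralizer ({x⁻¹} : Set G) = centralizer ({x} : Set G) := by
    ext c
    rw [mem_centralizer_singleton_iff, mem_centralizer_singleton_iff]
    exact Commute.inv_right_iff (a := c) (b := x)
  rw [this]

theorem card_centralizer_isConj {a b : G} (h : IsConj a b) :
    Nat.card (centralizer ({a} : Set G)) = Nat.card (centralizer ({b} : Set G)) := by
  obtain ⟨c, rfl⟩ := isConj_iff.1 h
  refine (Nat.card_congr (Equiv.subtypeEquiv (MulAut.conj c).toEquiv fun g => ?_))
  rw [mem_centralizer_singleton_iff, mem_centralizer_singleton_iff]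
  show g * a = a * g ↔ c * g * c⁻¹ * (c * a * c⁻¹) = c * a * c⁻¹ * (c * g * c⁻¹)
  constructor <;> intro h
  · calc c * g * c⁻¹ * (c * a * c⁻¹) = c * (g * a) * c⁻¹ := by group
      _ = c * (a * g) * c⁻¹ := by rw [h]
      _ = _ := by group
  · calc g * a = c⁻¹ * (c * g * c⁻¹ * (c * a * c⁻¹)) * c := by group
      _ = c⁻¹ * (c * a * c⁻¹ * (c * g * c⁻¹)) * c := by rw [h]
      _ = a * g := by group

end

/-- The three-cycle of the small part. -/
def c3 : Perm (Fin 3) := swap 0 1 * swap 1 2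
/-- The three-cycle of the large part. -/
def w5 : Perm (Fin 5) := swap 0 1 * swap 1 2

theorem emb_c3 : emb (c3, 1) = g8 ∧ emb (1, w5) = w8 := by decide +kernel

theorem normal_three : ∀ p, Even35 p → p ^ 3 = 1 → p ≠ 1 →
    (∀ q, Even35 q → q * p * q⁻¹ = p ∨ q * p * q⁻¹ = p * p) →
    p.2 = 1 ∧ (p.1 = c3 ∨ p.1 = c3 * c3) := by
  decide +kernel

theorem three_comm : ∀ s : Perm (Fin 3), s ^ 3 = 1 → s = 1 ∨ s = c3 ∨ s = c3 * c3 := by decide +kernel

theorem five_three : ∀ t : Perm (Fin 5), t ^ 3 = 1 → t ≠ 1 → ∃ s : Perm (Fin 5), s * t * s⁻¹ = w5 := by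
  decide +kernel

theorem flip_three : ∀ p : Perm (Fin 3), p = c3 ∨ p = c3 * c3 → ∃ s : Perm (Fin 3), s * p * s⁻¹ = c3 := by
  decide +kernel

theorem sign_conj' {α : Type*} [DecidableEq α] [Fintype α] (s r : Perm α) :
    Perm.sign (s * r * s⁻¹) = Perm.sign r := by
  rw [map_mul, map_mul, Perm.sign_inv, mul_right_comm, Int.units_mul_self, one_mul]

/-- The chart of the normaliser of `⟨z⟩` with the Sylow 3-subgroup in standard position. -/
theorem exists_F {G : Type*} [Group G] [Finite G] (D : Subgroup G) (hD : IsMulCommutative D)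
    (hexp : ∀ a ∈ D, a ^ 3 = 1) {y z : G} (hy : y ∈ D) (hz : z ∈ D) (hyz : y ∉ zpowers z) (hz1 : z ≠ 1)
    (eL : normalizer (zpowers z : Set G) ≃*
      (((Equiv.Perm.sign).comp (MonoidHom.fst (Equiv.Perm (Fin 3)) (Equiv.Perm (Fin 5)))) *
        ((Equiv.Perm.sign).comp (MonoidHom.snd (Equiv.Perm (Fin 3)) (Equiv.Perm (Fin 5))))).ker) :
    ∃ F : PS →* G, Function.Injective F ∧ F.range = normalizer (zpowers z : Set G) ∧
      F ⟨g8, inP_g8⟩ = z ∧ F ⟨w8, inP_w8⟩ ∈ D := by
  classical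
  set L := normalizer (zpowers z : Set G) with hL
  set χ := (((Equiv.Perm.sign).comp (MonoidHom.fst (Equiv.Perm (Fin 3)) (Equiv.Perm (Fin 5)))) *
        ((Equiv.Perm.sign).comp (MonoidHom.snd (Equiv.Perm (Fin 3)) (Equiv.Perm (Fin 5))))) with hχ
  have hχmem : ∀ q, q ∈ χ.ker ↔ Even35 q := fun q => Iff.rfl
  have hDL : D ≤ L := fun d hd => by
    rw [hL, mem_normalizer_iff_map_conj_eq, MonoidHom.map_zpowers]
    have : d * z * d⁻¹ = z := by
      haveI := hD
      have := congrArg Subtype.val (mul_comm' (⟨d, hd⟩ : D) ⟨z, hz⟩)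
      simp only [Subgroup.coe_mul] at this
      rw [this, mul_inv_cancel_right]
    exact congrArg zpowers this
  set p : Perm (Fin 3) × Perm (Fin 5) := (eL ⟨z, hDL hz⟩).1 with hp
  have hpord : p ^ 3 = 1 := by
    rw [hp, ← Subgroup.coe_pow, ← map_pow]
    simp [show (⟨z, hDL hz⟩ : L) ^ 3 = 1 from Subtype.ext (hexp z hz)]
  have hp1 : p ≠ 1 := fun e => hz1 (by
    have : eL ⟨z, hDL hz⟩ = eL 1 := Subtype.ext (by rw [map_one]; exact e)
    exact congrArg Subtype.val (eL.injective this))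
  have hnorm : ∀ q, Even35 q → q * p * q⁻¹ = p ∨ q * p * q⁻¹ = p * p := by
    intro q hq
    set l : L := eL.symm ⟨q, (hχmem q).2 hq⟩ with hl
    have hz' : (l : G) * z * (l : G)⁻¹ ∈ zpowers z := (mem_normalizer_iff.1 l.2 z).1 (mem_zpowers z)
    have hcases : (l : G) * z * (l : G)⁻¹ = z ∨ (l : G) * z * (l : G)⁻¹ = z * z := by
      haveI : Fact (Nat.Prime 3) := ⟨Nat.prime_three⟩
      have ho : orderOf z = 3 := orderOf_eq_prime (hexp z hz) hz1
      obtain ⟨i, hi, e⟩ := (mem_zpowers_iff_mem_range_orderOf.1 hz' |> Finset.mem_image.1)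
      rw [Finset.mem_range, ho] at hi
      interval_cases i
      · exfalso
        rw [pow_zero, eq_comm, mul_inv_eq_one] at e
        exact hz1 (mul_eq_left.1 e)
      · exact Or.inl (e.symm.trans (pow_one z))
      · exact Or.inr (e.symm.trans (pow_two z))
    have e : eL (l * ⟨z, hDL hz⟩ * l⁻¹) = ⟨q, (hχmem q).2 hq⟩ * eL ⟨z, hDL hz⟩ * ⟨q, (hχmem q).2 hq⟩⁻¹ := by
      rw [map_mul, map_mul, map_inv, hl, eL.apply_symm_apply]
    rcases hcases with e' | e'
    · left
      rw [show l * ⟨z, hDL hz⟩ * l⁻¹ = (⟨z, hDL hz⟩ : L) from Subtype.ext e'] at e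
      exact (congrArg Subtype.val e).symm
    · right
      rw [show l * ⟨z, hDL hz⟩ * l⁻¹ = (⟨z, hDL hz⟩ * ⟨z, hDL hz⟩ : L) from Subtype.ext e', map_mul] at e
      exact (congrArg Subtype.val e).symm
  obtain ⟨hp2, hp1'⟩ := normal_three p ((hχmem p).1 (eL ⟨z, hDL hz⟩).2) hpord hp1 hnorm
  obtain ⟨s3, hs3⟩ := flip_three p.1 hp1'
  -- a second element of `D` with trivial small component
  set q : Perm (Fin 3) × Perm (Fin 5) := (eL ⟨y, hDL hy⟩).1 with hq
  have hq3 : q ^ 3 = 1 := by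
    rw [hq, ← Subgroup.coe_pow, ← map_pow]
    simp [show (⟨y, hDL hy⟩ : L) ^ 3 = 1 from Subtype.ext (hexp y hy)]
  obtain ⟨j, hj⟩ : ∃ j : ℕ, q.1 * p.1 ^ j = 1 := by
    have h1 : q.1 ^ 3 = 1 := by rw [← Prod.pow_fst, hq3]; rfl
    have h3 : c3 * (c3 * c3) = 1 := by decide +kernel
    have h3' : c3 * c3 * c3 = 1 := by decide +kernel
    rcases three_comm q.1 h1 with e | e | e <;> rcases hp1' with e' | e' <;> rw [e, e']
    · exact ⟨0, by simp⟩
    · exact ⟨0, by simp⟩
    · exact ⟨2, by rw [pow_two, h3]⟩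
    · exact ⟨1, by rw [pow_one, h3]⟩
    · exact ⟨1, by rw [pow_one, h3']⟩
    · exact ⟨2, by rw [pow_two]; decide +kernel⟩
  set w : L := ⟨y, hDL hy⟩ * ⟨z, hDL hz⟩ ^ j with hw
  have hwD : (w : G) ∈ D := by simpa [hw] using mul_mem hy (pow_mem hz j)
  set t : Perm (Fin 5) := (eL w).1.2 with ht
  have hw1 : (eL w : Perm (Fin 3) × Perm (Fin 5)) = (1, t) := by
    refine Prod.ext ?_ rfl
    show ((eL w : Perm (Fin 3) × Perm (Fin 5))).1 = 1
    rw [hw, map_mul, map_pow]
    simpa [hp, hq] using hj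
  have ht3 : t ^ 3 = 1 := by
    have : w ^ 3 = 1 := Subtype.ext (by rw [Subgroup.coe_pow]; exact hexp _ hwD)
    have h := congrArg (fun u : L => (eL u).1.2) this
    simpa [map_pow, ht] using h
  have ht1 : t ≠ 1 := by
    intro e
    have : eL w = eL 1 := Subtype.ext (by rw [map_one, hw1, e]; rfl)
    have hyz' : y * z ^ j = 1 := by simpa [hw] using congrArg Subtype.val (eL.injective this)
    exact hyz (by rw [eq_inv_of_mul_eq_one_left hyz']; exact inv_mem (pow_mem (mem_zpowers z) j))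
  obtain ⟨s5, hs5⟩ := five_three t ht3 ht1
  set k : Perm (Fin 3) × Perm (Fin 5) := (s3, s5) with hk
  have hconj : ∀ r, Even35 r → Even35 (k * r * k⁻¹) := fun r hr => by
    show Perm.sign (s3 * r.1 * s3⁻¹) * Perm.sign (s5 * r.2 * s5⁻¹) = 1
    rw [sign_conj', sign_conj']
    exact hr
  let Φ : χ.ker →* PS :=
    ((emb.comp (MulAut.conj k).toMonoidHom).comp χ.ker.subtype).codRestrict PS fun r =>
      inP_emb _ (hconj r.1 ((hχmem r.1).1 r.2))
  have hΦ : Function.Bijective Φ := by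
    refine ⟨fun a b e => Subtype.ext ((MulAut.conj k).injective (emb_injective (congrArg Subtype.val e))),
      fun σ => ?_⟩
    obtain ⟨r, hr, e⟩ := (mem_PS.1 σ.2).exists_emb
    refine ⟨⟨k⁻¹ * r * k, (hχmem _).2 ?_⟩, Subtype.ext ?_⟩
    · show Perm.sign (s3⁻¹ * r.1 * s3) * Perm.sign (s5⁻¹ * r.2 * s5) = 1
      have a := sign_conj' s3⁻¹ r.1
      have b := sign_conj' s5⁻¹ r.2
      rw [inv_inv] at a b
      rw [a, b]
      exact hr
    · show emb (k * (k⁻¹ * r * k) * k⁻¹) = σ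
      rw [show k * (k⁻¹ * r * k) * k⁻¹ = r by group, e]
  set e' := MulEquiv.ofBijective Φ hΦ with he'
  refine ⟨L.subtype.comp ((eL.symm.toMonoidHom).comp e'.symm.toMonoidHom), ?_, ?_, ?_, ?_⟩
  · exact L.subtype_injective.comp (eL.symm.injective.comp e'.symm.injective)
  · rw [MonoidHom.range_comp, MonoidHom.range_eq_top.2, ← MonoidHom.range_eq_map, range_subtype]
    exact eL.symm.surjective.comp e'.symm.surjective
  · have : e' (eL ⟨z, hDL hz⟩) = ⟨g8, inP_g8⟩ := Subtype.ext (by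
      show emb (k * p * k⁻¹) = g8
      rw [← emb_c3.1]
      exact congrArg emb (Prod.ext hs3 (by simp [hp2, hk])))
    show (eL.symm (e'.symm ⟨g8, inP_g8⟩) : G) = z
    rw [← this, e'.symm_apply_apply, eL.symm_apply_apply]
  · have : e' (eL w) = ⟨w8, inP_w8⟩ := Subtype.ext (by
      show emb (k * (eL w : Perm (Fin 3) × Perm (Fin 5)) * k⁻¹) = w8
      rw [← emb_c3.2, hw1]
      exact congrArg emb (Prod.ext (by simp [hk]) hs5))
    show (eL.symm (e'.symm ⟨w8, inP_w8⟩) : G) ∈ D
    rw [← this, e'.symm_apply_apply, eL.symm_apply_apply]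
    exact hwD

end Cfsg.Agent.A8Three
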