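import Cfsg.Agent.Lib.A8Three.Model

/-!
Decided facts about permutations of eight points.
-/

set_option autoImplicit false
set_option maxRecDepth 20000
set_option maxHeartbeats 1000000
set_option synthInstance.maxSize 2000

namespace Cfsg.Agent.A8Three

open Equiv

/-- The conjugating elements covering the involutions of `TL`. -/
def conjL : List P8 :=
  [1,
    swap 1 2 * swap 6 7,
    swap 1 3 * swap 3 2,
    swap 0 4 * swap 1 5 * swap 2 6 * swap 3 7,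
    swap 0 4 * swap 1 6 * swap 2 5 * swap 3 7,
    swap 0 4 * swap 1 7 * swap 7 2 * swap 2 5 * swap 5 3 * swap 3 6,
    swap 5 6 * swap 6 7,
    swap 5 7 * swap 7 6,
    swap 2 4 * swap 3 7 * swap 7 6 * swap 6 5,
    swap 2 5 * swap 5 3 * swap 3 6 * swap 6 4,
    swap 1 2 * swap 5 7,
    swap 1 4 * swap 4 2 * swap 3 7 * swap 7 5,
    swap 1 4 * swap 4 2 * swap 3 7 * swap 7 6,
    swap 1 5 * swap 5 3 * swap 3 6 * swap 6 7 * swap 7 4 * swap 4 2,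
    swap 1 5 * swap 5 4 * swap 4 2 * swap 3 6,
    swap 1 6 * swap 6 4 * swap 4 2 * swap 3 5,
    swap 1 6 * swap 6 3 * swap 3 5 * swap 5 7 * swap 7 4 * swap 4 2,
    swap 1 7 * swap 7 6 * swap 6 5 * swap 5 3 * swap 3 4 * swap 4 2,
    swap 1 7 * swap 7 5 * swap 5 6 * swap 6 3 * swap 3 4 * swap 4 2,
    swap 0 2 * swap 2 4 * swap 1 3 * swap 3 7 * swap 7 6 * swap 6 5,
    swap 0 2 * swap 2 5 * swap 5 1 * swap 1 3 * swap 3 6 * swap 6 4]

/-- The functions commuting with `b8`, by their values at `0, 2, 4, 5`. -/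
def ofFour (i0 i2 i4 i5 : Fin 8) : Fin 8 → Fin 8 :=
  ![i0, b8 i0, i2, b8 i2, i4, i5, b8 i5, b8 i4]

theorem ofFour_eq {σ : P8} (h : σ * b8 = b8 * σ) : ofFour (σ 0) (σ 2) (σ 4) (σ 5) = σ := by
  have e : ∀ i, σ (b8 i) = b8 (σ i) := fun i => congrArg (fun p : P8 => p i) h
  funext i
  fin_cases i
  · rfl
  · exact (e 0).symm
  · rfl
  · exact (e 2).symm
  · rfl
  · rfl
  · exact (e 5).symm
  · exact (e 4).symm

/-- The functions commuting with `b8` and `q8`, by their values at `0, 5`. -/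
def ofTwo (i0 i5 : Fin 8) : Fin 8 → Fin 8 :=
  ![i0, b8 i0, q8 i0, b8 (q8 i0), q8 (q8 i0), i5, b8 i5, b8 (q8 (q8 i0))]

theorem ofTwo_eq {σ : P8} (hb : σ * b8 = b8 * σ) (hq : σ * q8 = q8 * σ) : ofTwo (σ 0) (σ 5) = σ := by
  have e : ∀ i, σ (b8 i) = b8 (σ i) := fun i => congrArg (fun p : P8 => p i) hb
  have f : ∀ i, σ (q8 i) = q8 (σ i) := fun i => congrArg (fun p : P8 => p i) hq
  funext i
  fin_cases i
  · rfl
  · exact (e 0).symm
  · exact (f 0).symm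
  · show b8 (q8 (σ 0)) = _
    rw [← f 0, ← e]; rfl
  · show q8 (q8 (σ 0)) = _
    rw [← f 0, ← f]; rfl
  · rfl
  · exact (e 5).symm
  · show b8 (q8 (q8 (σ 0))) = _
    rw [← f 0, ← f, ← e]; rfl

theorem comm_ab_bool : ∀ i0 i2 i4 i5 : Fin 8, (∀ i, ofFour i0 i2 i4 i5 (a8 i) = a8 (ofFour i0 i2 i4 i5 i)) →
    Function.Injective (ofFour i0 i2 i4 i5) →
    ∃ t ∈ T0L ++ T0L.map (fun x => x * swap 0 1), ∀ i, t i = ofFour i0 i2 i4 i5 i := by
  decide +kernel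

theorem comm_ab {σ : P8} (hs : Perm.sign σ = 1) (ha : σ * a8 = a8 * σ) (hb : σ * b8 = b8 * σ) : σ ∈ T0L := by
  have e := ofFour_eq hb
  obtain ⟨t, ht, hti⟩ := comm_ab_bool (σ 0) (σ 2) (σ 4) (σ 5)
    (by rw [e]; exact fun i => congrArg (fun p : P8 => p i) ha) (by rw [e]; exact σ.injective)
  rw [e] at hti
  obtain rfl : t = σ := Equiv.ext hti
  rcases List.mem_append.1 ht with ht | ht
  · exact ht
  · have : ∀ x ∈ T0L.map (fun x => x * swap 0 1), Perm.sign x ≠ 1 := by decide +kernel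
    exact absurd hs (this t ht)

theorem comm_bq_bool : ∀ i0 i5 : Fin 8,
    (∀ i, ofTwo i0 i5 (b8 i) = b8 (ofTwo i0 i5 i)) → (∀ i, ofTwo i0 i5 (q8 i) = q8 (ofTwo i0 i5 i)) →
    Function.Injective (ofTwo i0 i5) →
    ∃ t ∈ [1, q8, q8 * q8, b8, b8 * q8, b8 * (q8 * q8)] ++
      [1, q8, q8 * q8, b8, b8 * q8, b8 * (q8 * q8)].map (fun x => x * swap 5 6), ∀ i, t i = ofTwo i0 i5 i := by
  decide +kernel

theorem comm_bq {σ : P8} (hs : Perm.sign σ = 1) (hb : σ * b8 = b8 * σ) (hq : σ * q8 = q8 * σ) :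
    σ ∈ [1, q8, q8 * q8, b8, b8 * q8, b8 * (q8 * q8)] := by
  have e := ofTwo_eq hb hq
  obtain ⟨t, ht, hti⟩ := comm_bq_bool (σ 0) (σ 5)
    (by rw [e]; exact fun i => congrArg (fun p : P8 => p i) hb)
    (by rw [e]; exact fun i => congrArg (fun p : P8 => p i) hq) (by rw [e]; exact σ.injective)
  rw [e] at hti
  obtain rfl : t = σ := Equiv.ext hti
  rcases List.mem_append.1 ht with ht | ht
  · exact ht
  · have : ∀ x ∈ [1, q8, q8 * q8, b8, b8 * q8, b8 * (q8 * q8)].map (fun x => x * swap 5 6),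
        Perm.sign x ≠ 1 := by decide +kernel
    exact absurd hs (this t ht)

theorem comm_b_bool : ∀ i0 i2 i4 i5 : Fin 8, Function.Injective (ofFour i0 i2 i4 i5) →
    ∀ i, ((ofFour i0 i2 i4 i5)^[24]) i = i := by
  decide +kernel

theorem comm_b {σ : P8} (hb : σ * b8 = b8 * σ) : σ ^ 24 = 1 := by
  refine Equiv.ext fun i => ?_
  have e := ofFour_eq hb
  have h := comm_b_bool (σ 0) (σ 2) (σ 4) (σ 5) (by rw [e]; exact σ.injective) i
  rw [e] at h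
  rw [← Perm.iterate_eq_pow]
  exact h

theorem rlem_elem : ∀ σ, InP σ → σ * g8 = g8 * σ → σ ^ 20 = 1 → σ ∈ VL ∨ σ ∈ VL4 ∨
    (σ * (w8 * σ * w8⁻¹) * σ * (w8 * σ * w8⁻¹) * (w8⁻¹ * σ * w8)) ^ 20 ≠ 1 ∨
    (σ * (w8 * σ * w8⁻¹) * σ * (w8⁻¹ * σ * w8) * (w8 * σ * w8⁻¹)) ^ 20 ≠ 1 ∨
    (σ * (w8 * σ * w8⁻¹)) ^ 20 ≠ 1 :=
  forall_inP (by decide +kernel)

theorem rlem_pair : ∀ u ∈ VL, ∀ v ∈ VL4, u ≠ 1 → v ≠ 1 →
    (u * v) ^ 20 ≠ 1 ∨ (u * (w8 * v * w8⁻¹)) ^ 20 ≠ 1 ∨ (u * (w8⁻¹ * v * w8)) ^ 20 ≠ 1 := by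
  decide +kernel

theorem rlem_gen : ∀ L ∈ [VL, VL4], ∀ u ∈ L, u ≠ 1 → ∀ v ∈ L,
    v = 1 ∨ v = u ∨ v = w8 * u * w8⁻¹ ∨ v = w8⁻¹ * u * w8 := by
  decide +kernel

theorem cent_D : ∀ σ, InP σ → σ * g8 = g8 * σ → σ * w8 = w8 * σ → σ ∈ DL :=
  forall_inP (by decide +kernel)

theorem norm_D : ∀ σ, InP σ → σ * g8 * σ⁻¹ ∈ DL → σ * w8 * σ⁻¹ ∈ DL → σ ∈ IL :=
  forall_inP (by decide +kernel)

theorem inP_inter : ∀ σ, InP σ → InP' σ → σ ∈ IL :=
  forall_inP (by decide +kernel)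

theorem cent_V : ∀ σ, InP σ → (σ * g8 = g8 * σ ∨ σ * g8 = g8 * g8 * σ) → σ * a8 = a8 * σ →
    σ * a8' = a8' * σ → σ * g8 = g8 * σ ∧ ∃ v ∈ VL, σ = v ∨ σ = v * g8 ∨ σ = v * (g8 * g8) :=
  forall_inP (by decide +kernel)

theorem cent_a : ∀ σ, InP σ → σ * a8 = a8 * σ → σ ∈ NaL :=
  forall_inP (by decide +kernel)

theorem invol_g : ∀ σ, InP σ → σ * g8 = g8 * σ → σ * σ = 1 → σ ≠ 1 →
    ∃ i j : Fin 5, ∃ τ ∈ [1, swap 0 1 * swap 1 2, swap 0 2 * swap 2 1], ∃ k l : Fin 5,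
      InP (emb (1, swap i j * swap k l) * τ) ∧ (emb (1, swap i j * swap k l) * τ) * g8 =
        g8 * (emb (1, swap i j * swap k l) * τ) ∧
      emb (1, swap i j * swap k l) * τ * a8 * (emb (1, swap i j * swap k l) * τ)⁻¹ = σ :=
  forall_inP (by decide +kernel)

/-- The code of a permutation. -/
def code (σ : P8) : ℕ :=
  (σ 0 : ℕ) + 8 * (σ 1 : ℕ) + 64 * (σ 2 : ℕ) + 512 * (σ 3 : ℕ) + 4096 * (σ 4 : ℕ) + 32768 * (σ 5 : ℕ) +
    262144 * (σ 6 : ℕ) + 2097152 * (σ 7 : ℕ)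

theorem code_injective : Function.Injective code := by
  intro σ τ h
  unfold code at h
  have a := fun i => (σ i).isLt
  have b := fun i => (τ i).isLt
  have := a 0; have := a 1; have := a 2; have := a 3; have := a 4; have := a 5; have := a 6; have := a 7
  have := b 0; have := b 1; have := b 2; have := b 3; have := b 4; have := b 5; have := b 6; have := b 7
  refine Equiv.ext fun i => Fin.ext ?_
  fin_cases i <;> simp only [Fin.reduceFinMk, Fin.isValue] <;> omega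

/-- The codes of `TL`. -/
def TC : List ℕ := [16434824, 9926280, 14571144, 11789960, 16434369, 9925825, 14570689, 11789505, 16433690, 9925146, 14570010, 11788826, 16433235, 9924691, 14569555, 11788371, 16205441, 10155649, 13883009, 12478081, 16205000, 10155208, 13882568, 12477640, 16204307, 10154515, 13881875, 12476947, 16203866, 10154074, 13881434, 12476506, 6565685, 6564334, 6565244, 6564775, 4243253, 4241902, 4242812, 4242343, 2953013, 2951662, 2952572, 2952103, 630581, 629230, 630140, 629671, 6336302, 6334965, 6335847, 6335420, 4472622, 4471285, 4472167, 4471740, 2723630, 2722293, 2723175, 2722748, 859950, 858613, 859495, 859068]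

theorem TC_eq : TL.map code = TC := by decide +kernel

theorem T0C_eq : T0L.map code = TC.take 32 := by decide +kernel

theorem WC_eq : WL.map code = TC.take 16 := by decide +kernel

theorem mem_of_code {L : List P8} {C : List ℕ} (h : L.map code = C) {σ : P8} (hσ : code σ ∈ C) : σ ∈ L := by
  rw [← h, List.mem_map] at hσ
  obtain ⟨x, hx, e⟩ := hσ
  exact code_injective e ▸ hx

theorem T_closed_code : ∀ x ∈ TL, ∀ y ∈ TL, code (x * y) ∈ TC := by decide +kernel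

theorem T_closed {x y : P8} (hx : x ∈ TL) (hy : y ∈ TL) : x * y ∈ TL :=
  mem_of_code TC_eq (T_closed_code x hx y hy)

theorem T0_closed_code : ∀ x ∈ T0L, ∀ y ∈ T0L, code (x * y) ∈ TC.take 32 := by decide +kernel

theorem T0_closed {x y : P8} (hx : x ∈ T0L) (hy : y ∈ T0L) : x * y ∈ T0L :=
  mem_of_code T0C_eq (T0_closed_code x hx y hy)

theorem W_closed_code : ∀ x ∈ WL, ∀ y ∈ WL, code (x * y) ∈ TC.take 16 ∧ x * y = y * x ∧ x * x = 1 := by
  decide +kernel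

theorem W_closed {x y : P8} (hx : x ∈ WL) (hy : y ∈ WL) : x * y ∈ WL :=
  mem_of_code WC_eq (W_closed_code x hx y hy).1

theorem T_conj : ∀ t ∈ TL, t * t = 1 → t ≠ 1 → ∃ c ∈ conjL, c * a8 * c⁻¹ = t ∨ c * b8 * c⁻¹ = t := by
  decide +kernel

theorem conjL_even : ∀ c ∈ conjL, Perm.sign c = 1 := by decide +kernel

theorem W_unique_one : ∀ t ∈ TL, t ∉ WL → (WL.filter fun v => t * v = v * t).length ≤ 4 := by
  decide +kernel

theorem W_unique_two : ∀ t ∈ TL, t ∉ WL → ∀ t' ∈ TL, t' ∉ WL → t * t' ∉ WL →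
    (WL.filter fun v => t * v = v * t ∧ t' * v = v * t').length ≤ 2 := by
  decide +kernel

theorem W_classes : ∀ v ∈ WL, v ≠ 1 → (v ∈ VL ∨ v ∈ UL) ∨ ∃ c ∈ conjL, c * b8 * c⁻¹ = v := by
  decide +kernel

theorem W_pairs : ∀ u ∈ VL, ∀ v ∈ UL, u ≠ 1 → v ≠ 1 → ∃ c ∈ conjL, c * b8 * c⁻¹ = u * v := by
  decide +kernel

theorem T0_out : ∀ t ∈ T0L, t ∉ WL → t * t = 1 → t * u8 = u8 * t := by decide +kernel

theorem model_rels : (∀ x ∈ IL, InP x ∧ InP' x) ∧ (∀ x ∈ TL, Perm.sign x = 1) ∧ TL.Nodup ∧ WL.Nodup ∧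
    T0L.Nodup := by
  decide +kernel

theorem conj_facts : cq8 * (w8 * g8) * cq8⁻¹ = q8 ∧ cb8 * b8 * cb8⁻¹ = bb8 ∧
    Perm.sign cq8 = 1 ∧ Perm.sign cb8 = 1 ∧ InP cx8 ∧
    cx8 * (swap 2 3 * swap 3 4) * cx8⁻¹ = w8 ∧ cx8 * h8 * cx8⁻¹ = k8 ∧
    bb8 * (w8 * g8) = w8 * g8 * bb8 := by
  decide +kernel

end Cfsg.Agent.A8Three
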