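import Cfsg.Agent.Lib.A8Three.Setup

/-!
The facts on the stabiliser of `{0, 1, 2}` obtained by transport.
-/

set_option autoImplicit false
set_option maxRecDepth 20000
set_option synthInstance.maxSize 2000
set_option maxHeartbeats 1000000

namespace Cfsg.Agent.A8Three

open Equiv

/-- The four-group on `{3, 5, 6, 7}`. -/
def UL4 : List P8 := [1, swap 3 7 * swap 5 6, swap 3 5 * swap 6 7, swap 3 6 * swap 5 7]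

/-- `(3 4)` -/
def s34 : P8 := swap 3 4

theorem forall_inP' {φ : P8 → Prop} (h : ∀ q, Even35 q → φ (pi8 * emb q * pi8)) : ∀ σ, InP' σ → φ σ := by
  intro σ hσ
  obtain ⟨q, hq, rfl⟩ := hσ.exists_emb
  exact h q hq

theorem rlem_elem' : ∀ σ, InP' σ → σ * w8 = w8 * σ → σ ^ 20 = 1 → σ ∈ UL ∨ σ ∈ UL4 ∨
    (σ * (g8 * σ * g8⁻¹) * σ * (g8 * σ * g8⁻¹) * (g8⁻¹ * σ * g8)) ^ 20 ≠ 1 ∨
    (σ * (g8 * σ * g8⁻¹) * σ * (g8⁻¹ * σ * g8) * (g8 * σ * g8⁻¹)) ^ 20 ≠ 1 ∨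
    (σ * (g8 * σ * g8⁻¹)) ^ 20 ≠ 1 :=
  forall_inP' (by decide +kernel)

theorem rlem_pair' : ∀ u ∈ UL, ∀ v ∈ UL4, u ≠ 1 → v ≠ 1 →
    (u * v) ^ 20 ≠ 1 ∨ (u * (g8 * v * g8⁻¹)) ^ 20 ≠ 1 ∨ (u * (g8⁻¹ * v * g8)) ^ 20 ≠ 1 := by
  decide +kernel

theorem rlem_gen' : ∀ L ∈ [UL, UL4], ∀ u ∈ L, u ≠ 1 → ∀ v ∈ L,
    v = 1 ∨ v = u ∨ v = g8 * u * g8⁻¹ ∨ v = g8⁻¹ * u * g8 := by
  decide +kernel

theorem VL4_comm : ∀ v ∈ VL4, v ≠ 1 → ¬ (v * a8 = a8 * v ∧ v * a8' = a8' * v) := by decide +kernel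

theorem lists_inP : (∀ v ∈ VL, InP v ∧ v * g8 = g8 * v ∧ v * v = 1 ∧ (v ≠ 1 → ¬ InP' v)) ∧
    (∀ v ∈ UL ++ UL4, InP' v ∧ v * w8 = w8 * v ∧ v * v = 1 ∧ (v ≠ 1 → ¬ InP v)) := by
  decide +kernel

theorem s34_facts : (∀ σ ∈ IL, s34 * σ * s34 = σ) ∧ s34 * s34 = 1 ∧
    (∀ v ∈ UL4, s34 * v * s34 ∈ UL) ∧ (∀ v ∈ UL, s34 * v * s34 ∈ UL4) ∧ Perm.sign s34 = -1 ∧
    (∀ i : Fin 8, (i : ℕ) < 3 ↔ (s34 i : ℕ) < 3) := by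
  decide +kernel

theorem inP'_s34 {σ : P8} (h : InP' σ) : InP' (s34 * σ * s34) := by
  obtain ⟨-, h2, -, -, hs, hp⟩ := s34_facts
  refine ⟨by rw [map_mul, map_mul, hs, h.1]; decide, fun i => ?_⟩
  exact (hp i).trans ((h.2 _).trans (hp _))

/-- The centraliser of `a8` and the four-group `VL` inside the first stabiliser with the Sylow data. -/
def VHL : List P8 := VL ++ VL.map fun v => v * h8

theorem VH_facts : VHL.Nodup ∧ (∀ x ∈ VHL, InP x ∧ x * a8 = a8 * x) ∧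
    (∀ x ∈ VHL, ∀ y ∈ VHL, x * y ∈ VHL) ∧ (∀ x ∈ VHL, x⁻¹ ∈ VHL) ∧ a8 ∈ VHL ∧ a8' ∈ VHL ∧ h8 ∈ VHL ∧
    (∀ x ∈ VL, x * h8 = h8 * x → x = 1 ∨ x = a8) ∧
    (∀ x ∈ VHL, x * x = 1 → x ≠ 1 → x * g8 = g8 * x ∨ x = h8 ∨ x = a8' * h8 * a8') ∧
    NaL.length = 24 ∧ a8' * g8 = g8 * a8' := by
  decide +kernel

end Cfsg.Agent.A8Three
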