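import Cfsg.Agent.Lib.A8Three.Local2
import Mathlib.GroupTheory.SpecificGroups.Alternating.Simple

/-!
The embedding of the alternating group of degree eight determined by the local data.
-/

set_option autoImplicit false
set_option maxRecDepth 20000
set_option synthInstance.maxSize 2000
set_option maxHeartbeats 1000000
set_option linter.style.haveILetI false

namespace Cfsg.Agent.A8Three

open Equiv Subgroup

/-- The subgroup with a given closed list of elements. -/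
def ofList (L : List P8) (h1 : (1 : P8) ∈ L) (hm : ∀ x ∈ L, ∀ y ∈ L, x * y ∈ L) : Subgroup P8 where
  carrier := {x | x ∈ L}
  one_mem' := h1
  mul_mem' := fun hx hy => hm _ hx _ hy
  inv_mem' := by
    intro x hx
    have hp : ∀ n : ℕ, x ^ n ∈ L := fun n => by
      induction n with
      | zero => rw [pow_zero]; exact h1
      | succ n ih => rw [pow_succ]; exact hm _ ih _ hx
    show x⁻¹ ∈ L
    rw [← mul_one x⁻¹, ← pow_orderOf_eq_one x,
      show orderOf x = orderOf x - 1 + 1 from (Nat.sub_add_cancel (orderOf_pos x)).symm, pow_succ',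
      inv_mul_cancel_left]
    exact hp _

theorem card_ofList {L : List P8} (h1 : (1 : P8) ∈ L) (hm : ∀ x ∈ L, ∀ y ∈ L, x * y ∈ L) (hn : L.Nodup) :
    Nat.card (ofList L h1 hm) = L.length := by
  rw [← List.toFinset_card_of_nodup hn, ← Set.ncard_coe_finset, ← Nat.card_coe_set_eq]
  exact Nat.card_congr (Equiv.subtypeEquivRight fun x => List.mem_toFinset.symm)

/-- The dihedral group of order 8 on the large part of the second stabiliser. -/
def UHL : List P8 := UL ++ UL.map fun v => v * h8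

theorem UHL_facts : UHL.Nodup ∧ (1 : P8) ∈ UHL ∧ (∀ x ∈ UHL, ∀ y ∈ UHL, x * y ∈ UHL) ∧ UHL.length = 8 := by
  decide +kernel

theorem DL_list : DL.Nodup ∧ (1 : P8) ∈ DL ∧ (∀ x ∈ DL, ∀ y ∈ DL, x * y ∈ DL) ∧ DL.length = 9 := by
  decide +kernel

theorem VHL_list : (1 : P8) ∈ VHL ∧ VHL.length = 8 := by decide +kernel

theorem card_even35 : Fintype.card {q : Perm (Fin 3) × Perm (Fin 5) // Even35 q} = 360 := by decide +kernel

theorem card_PS_le : Nat.card PS ≤ 360 := by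
  rw [← card_even35, ← Nat.card_eq_fintype_card]
  refine Nat.card_le_card_of_surjective (fun q => (⟨emb q.1, inP_emb q.1 q.2⟩ : PS)) fun σ => ?_
  obtain ⟨q, hq, e⟩ := (mem_PS.1 σ.2).exists_emb
  exact ⟨⟨q, hq⟩, Subtype.ext e⟩

theorem card_PS'_le : Nat.card PS' ≤ 360 := by
  rw [← card_even35, ← Nat.card_eq_fintype_card]
  refine Nat.card_le_card_of_surjective
    (fun q => (⟨pi8 * emb q.1 * pi8, inP'_pi q.1 q.2⟩ : PS')) fun σ => ?_
  obtain ⟨q, hq, e⟩ := (mem_PS'.1 σ.2).exists_emb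
  exact ⟨⟨q, hq⟩, Subtype.ext e⟩

theorem full_subgroup {J K : Subgroup P8} (hJK : J ≤ K) (hK : Nat.card K ≤ 360) {A B : Subgroup P8}
    (hA : A ≤ J) (hB : B ≤ J) (hA9 : Nat.card A = 9) (hB8 : Nat.card B = 8) {f : P8} (hf : f ∈ J)
    (hf5 : f ^ 5 = 1) (hf1 : f ≠ 1) : K ≤ J := by
  haveI : Fact (Nat.Prime 5) := ⟨by norm_num⟩
  have h5 : 5 ∣ Nat.card J := by
    rw [← orderOf_eq_prime hf5 hf1, ← Subgroup.orderOf_mk f hf]; exact orderOf_dvd_natCard _
  have h9 : 9 ∣ Nat.card J := hA9 ▸ card_dvd_of_le hA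
  have hd8 : 8 ∣ Nat.card J := by
    have := card_dvd_of_le hB
    rwa [hB8] at this
  have h360 : 360 ∣ Nat.card J :=
    Nat.Coprime.mul_dvd_of_dvd_of_dvd (m := 72) (n := 5) (by norm_num)
      (Nat.Coprime.mul_dvd_of_dvd_of_dvd (m := 8) (n := 9) (by norm_num) hd8 h9) h5
  exact (Subgroup.eq_of_le_of_card_ge hJK (hK.trans (Nat.le_of_dvd Nat.card_pos h360))).ge

/-- The five-cycle of the first stabiliser. -/
def f5 : P8 := w8 * (s8 0 * s8 1)
/-- The five-cycle of the second stabiliser. -/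
def f5' : P8 := s8 1 * s8 2 * s8 3 * s8 4

theorem s8_facts : InP (s8 0) ∧ InP (s8 1) ∧ InP' (s8 1) ∧ InP' (s8 2) ∧ InP (s8 3) ∧ InP' (s8 3) ∧
    InP (s8 4) ∧ InP' (s8 4) ∧ s8 0 = a8 ∧ s8 3 = h8 ∧ g8 = s8 3 * s8 4 ∧ swap 4 5 * swap 6 7 = s8 2 * s8 4 ∧
    s8 0 * s8 4 = s8 4 * s8 0 ∧
    a8' = s8 0 * (w8 * s8 0 * w8⁻¹) ∧ f5 ^ 5 = 1 ∧ f5 ≠ 1 ∧ f5' ^ 5 = 1 ∧ f5' ≠ 1 ∧
    swap 4 6 * swap 5 7 = s8 3 * (s8 2 * s8 4) * s8 3 ∧
    u8 = swap 4 5 * swap 6 7 * (swap 4 6 * swap 5 7) ∧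
    s8 2 = swap 4 5 * swap 6 7 * s8 4 ∧ (∀ k < 5, Perm.sign (s8 k) = 1) ∧ Perm.sign w8 = 1 := by
  decide +kernel

/-- The data together with the embedding. -/
structure Full (G : Type*) [Group G] [Finite G] extends Data G where
  hU : ∀ u ∈ UL, ∀ hu : InP' u, toData.F' ⟨u, hu⟩ ∈ toData.CV
  θ : alternatingGroup (Fin 8) →* G
  θ_inj : Function.Injective θ
  θ_F : ∀ σ : alternatingGroup (Fin 8), ∀ h : InP (σ : P8), θ σ = toData.F ⟨σ, h⟩
  θ_F' : ∀ σ : alternatingGroup (Fin 8), ∀ h : InP' (σ : P8), θ σ = toData.F' ⟨σ, h⟩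

variable {G : Type*} [Group G] [Finite G]

theorem mem_alt {σ : P8} (h : Perm.sign σ = 1) : σ ∈ alternatingGroup (Fin 8) := Perm.mem_alternatingGroup.2 h

theorem Data.exists_full (D : Data G) : Nonempty (Full G) := by
  classical
  obtain ⟨D, hU⟩ := D.exists_good
  obtain ⟨p0, p1, q1, q2, p3, q3, p4, q4, e0, e3, eg, eu, c04, ea', hf, hf1, hf', hf'1, eu', eu8, e2,
    hs, hw⟩ := s8_facts
  obtain ⟨sG, hsP, hsP'⟩ : ∃ sG : ℕ → G, (∀ k, ∀ h : InP (s8 k), sG k = D.F ⟨_, h⟩) ∧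
      ∀ k, ∀ h : InP' (s8 k), sG k = D.F' ⟨_, h⟩ := by
    refine ⟨fun k => if h : InP (s8 k) then D.F ⟨_, h⟩ else if h : InP' (s8 k) then D.F' ⟨_, h⟩ else 1,
      fun k h => dif_pos h, fun k h => ?_⟩
    by_cases h' : InP (s8 k)
    · exact (dif_pos h').trans (D.agree _ _ _)
    · exact (dif_neg h').trans (dif_pos h)
  have hwP' : D.w = D.F' ⟨w8, inP'_w8⟩ := D.w_eq.symm
  have lastF : ∀ (x y : PS), (x : P8) = y → D.F x = D.F y := fun x y e => congrArg D.F (Subtype.ext e)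
  have lastF' : ∀ (x y : PS'), (x : P8) = y → D.F' x = D.F' y := fun x y e => congrArg D.F' (Subtype.ext e)
  have lastF1 : ∀ x : PS, (x : P8) = 1 → D.F x = 1 := fun x e => (lastF x 1 e).trans (map_one _)
  have lastF1' : ∀ x : PS', (x : P8) = 1 → D.F' x = 1 := fun x e => (lastF' x 1 e).trans (map_one _)
  have hP' : ∀ k, 1 ≤ k → k < 5 → InP' (s8 k) := fun k h1 h2 => by
    interval_cases k
    exacts [q1, q2, q3, q4]
  have hsq : ∀ k < 5, sG k * sG k = 1 := fun k hk => by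
    rcases Nat.eq_zero_or_pos k with rfl | h
    · rw [hsP 0 p0, ← map_mul]
      refine lastF1 _ ?_
      exact (chain8.sq 0 (by norm_num))
    · rw [hsP' k (hP' k h hk), ← map_mul]
      refine lastF1' _ ?_
      exact (chain8.sq k hk)
  have hch : Chain D.w sG := by
    refine ⟨?_, hsq, fun k hk => ?_, fun i j h1 h2 => ?_, fun k h1 h2 => ?_, ?_, ?_⟩
    · rw [Data.w, ← map_mul, ← map_mul]
      refine lastF1 _ ?_
      exact chain8.cube
    · rcases Nat.eq_zero_or_pos k with rfl | h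
      · rw [hsP 0 p0, hsP 1 p1, ← map_mul, ← map_mul, ← map_mul, ← map_mul]
        refine lastF _ _ ?_
        exact (chain8.braid 0 (by norm_num))
      · rw [hsP' k (hP' k h (by omega)), hsP' (k + 1) (hP' (k + 1) (by omega) (by omega)), ← map_mul,
          ← map_mul, ← map_mul, ← map_mul]
        refine lastF' _ _ ?_
        exact (chain8.braid k hk)
    · rcases Nat.eq_zero_or_pos i with rfl | h
      · rcases (show j = 2 ∨ j = 3 ∨ j = 4 by omega) with rfl | rfl | rfl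
        · have hu : swap 4 5 * swap 6 7 ∈ UL := by decide +kernel
          have hu' := (lists_inP.2 _ (List.mem_append.2 (Or.inl hu))).1
          have h2' : sG 2 = D.F' ⟨_, hu'⟩ * sG 4 := by
            rw [hsP' 2 q2, hsP' 4 q4, ← map_mul]
            refine lastF' _ _ ?_
            exact e2
          have hc1 : Commute (D.F' ⟨_, hu'⟩) (sG 0) := by
            show _ = _
            rw [hsP 0 p0, show D.F ⟨s8 0, p0⟩ = D.a from D.F_ext _ _ e0]
            exact (D.mem_CV.1 (hU _ hu hu')).1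
          have hc2 : Commute (sG 4) (sG 0) := by
            show _ = _
            rw [hsP 0 p0, hsP 4 p4]
            exact (D.F_comm p4 p0).2 c04.symm
          rw [h2']
          exact (hc1.mul_left hc2).symm.eq
        · rw [hsP 0 p0, hsP 3 p3]; exact (D.F_comm _ _).2 (chain8.comm 0 3 (by norm_num) (by norm_num))
        · rw [hsP 0 p0, hsP 4 p4]; exact (D.F_comm _ _).2 (chain8.comm 0 4 (by norm_num) (by norm_num))
      · rw [hsP' i (hP' i h (by omega)), hsP' j (hP' j (by omega) h2)]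
        exact (D.F'_comm _ _).2 (chain8.comm i j h1 h2)
    · rw [hsP' k (hP' k h1 h2), hwP', ← map_inv, ← map_mul, ← map_mul]
      refine lastF' _ _ ?_
      exact (chain8.invert k h1 h2)
    · rw [hsP 0 p0, Data.w, ← map_inv, ← map_mul, ← map_mul, ← map_mul, ← map_mul]
      refine lastF1 _ ?_
      exact chain8.base
    · rw [hsP 0 p0, Data.w, ← map_inv, ← map_mul, ← map_mul, ← map_inv, ← map_mul, ← map_mul]
      refine lastF _ _ ?_
      exact chain8.word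
  obtain ⟨θ, hθw, hθs⟩ := exists_hom hch
  haveI : IsSimpleGroup (alternatingGroup (Fin 8)) := alternatingGroup.isSimpleGroup (by simp)
  have hinj : Function.Injective θ := by
    rw [← MonoidHom.ker_eq_bot_iff]
    refine ((inferInstance : θ.ker.Normal).eq_bot_or_eq_top).resolve_right fun h => ?_
    have h1 : (⟨w8, mem_alt hw⟩ : alternatingGroup (Fin 8)) ∈ θ.ker := h ▸ Subgroup.mem_top _
    rw [MonoidHom.mem_ker, hθw _ rfl] at h1
    exact D.ne_one_of_eq inP_w8 (by decide +kernel) h1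
  -- agreement with the first chart
  have hF : PS ≤ (alternatingGroup (Fin 8) : Subgroup P8) := fun σ h => mem_alt (mem_PS.1 h).1
  have hF' : PS' ≤ (alternatingGroup (Fin 8) : Subgroup P8) := fun σ h => mem_alt (mem_PS'.1 h).1
  let J : Subgroup P8 := (MonoidHom.eqLocus D.F (θ.comp (Subgroup.inclusion hF))).map PS.subtype
  let J' : Subgroup P8 := (MonoidHom.eqLocus D.F' (θ.comp (Subgroup.inclusion hF'))).map PS'.subtype
  have hJs : ∀ k < 5, InP (s8 k) → s8 k ∈ J := fun k hk h =>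
    ⟨⟨s8 k, h⟩, ((hθs k hk ⟨s8 k, hF h⟩ rfl).trans (hsP k h)).symm, rfl⟩
  have hJs' : ∀ k < 5, InP' (s8 k) → s8 k ∈ J' := fun k hk h =>
    ⟨⟨s8 k, h⟩, ((hθs k hk ⟨s8 k, hF' h⟩ rfl).trans (hsP' k h)).symm, rfl⟩
  have hJw : w8 ∈ J := ⟨⟨w8, inP_w8⟩, (hθw ⟨w8, hF inP_w8⟩ rfl).symm, rfl⟩
  have hJw' : w8 ∈ J' := ⟨⟨w8, inP'_w8⟩, ((hθw ⟨w8, hF' inP'_w8⟩ rfl).trans hwP').symm, rfl⟩
  have hJ0 := hJs 0 (by norm_num) p0
  have hJ3 := hJs 3 (by norm_num) p3
  have hJ4 := hJs 4 (by norm_num) p4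
  have hJ2' := hJs' 2 (by norm_num) q2
  have hJ3' := hJs' 3 (by norm_num) q3
  have hJ4' := hJs' 4 (by norm_num) q4
  have hDgen : ∀ (K : Subgroup P8), w8 ∈ K → g8 ∈ K → ∀ x ∈ DL, x ∈ K := by
    intro K hw' hg' x hx
    obtain ⟨i, j, rfl⟩ := DL_gen x hx
    exact mul_mem (pow_mem hg' _) (pow_mem hw' _)
  have hfull : PS ≤ J := by
    refine full_subgroup (map_subtype_le _) card_PS_le (A := ofList DL DL_list.2.1 DL_list.2.2.1)
      (B := ofList VHL VHL_list.1 VH_facts.2.2.1)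
      (fun x hx => hDgen J hJw (eg ▸ mul_mem hJ3 hJ4) x hx) ?_
      ((card_ofList _ _ DL_list.1).trans DL_list.2.2.2)
      ((card_ofList _ _ VH_facts.1).trans VHL_list.2)
      (mul_mem hJw (mul_mem hJ0 (hJs 1 (by norm_num) p1))) hf hf1
    have ha : a8 ∈ J := e0 ▸ hJ0
    have ha' : a8' ∈ J := ea' ▸ mul_mem hJ0 (mul_mem (mul_mem hJw hJ0) (inv_mem hJw))
    have hV : ∀ v ∈ VL, v ∈ J := by
      intro v hv
      simp only [VL, List.mem_cons, List.not_mem_nil, or_false] at hv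
      rcases hv with rfl | rfl | rfl | rfl
      · exact J.one_mem
      · exact ha
      · exact ha'
      · exact mul_mem ha ha'
    intro x hx
    rcases List.mem_append.1 hx with h | h
    · exact hV x h
    · obtain ⟨v, hv, rfl⟩ := List.mem_map.1 h
      exact mul_mem (hV v hv) (e3 ▸ hJ3)
  have hfull' : PS' ≤ J' := by
    refine full_subgroup (map_subtype_le _) card_PS'_le (A := ofList DL DL_list.2.1 DL_list.2.2.1)
      (B := ofList UHL UHL_facts.2.1 UHL_facts.2.2.1)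
      (fun x hx => hDgen J' hJw' (eg ▸ mul_mem hJ3' hJ4') x hx) ?_
      ((card_ofList _ _ DL_list.1).trans DL_list.2.2.2)
      ((card_ofList _ _ UHL_facts.1).trans UHL_facts.2.2.2)
      (mul_mem (mul_mem (mul_mem (hJs' 1 (by norm_num) q1) hJ2') hJ3') hJ4') hf' hf'1
    have h45 : swap 4 5 * swap 6 7 ∈ J' := eu ▸ mul_mem hJ2' hJ4'
    have h46 : swap 4 6 * swap 5 7 ∈ J' := eu' ▸ mul_mem (mul_mem hJ3' (mul_mem hJ2' hJ4')) hJ3'
    have hV : ∀ v ∈ UL, v ∈ J' := by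
      intro v hv
      simp only [UL, List.mem_cons, List.not_mem_nil, or_false] at hv
      rcases hv with rfl | rfl | rfl | rfl
      · exact J'.one_mem
      · exact eu8 ▸ mul_mem h45 h46
      · exact h45
      · exact h46
    intro x hx
    rcases List.mem_append.1 hx with h | h
    · exact hV x h
    · obtain ⟨v, hv, rfl⟩ := List.mem_map.1 h
      exact mul_mem (hV v hv) (e3 ▸ hJ3')
  refine ⟨{ D with hU := hU, θ := θ, θ_inj := hinj, θ_F := fun σ h => ?_, θ_F' := fun σ h => ?_ }⟩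
  · obtain ⟨⟨τ, hτ⟩, he, e⟩ := hfull (show (σ : P8) ∈ PS from h)
    obtain rfl : τ = (σ : P8) := e
    exact he.symm
  · obtain ⟨⟨τ, hτ⟩, he, e⟩ := hfull' (show (σ : P8) ∈ PS' from h)
    obtain rfl : τ = (σ : P8) := e
    exact he.symm

namespace Full

variable (E : Full G)
include E

/-- The image of an even permutation. -/
def t (σ : P8) (h : Perm.sign σ = 1) : G := E.θ ⟨σ, mem_alt h⟩

/-- The subgroup isomorphic to the alternating group. -/
def H : Subgroup G := E.θ.range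

theorem t_mem (σ : P8) (h : Perm.sign σ = 1) : E.t σ h ∈ E.H := ⟨_, rfl⟩

theorem t_ext {σ τ : P8} (a : Perm.sign σ = 1) (b : Perm.sign τ = 1) (e : σ = τ) : E.t σ a = E.t τ b := by
  subst e; rfl

theorem t_one : E.t 1 (map_one _) = 1 := map_one E.θ

theorem t_val {σ τ : P8} (a : Perm.sign σ = 1) (b : Perm.sign τ = 1) (e : E.t σ a = E.t τ b) : σ = τ :=
  congrArg Subtype.val (E.θ_inj e)

theorem t_mul {σ τ : P8} (a : Perm.sign σ = 1) (b : Perm.sign τ = 1) :
    E.t σ a * E.t τ b = E.t (σ * τ) (by rw [map_mul, a, b, one_mul]) := (map_mul E.θ _ _).symm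

theorem t_inv {σ : P8} (a : Perm.sign σ = 1) :
    (E.t σ a)⁻¹ = E.t σ⁻¹ (by rw [Perm.sign_inv, a]) := (map_inv E.θ _).symm

theorem t_conj {σ τ : P8} (a : Perm.sign σ = 1) (b : Perm.sign τ = 1) :
    E.t σ a * E.t τ b * (E.t σ a)⁻¹ = E.t (σ * τ * σ⁻¹) (by rw [sign_conj', b]) := by
  simp only [t]
  rw [← map_inv, ← map_mul, ← map_mul]; rfl

theorem t_comm {σ τ : P8} (a : Perm.sign σ = 1) (b : Perm.sign τ = 1) :
    E.t σ a * E.t τ b = E.t τ b * E.t σ a ↔ σ * τ = τ * σ := by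
  rw [E.t_mul a b, E.t_mul b a]
  exact ⟨E.t_val _ _, fun e => E.t_ext _ _ e⟩

theorem F_eq {σ : P8} (h : InP σ) : E.F ⟨σ, h⟩ = E.t σ h.1 := (E.θ_F ⟨σ, mem_alt h.1⟩ h).symm

theorem F'_eq {σ : P8} (h : InP' σ) : E.F' ⟨σ, h⟩ = E.t σ h.1 := (E.θ_F' ⟨σ, mem_alt h.1⟩ h).symm

theorem mem_H {x : G} (h : x ∈ E.H) : ∃ σ, ∃ hs : Perm.sign σ = 1, E.t σ hs = x := by
  obtain ⟨⟨σ, hσ⟩, rfl⟩ := h
  exact ⟨σ, Perm.mem_alternatingGroup.1 hσ, rfl⟩

theorem range_F_le : E.F.range ≤ E.H := by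
  rintro _ ⟨⟨σ, h⟩, rfl⟩
  rw [E.F_eq h]; exact E.t_mem _ _

theorem range_F'_le : E.F'.range ≤ E.H := by
  rintro _ ⟨⟨σ, h⟩, rfl⟩
  rw [E.F'_eq h]; exact E.t_mem _ _

end Full

end Cfsg.Agent.A8Three
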