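import Cfsg.Agent.Lib.A8Three.FactsW
import Cfsg.Agent.Lib.Solvable.Coprime
import Cfsg.Agent.Lib.TwoGroups.CentFour
import Cfsg.Agent.Lib.TwoGroups.QuasiDihedral
import Cfsg.Agent.S0514
import Mathlib.GroupTheory.Transfer
import Mathlib.GroupTheory.Nilpotent

/-!
The centraliser of the four-group `V` of the characterisation of `A₈`.
-/

set_option autoImplicit false
set_option maxRecDepth 20000
set_option synthInstance.maxSize 2000
set_option maxHeartbeats 1000000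
set_option linter.style.haveILetI false

namespace Cfsg.Agent.A8Three

open Equiv Subgroup

theorem inP_a8' : InP a8' := by decide +kernel
theorem inP'_k : InP' k8 := inP'_k8

namespace Data

variable {G : Type*} [Group G] [Finite G] (D : Data G)
include D

/-- `z` -/
def z : G := D.F ⟨g8, inP_g8⟩
/-- `w` -/
def w : G := D.F ⟨w8, inP_w8⟩
/-- `a` -/
def a : G := D.F ⟨a8, inP_a8⟩
/-- `a'` -/
def a' : G := D.F ⟨a8', inP_a8'⟩
/-- the diagonal element -/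
def dd : G := D.F ⟨w8 * g8, PS.mul_mem inP_w8 inP_g8⟩

theorem w_eq : D.F' ⟨w8, inP'_w8⟩ = D.w := (D.agree _ _ _).symm
theorem z_eq : D.F' ⟨g8, inP'_g8⟩ = D.z := (D.agree _ _ _).symm

theorem F_ext {σ τ : P8} (a : InP σ) (b : InP τ) (e : σ = τ) : D.F ⟨σ, a⟩ = D.F ⟨τ, b⟩ := by subst e; rfl
theorem F'_ext {σ τ : P8} (a : InP' σ) (b : InP' τ) (e : σ = τ) : D.F' ⟨σ, a⟩ = D.F' ⟨τ, b⟩ := by
  subst e; rfl

theorem F_val {σ τ : P8} (a : InP σ) (b : InP τ) (e : D.F ⟨σ, a⟩ = D.F ⟨τ, b⟩) : σ = τ :=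
  congrArg Subtype.val (D.F_inj e)

theorem F'_val {σ τ : P8} (a : InP' σ) (b : InP' τ) (e : D.F' ⟨σ, a⟩ = D.F' ⟨τ, b⟩) : σ = τ :=
  congrArg Subtype.val (D.F'_inj e)

theorem F_mul {σ τ : P8} (a : InP σ) (b : InP τ) :
    D.F ⟨σ, a⟩ * D.F ⟨τ, b⟩ = D.F ⟨σ * τ, PS.mul_mem a b⟩ := (map_mul D.F _ _).symm

theorem F'_mul {σ τ : P8} (a : InP' σ) (b : InP' τ) :
    D.F' ⟨σ, a⟩ * D.F' ⟨τ, b⟩ = D.F' ⟨σ * τ, PS'.mul_mem a b⟩ := (map_mul D.F' _ _).symm

theorem F_comm {σ τ : P8} (a : InP σ) (b : InP τ) :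
    D.F ⟨σ, a⟩ * D.F ⟨τ, b⟩ = D.F ⟨τ, b⟩ * D.F ⟨σ, a⟩ ↔ σ * τ = τ * σ := by
  rw [D.F_mul a b, D.F_mul b a]
  exact ⟨D.F_val _ _, fun e => D.F_ext _ _ e⟩

theorem F'_comm {σ τ : P8} (a : InP' σ) (b : InP' τ) :
    D.F' ⟨σ, a⟩ * D.F' ⟨τ, b⟩ = D.F' ⟨τ, b⟩ * D.F' ⟨σ, a⟩ ↔ σ * τ = τ * σ := by
  rw [D.F'_mul a b, D.F'_mul b a]
  exact ⟨D.F'_val _ _, fun e => D.F'_ext _ _ e⟩

theorem F_conj {σ τ : P8} (a : InP σ) (b : InP τ) :
    D.F ⟨σ, a⟩ * D.F ⟨τ, b⟩ * (D.F ⟨σ, a⟩)⁻¹ =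
      D.F ⟨σ * τ * σ⁻¹, PS.mul_mem (PS.mul_mem a b) (PS.inv_mem a)⟩ := by
  rw [← map_inv, ← map_mul, ← map_mul]; rfl

theorem mem_range_z {x : G} (h : x * D.z = D.z * x) :
    ∃ σ, ∃ hσ : InP σ, σ * g8 = g8 * σ ∧ D.F ⟨σ, hσ⟩ = x := by
  have : x ∈ D.F.range := by
    rw [D.F_range, mem_normalizer_iff_map_conj_eq, MonoidHom.map_zpowers]
    exact congrArg zpowers (show x * D.z * x⁻¹ = D.z by rw [h, mul_inv_cancel_right])
  obtain ⟨⟨σ, hσ⟩, rfl⟩ := this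
  exact ⟨σ, hσ, (D.F_comm hσ inP_g8).1 h, rfl⟩

theorem mem_range_w {x : G} (h : x * D.w = D.w * x) :
    ∃ σ, ∃ hσ : InP' σ, σ * w8 = w8 * σ ∧ D.F' ⟨σ, hσ⟩ = x := by
  rw [← D.w_eq] at h
  have : x ∈ D.F'.range := by
    rw [D.F'_range, mem_normalizer_iff_map_conj_eq, MonoidHom.map_zpowers]
    exact congrArg zpowers (show x * D.F' ⟨w8, inP'_w8⟩ * x⁻¹ = _ by rw [h, mul_inv_cancel_right])
  obtain ⟨⟨σ, hσ⟩, rfl⟩ := this
  exact ⟨σ, hσ, (D.F'_comm hσ inP'_w8).1 h, rfl⟩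

theorem mem_DL {x : G} (hz : x * D.z = D.z * x) (hw : x * D.w = D.w * x) :
    ∃ σ, ∃ hσ : InP σ, σ ∈ DL ∧ D.F ⟨σ, hσ⟩ = x := by
  obtain ⟨σ, hσ, hg, rfl⟩ := D.mem_range_z hz
  exact ⟨σ, hσ, cent_D σ hσ hg ((D.F_comm hσ inP_w8).1 hw), rfl⟩

/-- The Sylow 3-subgroup `⟨z, w⟩`. -/
def D9 : Subgroup G where
  carrier := {x | x * D.z = D.z * x ∧ x * D.w = D.w * x}
  one_mem' := by simp
  mul_mem' {x y} hx hy := ⟨by rw [mul_assoc, hy.1, ← mul_assoc, hx.1, mul_assoc],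
    by rw [mul_assoc, hy.2, ← mul_assoc, hx.2, mul_assoc]⟩
  inv_mem' {x} hx := ⟨(Commute.inv_left hx.1 :), (Commute.inv_left hx.2 :)⟩

theorem card_D9 : Nat.card D.D9 = 9 := by
  have e : Nat.card (DL.toFinset : Set P8) = 9 := by
    rw [Nat.card_coe_set_eq, Set.ncard_coe_finset]
    decide +kernel
  rw [← e]
  refine (Nat.card_eq_of_bijective (fun σ : (DL.toFinset : Set P8) =>
    (⟨D.F ⟨σ, (DL_facts.1 _ (List.mem_toFinset.1 σ.2)).1⟩,
      (D.F_comm _ inP_g8).2 (DL_facts.1 _ (List.mem_toFinset.1 σ.2)).2.2.1,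
      (D.F_comm _ inP_w8).2 (DL_facts.1 _ (List.mem_toFinset.1 σ.2)).2.2.2⟩ : D.D9)) ?_).symm
  refine ⟨fun a b e => Subtype.ext (D.F_val _ _ (congrArg Subtype.val e)), fun x => ?_⟩
  obtain ⟨σ, hσ, hm, e⟩ := D.mem_DL x.2.1 x.2.2
  exact ⟨⟨σ, List.mem_toFinset.2 hm⟩, Subtype.ext e⟩

theorem card_z_ne : Nat.card (centralizer ({D.z} : Set G)) ≠ 18 := by
  intro hc
  set f5 : P8 := swap 0 1 * swap 1 2 * swap 2 3 * swap 3 4 with hf5
  have h5 : InP f5 ∧ f5 ^ 5 = 1 ∧ f5 ≠ 1 ∧ f5 * g8 = g8 * f5 := by rw [hf5]; decide +kernel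
  haveI : Fact (Nat.Prime 5) := ⟨by norm_num⟩
  have hord : orderOf (D.F ⟨f5, h5.1⟩) = 5 := by
    rw [orderOf_injective D.F D.F_inj, ← Subgroup.orderOf_coe]
    exact orderOf_eq_prime h5.2.1 h5.2.2.1
  have := orderOf_dvd_natCard (⟨D.F ⟨f5, h5.1⟩,
    mem_centralizer_singleton_iff.2 ((D.F_comm h5.1 inP_g8).2 h5.2.2.2)⟩ : centralizer ({D.z} : Set G))
  rw [orderOf_mk, hord, hc] at this
  norm_num at this

/-- An element of `C(u)` for an involution `u` generates no more than a Sylow 3-subgroup of order 3. -/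
theorem not_nine {u : G} (hu : u * u = 1) (hu1 : u ≠ 1) :
    ¬ 9 ∣ Nat.card (centralizer ({u} : Set G)) := by
  haveI : Fact (Nat.Prime 3) := ⟨Nat.prime_three⟩
  intro h9
  obtain ⟨Q, hQ⟩ := Sylow.exists_subgroup_card_pow_prime (G := centralizer ({u} : Set G)) 3 (n := 2) h9
  set Q' := Q.map (centralizer ({u} : Set G)).subtype with hQ'
  have hQ'c : Nat.card Q' = 3 ^ 2 := by rw [hQ', card_map_of_injective (Subgroup.subtype_injective _), hQ]
  have hfac : (Nat.card G).factorization 3 = 2 := by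
    have h2 : 3 ^ 2 ∣ Nat.card G := hQ'c ▸ card_subgroup_dvd_card Q'
    have a1 := (Nat.prime_three.pow_dvd_iff_le_factorization Nat.card_pos.ne').1 h2
    by_contra hne
    exact D.not_27 ((Nat.prime_three.pow_dvd_iff_le_factorization (k := 3) Nat.card_pos.ne').2 (by omega))
  let P₁ : Sylow 3 G := Sylow.ofCard Q' (by rw [hQ'c, hfac])
  let P₂ : Sylow 3 G := Sylow.ofCard D.D9 (by rw [D.card_D9, hfac]; rfl)
  obtain ⟨c, hc⟩ := MulAction.exists_smul_eq G P₂ P₁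
  have hsub : ∀ x ∈ D.D9, (c * x * c⁻¹) * u = u * (c * x * c⁻¹) := by
    intro x hx
    have : c * x * c⁻¹ ∈ (P₁ : Subgroup G) := by
      rw [← hc, Sylow.coe_subgroup_smul]
      exact ⟨x, hx, rfl⟩
    obtain ⟨q, -, hq⟩ := this
    rw [← hq]
    exact mem_centralizer_singleton_iff.1 q.2
  set v := c⁻¹ * u * c with hv
  have hcv : ∀ x ∈ D.D9, v * x = x * v := by
    intro x hx
    calc v * x = c⁻¹ * (u * (c * x * c⁻¹)) * c := by rw [hv]; group
      _ = c⁻¹ * ((c * x * c⁻¹) * u) * c := by rw [hsub x hx]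
      _ = x * v := by rw [hv]; group
  have mz : D.z ∈ D.D9 := ⟨rfl, ((D.F_comm inP_g8 inP_w8).2 (by decide +kernel) :)⟩
  have mw : D.w ∈ D.D9 := ⟨((D.F_comm inP_w8 inP_g8).2 (by decide +kernel) :), rfl⟩
  obtain ⟨σ, hσ, hm, e⟩ := D.mem_DL (hcv _ mz) (hcv _ mw)
  have h2 : σ * σ = 1 := by
    refine D.F_val (PS.mul_mem hσ hσ) PS.one_mem ?_
    rw [← D.F_mul hσ hσ, e, show D.F ⟨1, PS.one_mem⟩ = 1 from map_one D.F, hv]
    calc c⁻¹ * u * c * (c⁻¹ * u * c) = c⁻¹ * (u * u) * c := by group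
      _ = 1 := by rw [hu]; group
  have : σ = 1 := by
    have key : ∀ x ∈ DL, x * x = 1 → x = 1 := by decide +kernel
    exact key σ hm h2
  subst this
  refine hu1 ?_
  have h1 : v = 1 := by rw [← e]; exact map_one D.F
  calc u = c * v * c⁻¹ := by rw [hv]; group
    _ = 1 := by rw [h1]; group

theorem isConj_a_of_comm {u : G} (h : u * D.z = D.z * u) (hu : u * u = 1) (hu1 : u ≠ 1) :
    IsConj D.a u := by
  obtain ⟨σ, hσ, hg, rfl⟩ := D.mem_range_z h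
  obtain ⟨i, j, τ, -, k, l, ht, -, e⟩ := invol_g σ hσ hg
    (D.F_val (PS.mul_mem hσ hσ) PS.one_mem (by rw [← D.F_mul]; exact hu.trans (map_one D.F).symm))
    (fun e => hu1 (by subst e; exact map_one D.F))
  exact isConj_iff.2 ⟨_, (D.F_conj ht inP_a8).trans (D.F_ext _ _ e)⟩

theorem ne_one_of_eq {σ : P8} (h : InP σ) (h1 : σ ≠ 1) : D.F ⟨σ, h⟩ ≠ 1 := fun e =>
  h1 (D.F_val h PS.one_mem (e.trans (map_one D.F).symm))

/-- An involution centralising the diagonal element is not conjugate to `a`. -/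
theorem not_conj_dd {u : G} (hud : u * D.dd = D.dd * u) : ¬ IsConj D.a u := by
  haveI : Fact (Nat.Prime 3) := ⟨Nat.prime_three⟩
  intro hconj
  obtain ⟨c, hc⟩ := isConj_iff.1 hconj
  have haz : D.a * D.z = D.z * D.a := (D.F_comm inP_a8 inP_g8).2 (by decide +kernel)
  have hu : u * u = 1 := by
    rw [← hc]
    calc c * D.a * c⁻¹ * (c * D.a * c⁻¹) = c * (D.a * D.a) * c⁻¹ := by group
      _ = 1 := by
        rw [show D.a * D.a = 1 from (D.F_mul inP_a8 inP_a8).trans ((D.F_ext _ PS.one_mem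
          (by decide +kernel)).trans (map_one D.F))]
        group
  have hu1 : u ≠ 1 := by
    rw [← hc]; intro e
    exact D.ne_one_of_eq inP_a8 (by decide +kernel) (conj_eq_one_iff.1 e)
  set z' := c * D.z * c⁻¹ with hz'
  have hz'u : z' ∈ centralizer ({u} : Set G) := by
    rw [mem_centralizer_singleton_iff, ← hc, hz']
    calc c * D.z * c⁻¹ * (c * D.a * c⁻¹) = c * (D.z * D.a) * c⁻¹ := by group
      _ = c * (D.a * D.z) * c⁻¹ := by rw [haz]
      _ = _ := by group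
  have hdu : D.dd ∈ centralizer ({u} : Set G) := mem_centralizer_singleton_iff.2 hud.symm
  set C := centralizer ({u} : Set G) with hC
  have hfac : (Nat.card C).factorization 3 ≤ 1 := by
    by_contra hh
    exact D.not_nine hu hu1 ((Nat.prime_three.pow_dvd_iff_le_factorization (k := 2) Nat.card_pos.ne').2 (by rw [← hC]; omega))
  have ho : ∀ x : G, x ^ 3 = 1 → x ≠ 1 → ∀ hx : x ∈ C, Nat.card (zpowers (⟨x, hx⟩ : C)) =
      3 ^ (Nat.card C).factorization 3 := by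
    intro x hx3 hx1 hx
    have : orderOf (⟨x, hx⟩ : C) = 3 := by rw [orderOf_mk]; exact orderOf_eq_prime hx3 hx1
    rw [Nat.card_zpowers, this]
    have hd : 3 ∣ Nat.card C := this ▸ orderOf_dvd_natCard _
    have := (Nat.prime_three.pow_dvd_iff_le_factorization (k := 1) Nat.card_pos.ne').1 (by simpa using hd)
    rw [show (Nat.card C).factorization 3 = 1 by omega, pow_one]
  have hd3 : D.dd ^ 3 = 1 := by
    rw [dd, ← map_pow]
    exact (D.F_ext _ PS.one_mem (by decide +kernel)).trans (map_one D.F)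
  have hz3 : z' ^ 3 = 1 := by
    rw [hz', conj_pow, z, ← map_pow,
      show (⟨g8, inP_g8⟩ : PS) ^ 3 = 1 from Subtype.ext (show g8 ^ 3 = 1 by decide +kernel), map_one,
      mul_one, mul_inv_cancel]
  have hd1 : D.dd ≠ 1 := D.ne_one_of_eq _ (by decide +kernel)
  have hz1 : z' ≠ 1 := fun e => D.ne_one_of_eq inP_g8 (by decide +kernel) (conj_eq_one_iff.1 (hz' ▸ e))
  let P₁ : Sylow 3 C := Sylow.ofCard _ (ho _ hd3 hd1 hdu)
  let P₂ : Sylow 3 C := Sylow.ofCard _ (ho _ hz3 hz1 hz'u)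
  obtain ⟨e, he⟩ := MulAction.exists_smul_eq C P₂ P₁
  have hmem : e * ⟨z', hz'u⟩ * e⁻¹ ∈ zpowers (⟨D.dd, hdu⟩ : C) := by
    have : e * ⟨z', hz'u⟩ * e⁻¹ ∈ (P₁ : Subgroup C) := by
      rw [← he, Sylow.coe_subgroup_smul]
      exact ⟨_, mem_zpowers _, rfl⟩
    exact this
  obtain ⟨i, hi⟩ := mem_zpowers_iff.1 hmem
  have hi' : D.dd ^ i = (e : G) * z' * (e : G)⁻¹ := by simpa using congrArg Subtype.val hi
  have hcard : Nat.card (centralizer ({D.dd ^ i} : Set G)) = Nat.card (centralizer ({D.z} : Set G)) := by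
    rw [hi', ← card_centralizer_isConj (isConj_iff.2 ⟨(e : G), rfl⟩), hz',
      ← card_centralizer_isConj (isConj_iff.2 ⟨c, rfl⟩)]
  have hd3' : D.dd ^ (3 : ℤ) = 1 := by exact_mod_cast hd3
  have hii : D.dd ^ i = D.dd ^ (i % 3) := by
    conv_lhs => rw [← Int.emod_add_ediv_mul i 3, zpow_add, mul_comm (i / 3) 3, zpow_mul, hd3', one_zpow,
      mul_one]
  rcases (show i % 3 = 0 ∨ i % 3 = 1 ∨ i % 3 = 2 by omega) with h | h | h <;> rw [h] at hii
  · rw [zpow_zero, hi'] at hii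
    exact hz1 (conj_eq_one_iff.1 hii)
  · rw [hii, zpow_one] at hcard
    exact D.card_z_ne (hcard ▸ D.diag)
  · have : D.dd ^ (2 : ℤ) = D.dd⁻¹ := eq_inv_of_mul_eq_one_left (by
      rw [← zpow_add_one]; exact hd3')
    rw [hii, this, card_centralizer_inv] at hcard
    exact D.card_z_ne (hcard ▸ D.diag)

/-- The centraliser of `V`. -/
def CV : Subgroup G := centralizer ({D.a, D.a'} : Set G)

theorem mem_CV {x : G} : x ∈ D.CV ↔ x * D.a = D.a * x ∧ x * D.a' = D.a' * x := by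
  rw [CV, mem_centralizer_iff]
  simp [eq_comm]

theorem cv_comm_z {x : G} (hx : x ∈ D.CV) (h : x * D.z = D.z * x) :
    ∃ σ, ∃ hσ : InP σ, D.F ⟨σ, hσ⟩ = x ∧ ∃ v ∈ VL, σ = v ∨ σ = v * g8 ∨ σ = v * (g8 * g8) := by
  obtain ⟨σ, hσ, hg, rfl⟩ := D.mem_range_z h
  obtain ⟨h1, h2⟩ := D.mem_CV.1 hx
  exact ⟨σ, hσ, rfl, (cent_V σ hσ (Or.inl hg) ((D.F_comm hσ inP_a8).1 h1)
    ((D.F_comm hσ inP_a8').1 h2)).2⟩

/-- The elements of `CV` of order prime to 3. -/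
theorem exists_core : ∃ N : Subgroup G, N ≤ D.CV ∧ ¬ 3 ∣ Nat.card N ∧ D.a ∈ N ∧ D.a' ∈ N ∧
    (∀ n ∈ N, D.z * n * D.z⁻¹ ∈ N) ∧ (∀ n ∈ N, D.w * n * D.w⁻¹ ∈ N) ∧
    (∀ x ∈ D.CV, (∃ k, x ^ (2 ^ k) = 1) → x ∈ N) ∧
    (∀ x ∈ D.CV, ∃ n ∈ N, ∃ i : ℕ, x = n * D.z ^ i) := by
  classical
  haveI : Fact (Nat.Prime 3) := ⟨Nat.prime_three⟩
  have haa : D.a * D.a = 1 := (D.F_mul inP_a8 inP_a8).trans ((D.F_ext _ PS.one_mem
    (by decide +kernel)).trans (map_one D.F))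
  have hz : D.z ∈ D.CV := D.mem_CV.2 ⟨(D.F_comm inP_g8 inP_a8).2 (by decide +kernel),
    (D.F_comm inP_g8 inP_a8').2 (by decide +kernel)⟩
  have hz3 : D.z ^ 3 = 1 := by
    rw [z, ← map_pow]
    exact (D.F_ext _ PS.one_mem (by decide +kernel)).trans (map_one D.F)
  have hz1 : D.z ≠ 1 := D.ne_one_of_eq inP_g8 (by decide +kernel)
  have hzo : orderOf (⟨D.z, hz⟩ : D.CV) = 3 := by rw [orderOf_mk]; exact orderOf_eq_prime hz3 hz1
  have hfac : (Nat.card D.CV).factorization 3 = 1 := by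
    have hd : 3 ^ 1 ∣ Nat.card D.CV := by simpa [hzo] using orderOf_dvd_natCard (⟨D.z, hz⟩ : D.CV)
    have h1 := (Nat.prime_three.pow_dvd_iff_le_factorization Nat.card_pos.ne').1 hd
    by_contra hne
    refine D.not_nine haa (D.ne_one_of_eq inP_a8 (by decide +kernel)) (Dvd.dvd.trans
      ((Nat.prime_three.pow_dvd_iff_le_factorization (k := 2) Nat.card_pos.ne').2 (by omega))
      (card_dvd_of_le fun x hx => mem_centralizer_singleton_iff.2 (D.mem_CV.1 hx).1))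
  let P : Sylow 3 D.CV := Sylow.ofCard (zpowers ⟨D.z, hz⟩) (by rw [Nat.card_zpowers, hzo, hfac, pow_one])
  have hP : normalizer ((P : Subgroup D.CV) : Set D.CV) ≤ centralizer ((P : Subgroup D.CV) : Set D.CV) := by
    intro x hx
    have hxz : (x : G) * D.z * (x : G)⁻¹ = D.z ∨ (x : G) * D.z * (x : G)⁻¹ = D.z * D.z := by
      have h1 := (mem_normalizer_iff.1 hx ⟨D.z, hz⟩).1 (mem_zpowers _)
      obtain ⟨i, hi, e⟩ := Finset.mem_image.1 (mem_zpowers_iff_mem_range_orderOf.1 h1)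
      rw [Finset.mem_range, hzo] at hi
      have e' : D.z ^ i = (x : G) * D.z * (x : G)⁻¹ := by simpa using congrArg Subtype.val e
      interval_cases i
      · rw [pow_zero, eq_comm, mul_inv_eq_one, mul_eq_left] at e'
        exact absurd e' hz1
      · exact Or.inl (e'.symm.trans (pow_one _))
      · exact Or.inr (e'.symm.trans (pow_two _))
    have hxR : (x : G) ∈ D.F.range := by
      rw [D.F_range, mem_normalizer_iff_map_conj_eq, MonoidHom.map_zpowers]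
      rcases hxz with e | e
      · exact congrArg zpowers (show (x : G) * D.z * (x : G)⁻¹ = D.z from e)
      · exact (congrArg zpowers (show (x : G) * D.z * (x : G)⁻¹ = D.z * D.z from e)).trans
          (by rw [show D.z * D.z = D.z⁻¹ from eq_inv_of_mul_eq_one_left (by rw [← hz3, pow_succ, pow_two]), zpowers_inv]; rfl)
    obtain ⟨⟨σ, hσ⟩, e⟩ := hxR
    obtain ⟨h1, h2⟩ := D.mem_CV.1 x.2
    rw [← e] at h1 h2 hxz
    have hcase : σ * g8 = g8 * σ ∨ σ * g8 = g8 * g8 * σ := by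
      rcases hxz with h | h
      · exact Or.inl ((D.F_comm hσ inP_g8).1 (mul_inv_eq_iff_eq_mul.1 h))
      · exact Or.inr (D.F_val (PS.mul_mem hσ inP_g8) (PS.mul_mem (PS.mul_mem inP_g8 inP_g8) hσ)
          (by rw [← D.F_mul hσ inP_g8, ← D.F_mul (PS.mul_mem inP_g8 inP_g8) hσ, ← D.F_mul inP_g8 inP_g8]
              exact mul_inv_eq_iff_eq_mul.1 h))
    have hg := (cent_V σ hσ hcase ((D.F_comm hσ inP_a8).1 h1) ((D.F_comm hσ inP_a8').1 h2)).1
    show x ∈ centralizer ((zpowers (⟨D.z, hz⟩ : D.CV) : Subgroup D.CV) : Set D.CV)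
    rw [mem_centralizer_iff]
    intro y hy
    obtain ⟨k, rfl⟩ := mem_zpowers_iff.1 hy
    have hc : Commute x (⟨D.z, hz⟩ : D.CV) := Subtype.ext (show (x : G) * D.z = D.z * (x : G) by rw [← e]; exact (D.F_comm hσ inP_g8).2 hg)
    exact (hc.zpow_right k).symm.eq
  set f := MonoidHom.transferSylow P hP with hf
  have hker := MonoidHom.ker_transferSylow_isComplement' P hP
  set M : Subgroup D.CV := f.ker with hM
  have hM3 : ¬ 3 ∣ Nat.card M := by
    intro h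
    have h2 := hker.card_mul_card
    rw [show Nat.card (P : Subgroup D.CV) = 3 from by
      show Nat.card (zpowers (⟨D.z, hz⟩ : D.CV)) = 3
      rw [Nat.card_zpowers, hzo]] at h2
    have : 3 ^ 2 ∣ Nat.card D.CV := by rw [← h2, pow_two]; exact Nat.mul_dvd_mul h dvd_rfl
    have := (Nat.prime_three.pow_dvd_iff_le_factorization Nat.card_pos.ne').1 this
    omega
  have hmem : ∀ x : D.CV, x ∈ M ↔ ¬ 3 ∣ orderOf x := by
    intro x
    constructor
    · intro hx h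
      exact hM3 (h.trans (by rw [← Subgroup.orderOf_mk x hx]; exact orderOf_dvd_natCard _))
    · intro hx
      have h1 : orderOf (f x) ∣ orderOf x := orderOf_map_dvd f x
      have h2 : orderOf (f x) ∣ 3 := by
        have := orderOf_dvd_natCard (f x)
        rwa [show Nat.card (P : Subgroup D.CV) = 3 from by
          show Nat.card (zpowers (⟨D.z, hz⟩ : D.CV)) = 3
          rw [Nat.card_zpowers, hzo]] at this
      rw [hM, MonoidHom.mem_ker, ← orderOf_eq_one_iff]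
      rcases (Nat.dvd_prime Nat.prime_three).1 h2 with e | e
      · exact e
      · exact absurd (e ▸ h1) hx
  refine ⟨M.map D.CV.subtype, map_subtype_le M, ?_, ?_, ?_, ?_, ?_, ?_, ?_⟩
  · rwa [card_map_of_injective (Subgroup.subtype_injective _)]
  rotate_left
  rotate_left
  · rintro _ ⟨n, hn, rfl⟩
    refine ⟨⟨D.z, hz⟩ * n * ⟨D.z, hz⟩⁻¹, ?_, rfl⟩
    exact (inferInstance : M.Normal).conj_mem n hn _
  · rintro _ ⟨n, hn, rfl⟩
    have hm : D.w * (n : G) * D.w⁻¹ ∈ D.CV := by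
      obtain ⟨h1, h2⟩ := D.mem_CV.1 n.2
      have hvall : ∀ v ∈ VL, ∀ hv : InP v, (n : G) * D.F ⟨v, hv⟩ = D.F ⟨v, hv⟩ * (n : G) := by
        intro v hv' hv
        simp only [VL, List.mem_cons, List.not_mem_nil, or_false] at hv'
        rcases hv' with rfl | rfl | rfl | rfl
        · rw [show D.F ⟨1, hv⟩ = 1 from map_one D.F, mul_one, one_mul]
        · exact h1
        · exact h2
        · rw [show D.F ⟨a8 * a8', hv⟩ = D.a * D.a' from (D.F_mul inP_a8 inP_a8').symm, ← mul_assoc, h1,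
            mul_assoc, h2, ← mul_assoc]
      have key : ∀ v ∈ VL, w8⁻¹ * v * w8 ∈ VL ∧ InP (w8⁻¹ * v * w8) := by decide +kernel
      have gen : ∀ v, ∀ hv : InP v, v ∈ VL →
          D.w * (n : G) * D.w⁻¹ * D.F ⟨v, hv⟩ = D.F ⟨v, hv⟩ * (D.w * (n : G) * D.w⁻¹) := by
        intro v hv hv'
        have e : D.F ⟨w8⁻¹ * v * w8, (key v hv').2⟩ = D.w⁻¹ * D.F ⟨v, hv⟩ * D.w := by
          rw [w, ← map_inv, ← map_mul, ← map_mul]; rfl
        have := hvall _ (key v hv').1 (key v hv').2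
        rw [e] at this
        calc D.w * (n : G) * D.w⁻¹ * D.F ⟨v, hv⟩
            = D.w * ((n : G) * (D.w⁻¹ * D.F ⟨v, hv⟩ * D.w)) * D.w⁻¹ := by group
          _ = D.w * ((D.w⁻¹ * D.F ⟨v, hv⟩ * D.w) * (n : G)) * D.w⁻¹ := by rw [this]
          _ = _ := by group
      exact D.mem_CV.2 ⟨gen a8 inP_a8 (by decide +kernel), gen a8' inP_a8' (by decide +kernel)⟩
    refine ⟨⟨_, hm⟩, (hmem _).2 ?_, rfl⟩
    rw [orderOf_mk, show D.w * (n : G) * D.w⁻¹ = MulAut.conj D.w (n : G) from rfl, MulEquiv.orderOf_eq,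
      Subgroup.orderOf_coe]
    exact (hmem n).1 hn
  · intro x hx ⟨k, hk⟩
    refine ⟨⟨x, hx⟩, (hmem _).2 fun h => ?_, rfl⟩
    rw [orderOf_mk] at h
    have := Nat.prime_three.dvd_of_dvd_pow (h.trans (orderOf_dvd_of_pow_eq_one hk))
    norm_num at this
  · intro x hx
    obtain ⟨⟨m, p⟩, hmp⟩ := hker.2 ⟨x, hx⟩
    obtain ⟨i, hi, e⟩ := Finset.mem_image.1 (mem_zpowers_iff_mem_range_orderOf.1
      (show (p : D.CV) ∈ zpowers (⟨D.z, hz⟩ : D.CV) from p.2))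
    refine ⟨_, ⟨m, m.2, rfl⟩, i, ?_⟩
    have := congrArg Subtype.val hmp
    simp only [Subgroup.coe_mul] at this
    rw [← this, ← e]
    rfl
  · refine ⟨⟨D.a, D.mem_CV.2 ⟨rfl, (D.F_comm inP_a8 inP_a8').2 (by decide +kernel)⟩⟩, (hmem _).2 ?_, rfl⟩
    rw [orderOf_mk]
    intro h
    have := h.trans (orderOf_dvd_of_pow_eq_one (n := 2) (by rw [pow_two, haa]))
    norm_num at this
  · refine ⟨⟨D.a', D.mem_CV.2 ⟨(D.F_comm inP_a8' inP_a8).2 (by decide +kernel), rfl⟩⟩, (hmem _).2 ?_, rfl⟩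
    rw [orderOf_mk]
    intro h
    have h2 : D.a' * D.a' = 1 := (D.F_mul inP_a8' inP_a8').trans ((D.F_ext _ PS.one_mem
      (by decide +kernel)).trans (map_one D.F))
    have := h.trans (orderOf_dvd_of_pow_eq_one (n := 2) (by rw [pow_two, h2]))
    norm_num at this

end Data

end Cfsg.Agent.A8Three
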