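import Cfsg.Agent.Lib.A8Three.Local

/-!
The centraliser of `V` contains a second four-group, in the characterisation of `A₈`.
-/

set_option autoImplicit false
set_option maxRecDepth 20000
set_option synthInstance.maxSize 2000
set_option maxHeartbeats 1000000
set_option linter.style.haveILetI false

namespace Cfsg.Agent.A8Three

open Equiv Subgroup

theorem w_pow : ∀ σ, InP' σ → σ * w8 = w8 * σ → σ ^ 60 = 1 := forall_inP' (by decide +kernel)

theorem DL_gen : ∀ x ∈ DL, ∃ i j : Fin 3, x = g8 ^ (i : ℕ) * w8 ^ (j : ℕ) := by decide +kernel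

theorem DL_exp : ∀ x ∈ DL, x ^ 3 = 1 ∧ ∀ y ∈ DL, x * y = y * x := by decide +kernel

theorem VL_dd : ∀ v ∈ VL, v * (w8 * g8) = w8 * g8 * v ∨
    v * (k8 * (w8 * g8) * k8⁻¹) = k8 * (w8 * g8) * k8⁻¹ * v → v = 1 := by decide +kernel

theorem VL_closed : (∀ x ∈ VL, ∀ y ∈ VL, x * y ∈ VL) ∧ (∀ x ∈ UL, ∀ y ∈ UL, x * y ∈ UL) ∧
    (∀ x ∈ UL4, ∀ y ∈ UL4, x * y ∈ UL4) := by decide +kernel

theorem UL_ne : (∀ x ∈ UL, x ∈ UL4 → x = 1) ∧ u8 ∈ UL ∧ u8 ≠ 1 := by decide +kernel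

theorem w_facts : g8 * w8 = w8 * g8 ∧ g8 * g8⁻¹ = 1 ∧ InP (k8 * (w8 * g8) * k8⁻¹) ∧
    g8 * (k8 * (w8 * g8) * k8⁻¹) = k8 * (w8 * g8) * k8⁻¹ * g8 ∧ g8 * (w8 * g8) = w8 * g8 * g8 := by
  decide +kernel

theorem a_conj : InP (swap 1 2 * swap 5 6) ∧
    swap 1 2 * swap 5 6 * a8 * (swap 1 2 * swap 5 6)⁻¹ = a8' := by decide +kernel

namespace Data

variable {G : Type*} [Group G] [Finite G] (D : Data G)
include D

theorem V_inP {v : P8} (h : v ∈ VL) : InP v := (lists_inP.1 v h).1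
theorem U_inP {v : P8} {L : List P8} (hL : L = [1] ∨ L = UL ∨ L = UL4) (h : v ∈ L) :
    InP' v ∧ v * w8 = w8 * v ∧ v * v = 1 := by
  rcases hL with rfl | rfl | rfl
  · rw [List.mem_singleton] at h; subst h; exact ⟨PS'.one_mem, by simp, mul_one 1⟩
  · obtain ⟨a, b, c, -⟩ := lists_inP.2 v (List.mem_append.2 (Or.inl h)); exact ⟨a, b, c⟩
  · obtain ⟨a, b, c, -⟩ := lists_inP.2 v (List.mem_append.2 (Or.inr h)); exact ⟨a, b, c⟩

theorem cv_comm_V {x : G} (hx : x ∈ D.CV) {v : P8} (hv : v ∈ VL) (h : InP v) :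
    x * D.F ⟨v, h⟩ = D.F ⟨v, h⟩ * x := by
  obtain ⟨h1, h2⟩ := D.mem_CV.1 hx
  simp only [VL, List.mem_cons, List.not_mem_nil, or_false] at hv
  rcases hv with rfl | rfl | rfl | rfl
  · rw [show D.F ⟨1, h⟩ = 1 from map_one D.F, mul_one, one_mul]
  · exact h1
  · exact h2
  · rw [show D.F ⟨a8 * a8', h⟩ = D.a * D.a' from (D.F_mul inP_a8 inP_a8').symm, ← mul_assoc, h1,
      mul_assoc, h2, ← mul_assoc]

theorem F_one : D.F ⟨1, PS.one_mem⟩ = 1 := map_one D.F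
theorem F'_one : D.F' ⟨1, PS'.one_mem⟩ = 1 := map_one D.F'

/-- An element of order prime to 3 in the second stabiliser centralising `w`. -/
theorem w_small {x : G} (h : x * D.w = D.w * x) (h3 : ¬ 3 ∣ orderOf x) :
    ∃ σ, ∃ hσ : InP' σ, D.F' ⟨σ, hσ⟩ = x ∧ σ * w8 = w8 * σ ∧ σ ^ 20 = 1 := by
  obtain ⟨σ, hσ, hw, rfl⟩ := D.mem_range_w h
  refine ⟨σ, hσ, rfl, hw, ?_⟩
  have ho : orderOf (D.F' ⟨σ, hσ⟩) = orderOf σ := by
    rw [orderOf_injective D.F' D.F'_inj, ← Subgroup.orderOf_coe]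
  rw [ho] at h3
  have h60 : orderOf σ ∣ 3 * 20 := orderOf_dvd_of_pow_eq_one (w_pow σ hσ hw)
  exact orderOf_dvd_iff_pow_eq_one.1
    (((Nat.prime_three.coprime_iff_not_dvd.2 h3).symm).dvd_of_dvd_mul_left h60)

/-- The decomposition of the centraliser of `V`. -/
theorem cv_cases : ∃ L : List P8, (L = [1] ∨ L = UL ∨ L = UL4) ∧
    (∀ u ∈ L, ∀ hu : InP' u, D.F' ⟨u, hu⟩ ∈ D.CV) ∧
    (∀ x ∈ D.CV, ∃ v, ∃ hv : InP v, ∃ u, ∃ hu : InP' u, ∃ i : ℕ, v ∈ VL ∧ u ∈ L ∧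
      x = D.F ⟨v, hv⟩ * D.F' ⟨u, hu⟩ * D.z ^ i) ∧
    (∀ x ∈ D.CV, (∃ k, x ^ (2 ^ k) = 1) → ∃ v, ∃ hv : InP v, ∃ u, ∃ hu : InP' u, v ∈ VL ∧ u ∈ L ∧
      x = D.F ⟨v, hv⟩ * D.F' ⟨u, hu⟩) := by
  classical
  obtain ⟨N, hN, h3, -, -, hzN, hwN, h2N, hdec⟩ := D.exists_core
  have h3' : ∀ n ∈ N, ¬ 3 ∣ orderOf n := fun n hn h =>
    h3 (h.trans (by rw [← Subgroup.orderOf_mk n hn]; exact orderOf_dvd_natCard _))
  have hzi : ∀ n ∈ N, D.z⁻¹ * n * D.z ∈ N := by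
    intro n hn
    have hz3 : D.z ^ 3 = 1 := by
      rw [z, ← map_pow]
      exact (D.F_ext _ PS.one_mem (by decide +kernel)).trans (map_one D.F)
    have h := hzN _ (hzN n hn)
    have e : D.z⁻¹ = D.z * D.z := by
      symm; refine eq_inv_of_mul_eq_one_left ?_; rw [← hz3, pow_succ, pow_two]
    have e2 : D.z = D.z⁻¹ * D.z⁻¹ := by rw [← mul_inv_rev, ← e, inv_inv]
    rw [show D.z * (D.z * n * D.z⁻¹) * D.z⁻¹ = (D.z * D.z) * n * (D.z⁻¹ * D.z⁻¹) by group] at h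
    rwa [← e, ← e2] at h
  -- elements of `N` centralising `z`
  have hNz : ∀ n ∈ N, n * D.z = D.z * n → ∃ v, ∃ hv : InP v, v ∈ VL ∧ D.F ⟨v, hv⟩ = n := by
    intro n hn hc
    obtain ⟨σ, hσ, e, v, hv, h⟩ := D.cv_comm_z (hN hn) hc
    have key : ∀ v ∈ VL, (v * g8) ^ 2 ≠ 1 ∧ (v * (g8 * g8)) ^ 2 ≠ 1 ∧
        (v * g8) ^ 6 = 1 ∧ (v * (g8 * g8)) ^ 6 = 1 := by decide +kernel
    have ho : orderOf n = orderOf σ := by
      rw [← e, orderOf_injective D.F D.F_inj, ← Subgroup.orderOf_coe]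
    have h3n := h3' n hn
    rw [ho] at h3n
    have hsq : ∀ τ : P8, τ = σ → τ ^ 6 = 1 → τ ^ 2 = 1 := by
      rintro τ rfl h6
      exact orderOf_dvd_iff_pow_eq_one.1 (((Nat.prime_three.coprime_iff_not_dvd.2 h3n).symm).dvd_of_dvd_mul_left
        (show orderOf τ ∣ 3 * 2 from orderOf_dvd_of_pow_eq_one h6))
    rcases h with rfl | rfl | rfl
    · exact ⟨σ, hσ, hv, e⟩
    · exact absurd (hsq _ rfl (key v hv).2.2.1) (key v hv).1
    · exact absurd (hsq _ rfl (key v hv).2.2.2) (key v hv).2.1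
  -- elements of `N` centralising a diagonal element
  have hNd : ∀ δ, ∀ hδ : InP δ, Nat.card (centralizer ({D.F ⟨δ, hδ⟩} : Set G)) = 18 → g8 * δ = δ * g8 →
      (∀ v ∈ VL, v * δ = δ * v → v = 1) → ∀ n ∈ N, n * D.F ⟨δ, hδ⟩ = D.F ⟨δ, hδ⟩ * n → n = 1 := by
    intro δ hδ hc hg hv n hn hcn
    set M := N ⊓ centralizer ({D.F ⟨δ, hδ⟩} : Set G) with hM
    have hM2 : Nat.card M ∣ 2 := by
      have h18 : Nat.card M ∣ 9 * 2 := by
        rw [show (9 : ℕ) * 2 = 18 from rfl, ← hc]; exact card_dvd_of_le inf_le_right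
      have h3M : Nat.Coprime (Nat.card M) 3 := by
        rw [Nat.coprime_comm, Nat.prime_three.coprime_iff_not_dvd]
        exact fun h => h3 (h.trans (card_dvd_of_le inf_le_left))
      exact (h3M.pow_right 2).dvd_of_dvd_mul_left h18
    by_contra hn1
    have hnM : n ∈ M := ⟨hn, mem_centralizer_singleton_iff.2 hcn⟩
    have hzδ : D.z * D.F ⟨δ, hδ⟩ = D.F ⟨δ, hδ⟩ * D.z := (D.F_comm inP_g8 hδ).2 hg
    have hmM : D.z * n * D.z⁻¹ ∈ M := ⟨hzN n hn, mem_centralizer_singleton_iff.2 (by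
      have hzi' : D.z⁻¹ * D.F ⟨δ, hδ⟩ = D.F ⟨δ, hδ⟩ * D.z⁻¹ := (Commute.inv_left hzδ :)
      rw [mul_assoc, hzi', ← mul_assoc, mul_assoc D.z, hcn, ← mul_assoc, hzδ, mul_assoc (D.F _),
        mul_assoc (D.F _)])⟩
    have hM2' : Nat.card M = 2 := by
      rcases (Nat.dvd_prime Nat.prime_two).1 hM2 with h | h
      · have := Subgroup.card_eq_one.1 h
        rw [this, Subgroup.mem_bot] at hnM
        exact absurd hnM hn1
      · exact h
    obtain ⟨y, -, hy⟩ := (Nat.card_eq_two_iff' (1 : M)).1 hM2'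
    have e1 := hy ⟨n, hnM⟩ (fun h => hn1 (congrArg Subtype.val h))
    have e2 := hy ⟨_, hmM⟩ (fun h => hn1 (conj_eq_one_iff.1 (congrArg Subtype.val h)))
    have e3 : D.z * n * D.z⁻¹ = n := congrArg Subtype.val (e2.trans e1.symm)
    obtain ⟨v, hv', hvV, rfl⟩ := hNz n hn (mul_inv_eq_iff_eq_mul.1 e3).symm
    have := hv v hvV ((D.F_comm hv' hδ).1 hcn)
    subst this
    exact hn1 D.F_one
  have hd1 : ∀ n ∈ N, n * D.F ⟨w8 * g8, PS.mul_mem inP_w8 inP_g8⟩ =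
      D.F ⟨w8 * g8, PS.mul_mem inP_w8 inP_g8⟩ * n → n = 1 :=
    hNd _ _ D.diag w_facts.2.2.2.2 (fun v hv h => VL_dd v hv (Or.inl h))
  have hd2 : ∀ n ∈ N, n * D.F ⟨k8 * (w8 * g8) * k8⁻¹, w_facts.2.2.1⟩ =
      D.F ⟨k8 * (w8 * g8) * k8⁻¹, w_facts.2.2.1⟩ * n → n = 1 := by
    refine hNd _ _ ?_ w_facts.2.2.2.1 (fun v hv h => VL_dd v hv (Or.inr h))
    rw [← card_centralizer_isConj (isConj_iff.2 ⟨_, D.F_conj inP_k8 (PS.mul_mem inP_w8 inP_g8)⟩)]
    exact D.diag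
  -- elements of `N` centralising `w`
  have hw20 : ∀ n ∈ N, n * D.w = D.w * n →
      ∃ σ, ∃ hσ : InP' σ, D.F' ⟨σ, hσ⟩ = n ∧ σ * w8 = w8 * σ ∧ σ ^ 20 = 1 :=
    fun n hn hc => D.w_small hc (h3' n hn)
  have hgen : ∀ σ, (∃ hσ : InP' σ, D.F' ⟨σ, hσ⟩ ∈ N) → σ * w8 = w8 * σ → σ ^ 20 = 1 := by
    rintro σ ⟨hσ, hn⟩ hc
    obtain ⟨τ, hτ, e, -, h20⟩ := hw20 _ hn (by rw [← D.w_eq]; exact (D.F'_comm hσ inP'_w8).2 hc)
    rwa [← D.F'_val hτ hσ e]
  have hcj : ∀ σ, ∀ hσ : InP' σ, D.F' ⟨σ, hσ⟩ ∈ N → σ * w8 = w8 * σ →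
      (∃ h : InP' (g8 * σ * g8⁻¹), D.F' ⟨_, h⟩ ∈ N ∧ g8 * σ * g8⁻¹ * w8 = w8 * (g8 * σ * g8⁻¹)) ∧
      (∃ h : InP' (g8⁻¹ * σ * g8), D.F' ⟨_, h⟩ ∈ N ∧ g8⁻¹ * σ * g8 * w8 = w8 * (g8⁻¹ * σ * g8)) := by
    intro σ hσ hn hc
    have hgw : Commute g8 w8 := w_facts.1
    refine ⟨⟨PS'.mul_mem (PS'.mul_mem inP'_g8 hσ) (PS'.inv_mem inP'_g8), ?_,
        ((hgw.mul_left hc).mul_left hgw.inv_left).eq⟩,
      ⟨PS'.mul_mem (PS'.mul_mem (PS'.inv_mem inP'_g8) hσ) inP'_g8, ?_,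
        ((hgw.inv_left.mul_left hc).mul_left hgw).eq⟩⟩
    · convert hzN _ hn using 1
      rw [← D.z_eq, ← map_inv, ← map_mul, ← map_mul]; rfl
    · convert hzi _ hn using 1
      rw [← D.z_eq, ← map_inv, ← map_mul, ← map_mul]; rfl
  have hmulN : ∀ σ τ, (∃ a : InP' σ, D.F' ⟨σ, a⟩ ∈ N) → (∃ b : InP' τ, D.F' ⟨τ, b⟩ ∈ N) →
      ∃ c : InP' (σ * τ), D.F' ⟨σ * τ, c⟩ ∈ N := by
    rintro σ τ ⟨a, h1⟩ ⟨b, h2⟩
    refine ⟨PS'.mul_mem a b, ?_⟩
    rw [← D.F'_mul a b]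
    exact N.mul_mem h1 h2
  have helem : ∀ σ, ∀ hσ : InP' σ, D.F' ⟨σ, hσ⟩ ∈ N → σ * w8 = w8 * σ → σ ∈ UL ∨ σ ∈ UL4 := by
    intro σ hσ hn hc
    obtain ⟨⟨h1, n1, c1⟩, ⟨h2, n2, c2⟩⟩ := hcj σ hσ hn hc
    have N0 : ∃ a : InP' σ, D.F' ⟨σ, a⟩ ∈ N := ⟨hσ, hn⟩
    have N1 := hmulN _ _ (hmulN _ _ N0 ⟨h1, n1⟩) N0
    have c0 : Commute σ w8 := hc
    rcases rlem_elem' σ hσ hc (hgen σ N0 hc) with h | h | h | h | h
    · exact Or.inl h
    · exact Or.inr h
    · exact absurd (hgen _ (hmulN _ _ (hmulN _ _ N1 ⟨h1, n1⟩) ⟨h2, n2⟩)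
        ((((c0.mul_left c1).mul_left c0).mul_left c1).mul_left c2)) h
    · exact absurd (hgen _ (hmulN _ _ (hmulN _ _ N1 ⟨h2, n2⟩) ⟨h1, n1⟩)
        ((((c0.mul_left c1).mul_left c0).mul_left c2).mul_left c1)) h
    · exact absurd (hgen _ (hmulN _ _ N0 ⟨h1, n1⟩) (c0.mul_left c1)) h
  -- the choice of the list
  obtain ⟨L, hL, hLN, hLw⟩ : ∃ L : List P8, (L = [1] ∨ L = UL ∨ L = UL4) ∧
      (∀ u ∈ L, ∀ hu : InP' u, D.F' ⟨u, hu⟩ ∈ N) ∧
      (∀ n ∈ N, n * D.w = D.w * n → ∃ u, ∃ hu : InP' u, u ∈ L ∧ D.F' ⟨u, hu⟩ = n) := by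
    by_cases hall : ∀ n ∈ N, n * D.w = D.w * n → n = 1
    · refine ⟨[1], Or.inl rfl, fun u hu h => ?_, fun n hn hc => ⟨1, PS'.one_mem, List.mem_singleton.2 rfl,
        by rw [hall n hn hc]; exact map_one D.F'⟩⟩
      rw [List.mem_singleton] at hu; subst hu
      rw [show D.F' ⟨1, h⟩ = 1 from map_one D.F']
      exact N.one_mem
    push_neg at hall
    obtain ⟨n, hn, hc, hn1⟩ := hall
    obtain ⟨σ, hσ, rfl, hσc, -⟩ := hw20 n hn hc
    have hσ1 : σ ≠ 1 := fun e => hn1 (by subst e; exact map_one D.F')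
    obtain ⟨⟨h1, n1, -⟩, ⟨h2, n2, -⟩⟩ := hcj σ hσ hn hσc
    have main : ∀ L ∈ [UL, UL4], σ ∈ L → (∀ u ∈ L, ∀ hu : InP' u, D.F' ⟨u, hu⟩ ∈ N) := by
      intro L hL hσL u hu hu'
      rcases rlem_gen' L hL σ hσL hσ1 u hu with rfl | rfl | rfl | rfl
      · rw [show D.F' ⟨1, hu'⟩ = 1 from map_one D.F']; exact N.one_mem
      · exact hn
      · exact n1
      · exact n2
    have hpair : ∀ u ∈ UL, ∀ v ∈ UL4, u ≠ 1 → v ≠ 1 → ∀ hu : InP' u, ∀ hv : InP' v,
        D.F' ⟨u, hu⟩ ∈ N → D.F' ⟨v, hv⟩ ∈ N → False := by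
      intro u hu v hv hu1 hv1 hu' hv' nu nv
      have cu : Commute u w8 := (lists_inP.2 u (List.mem_append.2 (Or.inl hu))).2.1
      have cv : v * w8 = w8 * v := (lists_inP.2 v (List.mem_append.2 (Or.inr hv))).2.1
      obtain ⟨⟨g1, m1, d1⟩, ⟨g2, m2, d2⟩⟩ := hcj v hv' nv cv
      rcases rlem_pair' u hu v hv hu1 hv1 with h | h | h
      · exact h (hgen _ (hmulN _ _ ⟨hu', nu⟩ ⟨hv', nv⟩) (cu.mul_left cv))
      · exact h (hgen _ (hmulN _ _ ⟨hu', nu⟩ ⟨g1, m1⟩) (cu.mul_left d1))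
      · exact h (hgen _ (hmulN _ _ ⟨hu', nu⟩ ⟨g2, m2⟩) (cu.mul_left d2))
    rcases helem σ hσ hn hσc with hσL | hσL
    · refine ⟨UL, Or.inr (Or.inl rfl), main UL (by simp) hσL, fun m hm hmc => ?_⟩
      obtain ⟨τ, hτ, e, hτc, -⟩ := hw20 m hm hmc
      refine ⟨τ, hτ, ?_, e⟩
      rcases helem τ hτ (e ▸ hm) hτc with h | h
      · exact h
      · by_cases hτ1 : τ = 1
        · subst hτ1; decide +kernel
        · exact (hpair σ hσL τ h hσ1 hτ1 hσ hτ hn (e ▸ hm)).elim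
    · refine ⟨UL4, Or.inr (Or.inr rfl), main UL4 (by simp) hσL, fun m hm hmc => ?_⟩
      obtain ⟨τ, hτ, e, hτc, -⟩ := hw20 m hm hmc
      refine ⟨τ, hτ, ?_, e⟩
      rcases helem τ hτ (e ▸ hm) hτc with h | h
      · by_cases hτ1 : τ = 1
        · subst hτ1; decide +kernel
        · exact (hpair τ h σ hσL hτ1 hσ1 hτ hσ (e ▸ hm) hn).elim
      · exact h
  have hLcl : ∀ x ∈ L, ∀ y ∈ L, x * y ∈ L := by
    rcases hL with rfl | rfl | rfl
    · simp
    · exact VL_closed.2.1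
    · exact VL_closed.2.2
  have hL1 : (1 : P8) ∈ L := by rcases hL with rfl | rfl | rfl <;> simp [UL, UL4]
  -- the product of the two four-groups
  let X : Subgroup G :=
    { carrier := {x | ∃ v, ∃ hv : InP v, ∃ u, ∃ hu : InP' u, v ∈ VL ∧ u ∈ L ∧ x = D.F ⟨v, hv⟩ * D.F' ⟨u, hu⟩}
      one_mem' := ⟨1, PS.one_mem, 1, PS'.one_mem, by simp [VL], hL1, by
        rw [D.F_one, D.F'_one, mul_one]⟩
      mul_mem' := by
        rintro _ _ ⟨v, hv, u, hu, hvV, huL, rfl⟩ ⟨v', hv', u', hu', hvV', huL', rfl⟩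
        refine ⟨v * v', PS.mul_mem hv hv', u * u', PS'.mul_mem hu hu', VL_closed.1 v hvV v' hvV',
          hLcl u huL u' huL', ?_⟩
        rw [← D.F_mul hv hv', ← D.F'_mul hu hu', mul_assoc, ← mul_assoc (D.F' _),
          D.cv_comm_V (hN (hLN u huL hu)) hvV' hv']
        group
      inv_mem' := by
        rintro _ ⟨v, hv, u, hu, hvV, huL, rfl⟩
        refine ⟨v, hv, u, hu, hvV, huL, inv_eq_of_mul_eq_one_right ?_⟩
        have e1 : D.F ⟨v, hv⟩ * D.F ⟨v, hv⟩ = 1 :=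
          (D.F_mul hv hv).trans ((D.F_ext _ PS.one_mem (lists_inP.1 v hvV).2.2.1).trans D.F_one)
        have e2 : D.F' ⟨u, hu⟩ * D.F' ⟨u, hu⟩ = 1 :=
          (D.F'_mul hu hu).trans ((D.F'_ext _ PS'.one_mem (D.U_inP hL huL).2.2).trans D.F'_one)
        rw [mul_assoc, ← mul_assoc (D.F' _), D.cv_comm_V (hN (hLN u huL hu)) hvV hv, mul_assoc, e2,
          mul_one, e1] }
  have hNX : N ≤ X := by
    haveI : IsMulCommutative D.D9 := ⟨⟨fun x y => Subtype.ext (by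
      obtain ⟨σ, hσ, hm, e⟩ := D.mem_DL x.2.1 x.2.2
      obtain ⟨τ, hτ, hm', e'⟩ := D.mem_DL y.2.1 y.2.2
      rw [Subgroup.coe_mul, Subgroup.coe_mul, ← e, ← e']
      exact (D.F_comm hσ hτ).2 ((DL_exp σ hm).2 τ hm'))⟩⟩
    have hexp : ∀ x : D.D9, x ^ 3 = 1 := fun x => Subtype.ext (by
      obtain ⟨σ, hσ, hm, e⟩ := D.mem_DL x.2.1 x.2.2
      rw [Subgroup.coe_pow, ← e, ← map_pow]
      exact (D.F_ext _ PS.one_mem (DL_exp σ hm).1).trans D.F_one)
    have hnc : ¬ IsCyclic D.D9 := fun h => by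
      obtain ⟨g, hg⟩ := isCyclic_iff_exists_orderOf_eq_natCard.1 h
      rw [D.card_D9] at hg
      have := Nat.le_of_dvd (by norm_num) (orderOf_dvd_of_pow_eq_one (hexp g))
      omega
    have hnorm : D.D9 ≤ normalizer (N : Set G) := by
      intro x hx
      obtain ⟨σ, hσ, hm, rfl⟩ := D.mem_DL hx.1 hx.2
      obtain ⟨i, j, rfl⟩ := DL_gen σ hm
      rw [show (⟨g8 ^ (i : ℕ) * w8 ^ (j : ℕ), hσ⟩ : PS) = ⟨g8, inP_g8⟩ ^ (i : ℕ) * ⟨w8, inP_w8⟩ ^ (j : ℕ)
        from rfl, map_mul, map_pow, map_pow]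
      have conjN : ∀ g : G, (∀ n ∈ N, g * n * g⁻¹ ∈ N) → g ∈ normalizer (N : Set G) := by
        intro g hg
        have hle : N.map (MulAut.conj g).toMonoidHom ≤ N := by rintro _ ⟨n, hn, rfl⟩; exact hg n hn
        have := Subgroup.eq_of_le_of_card_ge hle (Nat.card_congr
          (N.equivMapOfInjective (MulAut.conj g).toMonoidHom (MulAut.conj g).injective).toEquiv).le
        exact mem_normalizer_iff_map_conj_eq.2 this
      exact mul_mem (pow_mem (conjN _ hzN) _) (pow_mem (conjN _ hwN) _)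
    have hcop : (Nat.card D.D9).Coprime (Nat.card N) := by
      rw [D.card_D9, show 9 = 3 ^ 2 from rfl]
      exact (Nat.prime_three.coprime_iff_not_dvd.2 h3).pow_left 2
    rw [← CoprimeAct.generated_by_centralizers hnc hnorm hcop]
    refine iSup₂_le fun d hd n hn => ?_
    obtain ⟨hnN, hnd⟩ := hn
    have hnd := mem_centralizer_singleton_iff.1 hnd
    obtain ⟨σ, hσ, hm, rfl⟩ := D.mem_DL hd.1.1 hd.1.2
    have viaZ : n * D.z = D.z * n → n ∈ X := fun h => by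
      obtain ⟨v, hv, hvV, rfl⟩ := hNz n hnN h
      exact ⟨v, hv, 1, PS'.one_mem, hvV, hL1, by rw [D.F'_one, mul_one]⟩
    have viaW : n * D.w = D.w * n → n ∈ X := fun h => by
      obtain ⟨u, hu, huL, rfl⟩ := hLw n hnN h
      exact ⟨1, PS.one_mem, u, hu, by simp [VL], huL, by rw [D.F_one, one_mul]⟩
    have inv : ∀ τ, ∀ hτ : InP τ, σ = τ⁻¹ → n * D.F ⟨τ, hτ⟩ = D.F ⟨τ, hτ⟩ * n := by
      intro τ hτ e
      subst e
      rw [show (⟨τ⁻¹, hσ⟩ : PS) = ⟨τ, hτ⟩⁻¹ from rfl, map_inv] at hnd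
      exact (Commute.inv_right_iff.1 hnd :)
    have sq : ∀ τ, ∀ hτ : InP τ, τ * τ * τ = 1 → σ = τ * τ → n * D.F ⟨τ, hτ⟩ = D.F ⟨τ, hτ⟩ * n :=
      fun τ hτ h e => inv τ hτ (e.trans (eq_inv_of_mul_eq_one_left h))
    rcases DL_cases σ hm with rfl | rfl | rfl | rfl | rfl | rfl | rfl | rfl | rfl
    · exact absurd D.F_one hd.2
    · exact viaZ hnd
    · exact viaZ (sq g8 inP_g8 (by decide +kernel) rfl)
    · exact viaW hnd
    · exact viaW (sq w8 inP_w8 (by decide +kernel) rfl)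
    · rw [hd1 n hnN hnd]; exact X.one_mem
    · rw [hd1 n hnN (inv _ _ rfl)]; exact X.one_mem
    · rw [hd2 n hnN hnd]; exact X.one_mem
    · rw [hd2 n hnN (inv _ _ rfl)]; exact X.one_mem
  refine ⟨L, hL, fun u hu hu' => hN (hLN u hu hu'), fun x hx => ?_, fun x hx h => hNX (h2N x hx h)⟩
  obtain ⟨n, hn, i, rfl⟩ := hdec x hx
  obtain ⟨v, hv, u, hu, hvV, huL, rfl⟩ := hNX hn
  exact ⟨v, hv, u, hu, i, hvV, huL, rfl⟩

/-- The dihedral group of order 8 generated by `V` and `h`. -/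
def VH : Subgroup G where
  carrier := {x | ∃ σ, ∃ hσ : InP σ, σ ∈ VHL ∧ D.F ⟨σ, hσ⟩ = x}
  one_mem' := ⟨1, PS.one_mem, by decide +kernel, D.F_one⟩
  mul_mem' := by
    rintro _ _ ⟨σ, hσ, hm, rfl⟩ ⟨τ, hτ, hm', rfl⟩
    exact ⟨σ * τ, PS.mul_mem hσ hτ, VH_facts.2.2.1 σ hm τ hm', (D.F_mul hσ hτ).symm⟩
  inv_mem' := by
    rintro _ ⟨σ, hσ, hm, rfl⟩
    exact ⟨σ⁻¹, PS.inv_mem hσ, VH_facts.2.2.2.1 σ hm, map_inv D.F ⟨σ, hσ⟩⟩

theorem card_VH : Nat.card D.VH = 8 := by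
  have e : Nat.card (VHL.toFinset : Set P8) = 8 := by
    rw [Nat.card_coe_set_eq, Set.ncard_coe_finset, List.toFinset_card_of_nodup VH_facts.1]
    rfl
  rw [← e]
  refine (Nat.card_eq_of_bijective (fun σ : (VHL.toFinset : Set P8) =>
    (⟨D.F ⟨σ, (VH_facts.2.1 _ (List.mem_toFinset.1 σ.2)).1⟩, σ,
      (VH_facts.2.1 _ (List.mem_toFinset.1 σ.2)).1, List.mem_toFinset.1 σ.2, rfl⟩ : D.VH)) ?_).symm
  refine ⟨fun a b e => Subtype.ext (D.F_val _ _ (congrArg Subtype.val e)), fun x => ?_⟩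
  obtain ⟨σ, hσ, hm, e⟩ := x.2
  exact ⟨⟨σ, List.mem_toFinset.2 hm⟩, Subtype.ext e⟩

theorem h_conj : IsConj D.a (D.F ⟨h8, inP_h8⟩) := by
  refine IsConj.trans D.k_conj (IsConj.symm ?_)
  exact isConj_iff.2 ⟨_, (D.F_conj conj_facts.2.2.2.2.1 inP_h8).trans
    (D.F_ext _ inP_k8 conj_facts.2.2.2.2.2.2.1)⟩

theorem aa : D.a * D.a = 1 :=
  (D.F_mul inP_a8 inP_a8).trans ((D.F_ext _ PS.one_mem (by decide +kernel)).trans D.F_one)

theorem a_ne : D.a ≠ 1 := D.ne_one_of_eq inP_a8 (by decide +kernel)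

/-- The centraliser of `V` is larger than `V` times a group of order 3. -/
theorem not_small : ¬ ∀ x ∈ D.CV, (∃ k, x ^ (2 ^ k) = 1) → ∃ v, ∃ hv : InP v, v ∈ VL ∧ D.F ⟨v, hv⟩ = x := by
  classical
  intro hsmall
  haveI : Fact (Nat.Prime 2) := ⟨Nat.prime_two⟩
  haveI : Fact (Nat.Prime 3) := ⟨Nat.prime_three⟩
  set K := centralizer ({D.a} : Set G) with hK
  have hVK : D.VH ≤ K := by
    rintro _ ⟨σ, hσ, hm, rfl⟩
    exact mem_centralizer_singleton_iff.2 ((D.F_comm hσ inP_a8).2 (VH_facts.2.1 σ hm).2)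
  have hVp : IsPGroup 2 (D.VH.subgroupOf K) :=
    (IsPGroup.of_card (n := 3) D.card_VH).of_equiv (Subgroup.subgroupOfEquivOfLe hVK).symm
  obtain ⟨P, hP⟩ := hVp.exists_le_sylow
  set S : Subgroup G := (P : Subgroup K).map K.subtype with hS
  have hSK : S ≤ K := map_subtype_le _
  have hSp : IsPGroup 2 S := P.isPGroup'.map _
  have hVS : D.VH ≤ S := fun x hx => ⟨⟨x, hVK hx⟩, hP hx, rfl⟩
  have hpw : ∀ x ∈ S, ∃ k, x ^ (2 ^ k) = 1 := fun x hx => by
    obtain ⟨k, hk⟩ := hSp ⟨x, hx⟩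
    exact ⟨k, congrArg Subtype.val hk⟩
  have hcase : ∀ x ∈ S, x * D.a' = D.a' * x → ∃ v, ∃ hv : InP v, v ∈ VL ∧ D.F ⟨v, hv⟩ = x :=
    fun x hx h => hsmall x (D.mem_CV.2 ⟨mem_centralizer_singleton_iff.1 (hSK hx), h⟩) (hpw x hx)
  have hVLVH : ∀ v ∈ VL, ∀ hv : InP v, D.F ⟨v, hv⟩ ∈ D.VH :=
    fun v hv h => ⟨v, h, List.mem_append.2 (Or.inl hv), rfl⟩
  have ha'S : D.a' ∈ S := hVS (hVLVH a8' (by decide +kernel) inP_a8')
  have haS : D.a ∈ S := hVS (hVLVH a8 (by decide +kernel) inP_a8)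
  have hhS : D.F ⟨h8, inP_h8⟩ ∈ S := hVS ⟨h8, inP_h8, VH_facts.2.2.2.2.2.2.1, rfl⟩
  have ho' : orderOf (⟨D.a', ha'S⟩ : S) = 2 := by
    rw [orderOf_mk]
    refine orderOf_eq_prime ?_ (D.ne_one_of_eq inP_a8' (by decide +kernel))
    rw [pow_two]
    exact (D.F_mul inP_a8' inP_a8').trans ((D.F_ext _ PS.one_mem (by decide +kernel)).trans D.F_one)
  have hC4 : Nat.card (centralizer ({⟨D.a', ha'S⟩} : Set S)) = 4 := by
    have e : Nat.card (VL.toFinset : Set P8) = 4 := by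
      rw [Nat.card_coe_set_eq, Set.ncard_coe_finset]
      decide +kernel
    rw [← e]
    refine (Nat.card_eq_of_bijective (fun σ : (VL.toFinset : Set P8) =>
      (⟨⟨D.F ⟨σ, D.V_inP (List.mem_toFinset.1 σ.2)⟩, hVS (hVLVH _ (List.mem_toFinset.1 σ.2) _)⟩,
        mem_centralizer_singleton_iff.2 (Subtype.ext ?_)⟩ : centralizer ({⟨D.a', ha'S⟩} : Set S))) ?_).symm
    · exact (D.cv_comm_V (D.mem_CV.2 ⟨(D.F_comm inP_a8' inP_a8).2 (by decide +kernel), rfl⟩)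
        (List.mem_toFinset.1 σ.2) _).symm
    refine ⟨fun a b e => Subtype.ext (D.F_val _ _ (congrArg (fun t => ((t.1 : S) : G)) e)), fun x => ?_⟩
    obtain ⟨v, hv, hm, e⟩ := hcase _ x.1.2 (congrArg Subtype.val (mem_centralizer_singleton_iff.1 x.2))
    exact ⟨⟨v, List.mem_toFinset.2 hm⟩, Subtype.ext (Subtype.ext e)⟩
  -- the centre of `S`
  have hcen : ∀ x ∈ S, (∀ y ∈ S, y * x = x * y) → x = 1 ∨ x = D.a := by
    intro x hx h
    obtain ⟨v, hv, hm, rfl⟩ := hcase x hx (h _ ha'S).symm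
    rcases VH_facts.2.2.2.2.2.2.2.1 v hm ((D.F_comm hv inP_h8).1 (h _ hhS).symm) with rfl | rfl
    · exact Or.inl D.F_one
    · exact Or.inr rfl
  -- `S` is a Sylow subgroup of `G`
  obtain ⟨m, hm⟩ := IsPGroup.iff_card.1 hSp
  have hfac : (Nat.card G).factorization 2 = m := by
    have h1 := (Nat.prime_two.pow_dvd_iff_le_factorization Nat.card_pos.ne').1 (hm ▸ card_subgroup_dvd_card S)
    by_contra hne
    obtain ⟨S', hS'c, hSS'⟩ := Sylow.exists_subgroup_card_pow_succ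
      ((Nat.prime_two.pow_dvd_iff_le_factorization (k := m + 1) Nat.card_pos.ne').2 (by omega)) hm
    have hidx : (S.subgroupOf S').index = 2 := by
      have h := (S.subgroupOf S').card_mul_index
      rw [Nat.card_congr (Subgroup.subgroupOfEquivOfLe hSS').toEquiv, hm, hS'c, pow_succ] at h
      exact Nat.eq_of_mul_eq_mul_left (by positivity) h
    haveI : (S.subgroupOf S').Normal := Subgroup.normal_of_index_eq_two hidx
    have hS'K : S' ≤ K := by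
      intro g hg
      have hnS : ∀ y ∈ S, g⁻¹ * y * g ∈ S := fun y hy => by
        have := (inferInstance : (S.subgroupOf S').Normal).conj_mem ⟨y, hSS' hy⟩
          (Subgroup.mem_subgroupOf.2 hy) ⟨g⁻¹, inv_mem hg⟩
        simpa [Subgroup.mem_subgroupOf] using this
      have hmem : g * D.a * g⁻¹ ∈ S := by
        have := (inferInstance : (S.subgroupOf S').Normal).conj_mem ⟨D.a, hSS' haS⟩
          (Subgroup.mem_subgroupOf.2 haS) ⟨g, hg⟩
        simpa [Subgroup.mem_subgroupOf] using this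
      rw [mem_centralizer_singleton_iff]
      rcases hcen _ hmem (fun y hy => by
        have h := mem_centralizer_singleton_iff.1 (hSK (hnS y hy))
        calc y * (g * D.a * g⁻¹) = g * ((g⁻¹ * y * g) * D.a) * g⁻¹ := by group
          _ = g * (D.a * (g⁻¹ * y * g)) * g⁻¹ := by rw [h]
          _ = g * D.a * g⁻¹ * y := by group) with h | h
      · exact absurd (conj_eq_one_iff.1 h) D.a_ne
      · exact mul_inv_eq_iff_eq_mul.1 h
    have hle : (P : Subgroup K) ≤ S'.subgroupOf K := fun x hx => hSS' ⟨x, hx, rfl⟩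
    have heq : S'.subgroupOf K = (P : Subgroup K) :=
      P.is_maximal' ((IsPGroup.of_card hS'c).of_equiv (Subgroup.subgroupOfEquivOfLe hS'K).symm) hle
    have hc' : Nat.card S' = Nat.card S := by
      rw [← Nat.card_congr (Subgroup.subgroupOfEquivOfLe hS'K).toEquiv, heq, hS,
        card_map_of_injective (Subgroup.subtype_injective _)]
    rw [hS'c, hm] at hc'
    have := Nat.pow_right_injective (le_refl 2) hc'
    omega
  let Q : Sylow 2 G := Sylow.ofCard S (by rw [hm, hfac])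
  -- every involution is conjugate to `a`
  have hall : ∀ x ∈ S, x * x = 1 → x ≠ 1 → IsConj D.a x := by
    rcases CentFour.dihedral_or_quasiDihedral hSp ho' hC4 with ⟨n, ⟨e⟩⟩ | hqd | h4
    · -- dihedral: the centraliser of `a` has a normal 2-complement
      have h8 : 8 ≤ Nat.card S := D.card_VH ▸ Nat.le_of_dvd Nat.card_pos (card_dvd_of_le hVS)
      have hn : 2 ≤ n := by
        by_contra hn'
        rw [Nat.card_congr e.toEquiv, DihedralGroup.nat_card] at h8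
        omega
      obtain ⟨N, hNn, hodd, j, hj⟩ := S0514.result Q n hn ⟨e⟩ D.a
        (orderOf_eq_prime (by rw [pow_two, D.aa]) D.a_ne)
      haveI := hNn
      have hzK : D.z ∈ K := mem_centralizer_singleton_iff.2 ((D.F_comm inP_g8 inP_a8).2 (by decide +kernel))
      have hzo : orderOf (⟨D.z, hzK⟩ : K) = 3 := by
        rw [orderOf_mk]
        refine orderOf_eq_prime ?_ (D.ne_one_of_eq inP_g8 (by decide +kernel))
        rw [z, ← map_pow]
        exact (D.F_ext _ PS.one_mem (by decide +kernel)).trans D.F_one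
      have hzN : (⟨D.z, hzK⟩ : K) ∈ N := by
        have h1 : (⟨D.z, hzK⟩ : K) ^ (2 ^ j) ∈ N := hj ▸ N.pow_index_mem _
        have h2 : (⟨D.z, hzK⟩ : K) ∈ zpowers ((⟨D.z, hzK⟩ : K) ^ (2 ^ j)) := by
          rw [mem_zpowers_pow_iff, hzo]
          exact (((Nat.coprime_primes Nat.prime_three Nat.prime_two).2 (by norm_num)).pow_right j).symm
        exact Subgroup.zpowers_le.2 h1 h2
      have hNfac : (Nat.card N).factorization 3 = 1 := by
        have hd : 3 ^ 1 ∣ Nat.card N := by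
          rw [pow_one, ← hzo, ← Subgroup.orderOf_mk (⟨D.z, hzK⟩ : K) hzN]
          exact orderOf_dvd_natCard _
        have := (Nat.prime_three.pow_dvd_iff_le_factorization Nat.card_pos.ne').1 hd
        by_contra hne
        exact D.not_nine D.aa D.a_ne ((((Nat.prime_three.pow_dvd_iff_le_factorization (k := 2)
          Nat.card_pos.ne').2 (by omega))).trans (card_subgroup_dvd_card N))
      let R : Sylow 3 N := Sylow.ofCard (zpowers ⟨⟨D.z, hzK⟩, hzN⟩)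
        (by rw [Nat.card_zpowers, orderOf_mk, hzo, hNfac, pow_one])
      have hfr := Sylow.normalizer_sup_eq_top R
      set M := normalizer (((R : Subgroup N).map N.subtype) : Set K) with hM
      have hRmap : (R : Subgroup N).map N.subtype = zpowers (⟨D.z, hzK⟩ : K) := by
        show (zpowers (⟨⟨D.z, hzK⟩, hzN⟩ : N)).map N.subtype = _
        rw [MonoidHom.map_zpowers]; rfl
      have hidx : 2 ^ j ∣ Nat.card M := by
        rw [← hj, ← Subgroup.relIndex_top_right (H := N), ← hfr, sup_comm, Subgroup.relIndex_sup_left]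
        exact Subgroup.relIndex_dvd_card _ _
      have hzM : (⟨D.z, hzK⟩ : K) ∈ M := by
        rw [hM]
        exact Subgroup.le_normalizer (hRmap ▸ mem_zpowers _)
      have h3M : 3 ∣ Nat.card M := by
        rw [← hzo, ← Subgroup.orderOf_mk (⟨D.z, hzK⟩ : K) hzM]; exact orderOf_dvd_natCard _
      have hM24 : Nat.card M ≤ 24 := by
        have hsub : ∀ x : M, ∃ σ, ∃ hσ : InP σ, σ ∈ NaL ∧ D.F ⟨σ, hσ⟩ = ((x : K) : G) := by
          intro x
          have h1 : ((x : K) : G) ∈ D.F.range := by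
            rw [D.F_range, mem_normalizer_iff_map_conj_eq]
            have := mem_normalizer_iff_map_conj_eq.1 x.2
            rw [hRmap, MonoidHom.map_zpowers] at this
            have h2 := congrArg (Subgroup.map K.subtype) this
            rw [MonoidHom.map_zpowers, MonoidHom.map_zpowers] at h2
            rw [MonoidHom.map_zpowers]
            exact h2
          obtain ⟨⟨σ, hσ⟩, e⟩ := h1
          refine ⟨σ, hσ, cent_a σ hσ ((D.F_comm hσ inP_a8).1 ?_), e⟩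
          rw [e]
          exact mem_centralizer_singleton_iff.1 (x : K).2
        choose f hf hfm hfe using hsub
        calc Nat.card M ≤ Nat.card (NaL.toFinset : Set P8) :=
              Nat.card_le_card_of_injective (fun x => ⟨f x, List.mem_toFinset.2 (hfm x)⟩) fun x y e => by
                have e' : f x = f y := congrArg Subtype.val e
                exact Subtype.ext (Subtype.ext ((hfe x).symm.trans ((D.F_ext _ _ e').trans (hfe y))))
          _ ≤ 24 := by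
            rw [Nat.card_coe_set_eq, Set.ncard_coe_finset]
            exact (List.toFinset_card_le _).trans VH_facts.2.2.2.2.2.2.2.2.2.1.le
      have h8j : 2 ^ j ≤ 8 := by
        have h := Nat.Coprime.mul_dvd_of_dvd_of_dvd
          (((Nat.coprime_primes Nat.prime_two Nat.prime_three).2 (by norm_num)).pow_left j) hidx h3M
        have := (Nat.le_of_dvd Nat.card_pos h).trans hM24
        omega
      have hSle : Nat.card S ≤ 8 := by
        have h1 : Nat.card S ∣ 2 ^ j * Nat.card N := by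
          rw [← hj, mul_comm, N.card_mul_index]
          exact card_dvd_of_le hSK
        have h2 : Nat.Coprime (Nat.card S) (Nat.card N) := by
          rw [hm]; exact (Nat.coprime_two_left.2 hodd).pow_left m
        exact (Nat.le_of_dvd (by positivity) (h2.dvd_of_dvd_mul_right h1)).trans h8j
      have hSV : D.VH = S := Subgroup.eq_of_le_of_card_ge hVS (by rw [D.card_VH]; exact hSle)
      intro x hx hxx hx1
      rw [← hSV] at hx
      obtain ⟨σ, hσ, hmσ, rfl⟩ := hx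
      have h1 : σ * σ = 1 := D.F_val (PS.mul_mem hσ hσ) PS.one_mem (by rw [← D.F_mul hσ hσ, D.F_one]; exact hxx)
      have h2 : σ ≠ 1 := fun e => hx1 (by subst e; exact D.F_one)
      rcases VH_facts.2.2.2.2.2.2.2.2.1 σ hmσ h1 h2 with h | rfl | rfl
      · exact D.isConj_a_of_comm ((D.F_comm hσ inP_g8).2 h) hxx hx1
      · exact D.h_conj
      · refine D.h_conj.trans (isConj_iff.2 ⟨D.a', (D.F_conj inP_a8' inP_h8).trans (D.F_ext _ _ ?_)⟩)
        rw [show a8'⁻¹ = a8' by decide +kernel]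
    · obtain ⟨d, -⟩ := QD.exists_pres hqd
      have hzd : d.z = ⟨D.a, haS⟩ := by
        rcases hcen _ d.z.2 (fun y hy => congrArg Subtype.val (d.z_central ⟨y, hy⟩)) with h | h
        · exact absurd (Subtype.ext h) d.z_ne_one
        · exact Subtype.ext h
      have ha'2 : (⟨D.a', ha'S⟩ : S) * ⟨D.a', ha'S⟩ = 1 := by rw [← pow_two, ← ho', pow_orderOf_eq_one]
      obtain ⟨i, hi, hi'⟩ : ∃ i : ℤ, 2 ∣ i ∧ (⟨D.a', ha'S⟩ : S) = d.x ^ i * d.y := by
        rcases d.sq_eq_one_cases ha'2 with h | h | h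
        · exact absurd (congrArg Subtype.val h) (D.ne_one_of_eq inP_a8' (by decide +kernel))
        · rw [hzd] at h
          exact absurd (D.F_val inP_a8' inP_a8 (congrArg Subtype.val h)) (by decide +kernel)
        · exact h
      intro x hx hxx hx1
      rcases d.sq_eq_one_cases (g := ⟨x, hx⟩) (Subtype.ext hxx) with h | h | ⟨i', hi2, h⟩
      · exact absurd (congrArg Subtype.val h) hx1
      · rw [hzd] at h
        rw [show x = D.a from congrArg Subtype.val h]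
      · obtain ⟨l, hl⟩ := d.conj_form i i' (dvd_sub hi2 hi)
        rw [← h, ← hi'] at hl
        refine IsConj.trans ?_ (isConj_iff.2 ⟨((d.x ^ l : S) : G), congrArg Subtype.val hl⟩)
        exact isConj_iff.2 ⟨_, (D.F_conj a_conj.1 inP_a8).trans (D.F_ext _ _ a_conj.2)⟩
    · have h8 : 8 ≤ Nat.card S := D.card_VH ▸ Nat.le_of_dvd Nat.card_pos (card_dvd_of_le hVS)
      omega
  -- the involution commuting with the diagonal element
  obtain ⟨u, hu⟩ := exists_prime_orderOf_dvd_card' (G := centralizer ({D.dd} : Set G)) 2 (by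
    rw [dd, D.diag]; norm_num)
  have hu2 : (u : G) ^ 2 = 1 := by rw [← hu, ← Subgroup.orderOf_coe, pow_orderOf_eq_one]
  have hu1 : (u : G) ≠ 1 := fun e => by
    rw [← Subgroup.orderOf_coe, e, orderOf_one] at hu; norm_num at hu
  obtain ⟨R, hR⟩ := (IsPGroup.of_card (G := zpowers (u : G)) (n := 1) (p := 2)
    (by rw [Nat.card_zpowers, Subgroup.orderOf_coe, hu, pow_one])).exists_le_sylow
  obtain ⟨c, hc⟩ := MulAction.exists_smul_eq G R Q
  have hmem : c * (u : G) * c⁻¹ ∈ S := by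
    have : c * (u : G) * c⁻¹ ∈ (Q : Subgroup G) := by
      rw [← hc, Sylow.coe_subgroup_smul]
      exact ⟨u, hR (mem_zpowers _), rfl⟩
    exact this
  refine D.not_conj_dd (u := (u : G)) (mem_centralizer_singleton_iff.1 u.2) ?_
  refine (hall _ hmem ?_ ?_).trans (IsConj.symm (isConj_iff.2 ⟨c, rfl⟩))
  · rw [← pow_two, conj_pow, hu2, mul_one, mul_inv_cancel]
  · exact fun e => hu1 (conj_eq_one_iff.1 e)

/-- The charts can be chosen so that `U` centralises `V`. -/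
theorem exists_good : ∃ D' : Data G, ∀ u ∈ UL, ∀ hu : InP' u, D'.F' ⟨u, hu⟩ ∈ D'.CV := by
  obtain ⟨L, hL, hLC, -, hdec⟩ := D.cv_cases
  rcases hL with rfl | rfl | rfl
  · refine absurd (fun x hx h => ?_) D.not_small
    obtain ⟨v, hv, u, hu, hvV, huL, rfl⟩ := hdec x hx h
    rw [List.mem_singleton] at huL
    subst huL
    exact ⟨v, hv, hvV, by rw [show D.F' ⟨1, hu⟩ = 1 from map_one D.F', mul_one]⟩
  · exact ⟨D, hLC⟩
  · obtain ⟨hfix, hss, h4, h4', -, -⟩ := s34_facts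
    let tw : PS' →* PS' :=
      { toFun := fun σ => ⟨s34 * σ.1 * s34, inP'_s34 σ.2⟩
        map_one' := Subtype.ext (by show s34 * 1 * s34 = 1; rw [mul_one, hss])
        map_mul' := fun σ τ => Subtype.ext (by
          show s34 * (σ.1 * τ.1) * s34 = s34 * σ.1 * s34 * (s34 * τ.1 * s34)
          calc s34 * (σ.1 * τ.1) * s34 = s34 * σ.1 * (s34 * s34) * τ.1 * s34 := by rw [hss, mul_one]; group
            _ = _ := by group) }
    have htw : Function.Bijective tw := Function.Involutive.bijective fun σ => Subtype.ext (by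
      show s34 * (s34 * σ.1 * s34) * s34 = σ.1
      calc s34 * (s34 * σ.1 * s34) * s34 = (s34 * s34) * σ.1 * (s34 * s34) := by group
        _ = σ.1 := by rw [hss, one_mul, mul_one])
    have hfix' : ∀ σ, InP σ → InP' σ → s34 * σ * s34 = σ := fun σ h h' => hfix σ (inP_inter σ h h')
    refine ⟨{ D with
      F' := D.F'.comp tw
      F'_inj := D.F'_inj.comp htw.1
      F'_range := ?_
      agree := fun σ h h' => (D.agree σ h h').trans (D.F'_ext _ _ (hfix' σ h h').symm) }, ?_⟩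
    · rw [MonoidHom.range_comp, MonoidHom.range_eq_top.2 htw.2, ← MonoidHom.range_eq_map, D.F'_range]
      show normalizer (zpowers (D.F' _) : Set G) = normalizer (zpowers (D.F' (tw _)) : Set G)
      rw [show tw ⟨w8, inP'_w8⟩ = ⟨w8, inP'_w8⟩ from Subtype.ext (hfix' w8 inP_w8 inP'_w8)]
    · intro u hu hu'
      exact hLC _ (h4' u hu) (inP'_s34 hu')

end Data

end Cfsg.Agent.A8Three
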