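import Cfsg.Agent.Lib.A8Three.Chart
import Mathlib.GroupTheory.SpecificGroups.Dihedral

/-!
From the hypotheses of the 3-local characterisation to the two compatible charts.
-/

set_option autoImplicit false
set_option maxRecDepth 20000
set_option synthInstance.maxSize 2000
set_option maxHeartbeats 1000000
set_option linter.style.haveILetI false

namespace Cfsg.Agent.A8Three

open Equiv Subgroup

theorem DL_facts : (∀ x ∈ DL, InP x ∧ InP' x ∧ x * g8 = g8 * x ∧ x * w8 = w8 * x) ∧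
    IL.Nodup ∧ (∀ x ∈ IL, InP x ∧ InP' x ∧ x * g8 * x⁻¹ ∈ DL ∧ x * w8 * x⁻¹ ∈ DL) := by
  decide +kernel

theorem DL_cases : ∀ x ∈ DL, x = 1 ∨ x = g8 ∨ x = g8 * g8 ∨ x = w8 ∨ x = w8 * w8 ∨
    x = w8 * g8 ∨ x = (w8 * g8)⁻¹ ∨ x = k8 * (w8 * g8) * k8⁻¹ ∨ x = (k8 * (w8 * g8) * k8⁻¹)⁻¹ := by
  decide +kernel

theorem diag_invert : ∀ x ∈ IL, ∀ d ∈ [w8 * g8, (w8 * g8)⁻¹, k8 * (w8 * g8) * k8⁻¹, (k8 * (w8 * g8) * k8⁻¹)⁻¹],
    x * d * x⁻¹ = d⁻¹ → x * g8 * x⁻¹ = g8⁻¹ ∧ x * w8 * x⁻¹ = w8⁻¹ := by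
  decide +kernel

/-- The two candidates for the transport between the charts. -/
def swapC (b : Bool) : P8 := if b then pi8 else swap 1 2 * pi8

theorem swapC_facts : ∀ b, swapC b * w8 * (swapC b)⁻¹ = g8 ∧
    (if b then pi8 * g8 * pi8⁻¹ = w8 else swap 1 2 * pi8 * g8 * (swap 1 2 * pi8)⁻¹ = w8 * w8) := by
  decide +kernel

theorem swapC_preserve : ∀ b, ∀ i : Fin 8, 5 ≤ ((swapC b) i : ℕ) ↔ (i : ℕ) < 3 := by decide +kernel

theorem inP_swapC (b : Bool) {σ : P8} (h : InP' σ) : InP (swapC b * σ * (swapC b)⁻¹) := by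
  refine ⟨by rw [sign_conj', h.1], fun i => ?_⟩
  obtain ⟨j, rfl⟩ := (swapC b).surjective i
  rw [Perm.mul_apply, Perm.mul_apply,
    show (swapC b)⁻¹ (swapC b j) = j from (swapC b).symm_apply_apply j, swapC_preserve b j,
    swapC_preserve b (σ j)]
  exact h.2 j

theorem inP'_swapC (b : Bool) {σ : P8} (h : InP σ) : InP' ((swapC b)⁻¹ * σ * swapC b) := by
  refine ⟨?_, fun i => ?_⟩
  · have := sign_conj' (swapC b)⁻¹ σ
    rw [inv_inv] at this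
    rw [this, h.1]
  · rw [← swapC_preserve b i, h.2 (swapC b i), Perm.mul_apply, Perm.mul_apply]
    conv_lhs => rw [← show swapC b ((swapC b)⁻¹ (σ (swapC b i))) = σ (swapC b i) from
      (swapC b).apply_symm_apply _]
    rw [swapC_preserve]

/-- The `h8`-correction. -/
theorem h8_fix : ∀ d ∈ DL, d * d * h8 * (d * d)⁻¹ = h8 * d⁻¹ * d⁻¹ * d⁻¹ * d⁻¹ ∧
    (h8 * (k8 * d) = k8 * d * h8 → d = 1) := by
  decide +kernel

variable {G : Type*} [Group G] [Finite G]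

/-- A chart of the normaliser of `⟨w⟩` transported from the one of `⟨z⟩`. -/
def chartW (F : PS →* G) (g : G) (b : Bool) (d0 : P8) (hd : InP' d0) : PS' →* G :=
  (((MulAut.conj g).toMonoidHom.comp F).comp
    (((MulAut.conj (swapC b)).toMonoidHom.comp PS'.subtype).codRestrict PS fun σ => inP_swapC b σ.2)).comp
    (MulAut.conj (⟨d0, hd⟩ : PS')).toMonoidHom

theorem chartW_apply (F : PS →* G) (g : G) (b : Bool) (d0 : P8) (hd : InP' d0) (σ : PS') :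
    chartW F g b d0 hd σ = g * F ⟨swapC b * (d0 * σ * d0⁻¹) * (swapC b)⁻¹,
      inP_swapC b (PS'.mul_mem (PS'.mul_mem hd σ.2) (PS'.inv_mem hd))⟩ * g⁻¹ := rfl

omit [Finite G] in
theorem agree_of_gens (F : PS →* G) (F' : PS' →* G)
    (hg : F ⟨g8, inP_g8⟩ = F' ⟨g8, inP'_g8⟩) (hw : F ⟨w8, inP_w8⟩ = F' ⟨w8, inP'_w8⟩)
    (hh : F ⟨h8, inP_h8⟩ = F' ⟨h8, inP'_h8⟩) (hk : F ⟨k8, inP_k8⟩ = F' ⟨k8, inP'_k8⟩)
    (σ : P8) (h : InP σ) (h' : InP' σ) : F ⟨σ, h⟩ = F' ⟨σ, h'⟩ := by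
  let J : Subgroup P8 :=
    { carrier := {τ | ∃ (a : InP τ) (a' : InP' τ), F ⟨τ, a⟩ = F' ⟨τ, a'⟩}
      one_mem' := ⟨PS.one_mem, PS'.one_mem, (map_one F).trans (map_one F').symm⟩
      mul_mem' := fun {a b} ⟨ha, ha', ea⟩ ⟨hb, hb', eb⟩ => ⟨PS.mul_mem ha hb, PS'.mul_mem ha' hb', by
        rw [show (⟨a * b, PS.mul_mem ha hb⟩ : PS) = ⟨a, ha⟩ * ⟨b, hb⟩ from rfl, map_mul, ea, eb, ← map_mul]
        rfl⟩
      inv_mem' := fun {a} ⟨ha, ha', ea⟩ => ⟨PS.inv_mem ha, PS'.inv_mem ha', by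
        rw [show (⟨a⁻¹, PS.inv_mem ha⟩ : PS) = ⟨a, ha⟩⁻¹ from rfl, map_inv, ea, ← map_inv]
        rfl⟩ }
  have mg : g8 ∈ J := ⟨inP_g8, inP'_g8, hg⟩
  have mw : w8 ∈ J := ⟨inP_w8, inP'_w8, hw⟩
  have mh : h8 ∈ J := ⟨inP_h8, inP'_h8, hh⟩
  have mk : k8 ∈ J := ⟨inP_k8, inP'_k8, hk⟩
  have hD : ∀ x ∈ DL, x ∈ J := by
    intro x hx
    simp only [DL, List.mem_flatMap, List.mem_cons, List.not_mem_nil, or_false] at hx
    obtain ⟨a, ha, hx⟩ := hx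
    have ha' : a ∈ J := by
      rcases ha with rfl | rfl | rfl
      · exact one_mem _
      · exact mg
      · exact mul_mem mg mg
    rcases hx with rfl | rfl | rfl
    · exact ha'
    · exact mul_mem ha' mw
    · exact mul_mem ha' (mul_mem mw mw)
  have hσ : σ ∈ J := by
    have := inP_inter σ h h'
    simp only [IL, List.mem_append, List.mem_map] at this
    rcases this with ((hx | ⟨x, hx, rfl⟩) | ⟨x, hx, rfl⟩) | ⟨x, hx, rfl⟩
    · exact hD σ hx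
    · exact mul_mem (hD x hx) mh
    · exact mul_mem (hD x hx) mk
    · exact mul_mem (hD x hx) (mul_mem mh mk)
  obtain ⟨a, a', e⟩ := hσ
  exact e

theorem exists_data_of_card (P : Sylow 3 G) (D : Subgroup G) (hDP : D = P) (y z : G) (hgen : closure {y, z} = D)
    (hcomm : IsMulCommutative D) (hcard : Nat.card D = 9) (hexp : ∀ a ∈ D, a ^ 3 = 1)
    (hN72 : Nat.card (normalizer (D : Set G)) = 72)
    (hycard : Nat.card (centralizer ({y} : Set G)) = 18)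
    (eL : normalizer (zpowers z : Set G) ≃*
      (((Equiv.Perm.sign).comp (MonoidHom.fst (Equiv.Perm (Fin 3)) (Equiv.Perm (Fin 5)))) *
        ((Equiv.Perm.sign).comp (MonoidHom.snd (Equiv.Perm (Fin 3)) (Equiv.Perm (Fin 5))))).ker) :
    Nonempty (Data G) := by
  classical
  haveI : Fact (Nat.Prime 3) := ⟨Nat.prime_three⟩
  have hyD : y ∈ D := hgen ▸ subset_closure (by simp)
  have hzD : z ∈ D := hgen ▸ subset_closure (by simp)
  have hDsmall : ∀ x ∈ D, D ≤ zpowers x → False := fun x hx hle => by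
    have h1 := card_le_of_le hle
    rw [hcard, Nat.card_zpowers] at h1
    have := Nat.le_of_dvd (by norm_num) (orderOf_dvd_of_pow_eq_one (hexp x hx))
    omega
  have hyz : y ∉ zpowers z := fun h => hDsmall z hzD (by
    rw [← hgen, closure_le]
    rintro a (rfl | rfl)
    · exact h
    · exact mem_zpowers _)
  have hz1 : z ≠ 1 := fun h => hDsmall y hyD (by
    rw [← hgen, closure_le]
    rintro a (rfl | rfl)
    · exact mem_zpowers _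
    · rw [h]; exact one_mem _)
  obtain ⟨F, hinj, hrange, hFz, hFwD⟩ := exists_F D hcomm hexp hyD hzD hyz hz1 eL
  subst hFz
  set z : G := F ⟨g8, inP_g8⟩ with hz
  set w : G := F ⟨w8, inP_w8⟩ with hw
  have hF : ∀ (σ τ : P8) (a : InP σ) (b : InP τ), σ = τ → F ⟨σ, a⟩ = F ⟨τ, b⟩ := fun σ τ a b e => by
    subst e; rfl
  have hFconj : ∀ (σ τ : P8) (a : InP σ) (b : InP τ) (c : InP (σ * τ * σ⁻¹)),
      F ⟨σ, a⟩ * F ⟨τ, b⟩ * (F ⟨σ, a⟩)⁻¹ = F ⟨σ * τ * σ⁻¹, c⟩ := fun σ τ a b c => by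
    rw [← map_inv, ← map_mul, ← map_mul]; rfl
  have hDcomm : ∀ a ∈ D, ∀ b ∈ D, a * b = b * a := fun a ha b hb =>
    congrArg Subtype.val (hcomm.is_comm.comm (⟨a, ha⟩ : D) ⟨b, hb⟩)
  -- elements centralising `z` and `w`
  have hcD : ∀ x, x * z = z * x → x * w = w * x → ∃ σ, ∃ h : InP σ, σ ∈ DL ∧ F ⟨σ, h⟩ = x := by
    intro x h1 h2
    have hx : x ∈ F.range := by
      rw [hrange, mem_normalizer_iff_map_conj_eq, MonoidHom.map_zpowers]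
      exact congrArg zpowers (show x * z * x⁻¹ = z by rw [h1, mul_inv_cancel_right])
    obtain ⟨⟨σ, hσ⟩, rfl⟩ := hx
    refine ⟨σ, hσ, cent_D σ hσ ?_ ?_, rfl⟩
    · exact congrArg Subtype.val (hinj (a₁ := ⟨σ, hσ⟩ * ⟨g8, inP_g8⟩) (a₂ := ⟨g8, inP_g8⟩ * ⟨σ, hσ⟩)
        (by rw [map_mul, map_mul]; exact h1))
    · exact congrArg Subtype.val (hinj (a₁ := ⟨σ, hσ⟩ * ⟨w8, inP_w8⟩) (a₂ := ⟨w8, inP_w8⟩ * ⟨σ, hσ⟩)
        (by rw [map_mul, map_mul]; exact h2))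
  have hD_of : ∀ x ∈ D, ∃ σ, ∃ h : InP σ, σ ∈ DL ∧ F ⟨σ, h⟩ = x := fun x hx =>
    hcD x (hDcomm x hx z hzD) (hDcomm x hx w hFwD)
  have hDL_mem : ∀ σ (h : InP σ), σ ∈ DL → F ⟨σ, h⟩ ∈ D := by
    intro σ h hσ
    simp only [DL, List.mem_flatMap, List.mem_cons, List.not_mem_nil, or_false] at hσ
    obtain ⟨a, ha, hx⟩ := hσ
    have m1 : InP a ∧ ∀ (h : InP a), F ⟨a, h⟩ ∈ D := by
      rcases ha with rfl | rfl | rfl
      · exact ⟨PS.one_mem, fun h => by rw [show (⟨1, h⟩ : PS) = 1 from rfl, map_one]; exact one_mem _⟩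
      · exact ⟨inP_g8, fun _ => hzD⟩
      · exact ⟨PS.mul_mem inP_g8 inP_g8, fun h => by
          rw [show (⟨g8 * g8, h⟩ : PS) = ⟨g8, inP_g8⟩ * ⟨g8, inP_g8⟩ from rfl, map_mul]
          exact mul_mem hzD hzD⟩
    rcases hx with rfl | rfl | rfl
    · exact m1.2 h
    · rw [show (⟨a * w8, h⟩ : PS) = ⟨a, m1.1⟩ * ⟨w8, inP_w8⟩ from rfl, map_mul]
      exact mul_mem (m1.2 _) hFwD
    · rw [show (⟨a * (w8 * w8), h⟩ : PS) = ⟨a, m1.1⟩ * (⟨w8, inP_w8⟩ * ⟨w8, inP_w8⟩) from rfl, map_mul,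
        map_mul]
      exact mul_mem (m1.2 _) (mul_mem hFwD hFwD)
  -- the normaliser of `D` inside the first chart
  set N := normalizer (D : Set G) with hN
  have hIL : ∀ σ (h : InP σ), F ⟨σ, h⟩ ∈ N ↔ σ ∈ IL := by
    intro σ h
    constructor
    · intro hn
      refine norm_D σ h ?_ ?_
      all_goals
        refine (fun {τ : P8} (hτ : InP τ) (m : F ⟨τ, hτ⟩ ∈ D) => ?_ : ∀ {τ : P8} (hτ : InP τ),
          F ⟨τ, hτ⟩ ∈ D → σ * τ * σ⁻¹ ∈ DL) (τ := _) (by first | exact inP_g8 | exact inP_w8)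
          (by first | exact hzD | exact hFwD)
        obtain ⟨τ', hτ', hm, e⟩ := hD_of _ ((mem_normalizer_iff.1 hn _).1 m)
        rw [hFconj σ τ h hτ (PS.mul_mem (PS.mul_mem h hτ) (PS.inv_mem h))] at e
        exact (show τ' = σ * τ * σ⁻¹ from congrArg Subtype.val (hinj e)) ▸ hm
    · intro hσ
      obtain ⟨-, -, h1, h2⟩ := DL_facts.2.2 σ hσ
      have hle : D.map (MulAut.conj (F ⟨σ, h⟩)).toMonoidHom ≤ D := by
        rintro _ ⟨x, hx, rfl⟩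
        obtain ⟨τ, hτ, hm, rfl⟩ := hD_of x hx
        show F ⟨σ, h⟩ * F ⟨τ, hτ⟩ * (F ⟨σ, h⟩)⁻¹ ∈ D
        have hcl : ∀ τ ∈ DL, σ * τ * σ⁻¹ ∈ DL := by
          have key : ∀ σ ∈ IL, ∀ τ ∈ DL, σ * τ * σ⁻¹ ∈ DL := by decide +kernel
          exact key σ hσ
        rw [hFconj σ τ h hτ (PS.mul_mem (PS.mul_mem h hτ) (PS.inv_mem h))]
        exact hDL_mem _ _ (hcl τ hm)
      rw [hN, mem_normalizer_iff_map_conj_eq]
      exact eq_of_le_of_card_ge hle (by rw [card_map_of_injective (MulAut.conj _).injective])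
  have hNcard : Nat.card N = 72 := hN72
  set L := normalizer (zpowers z : Set G) with hL
  have hNL : Nat.card (N ⊓ L : Subgroup G) = 36 := by
    have e : Nat.card (IL.toFinset : Set P8) = 36 := by
      rw [Nat.card_coe_set_eq, Set.ncard_coe_finset, List.toFinset_card_of_nodup DL_facts.2.1]; rfl
    rw [← e]
    refine (Nat.card_eq_of_bijective (fun σ : (IL.toFinset : Set P8) =>
      (⟨F ⟨σ, (DL_facts.2.2 _ (List.mem_toFinset.1 σ.2)).1⟩, mem_inf.2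
        ⟨(hIL _ _).2 (List.mem_toFinset.1 σ.2), hrange ▸ ⟨_, rfl⟩⟩⟩ : (N ⊓ L : Subgroup G))) ?_).symm
    refine ⟨fun a b e => ?_, fun x => ?_⟩
    · have := congrArg Subtype.val (hinj (congrArg Subtype.val e))
      exact Subtype.ext this
    · obtain ⟨hxN, hxL⟩ := mem_inf.1 x.2
      have hxR : (x : G) ∈ F.range := (le_of_eq hrange.symm) hxL
      obtain ⟨⟨σ, hσ⟩, e⟩ := hxR
      exact ⟨⟨σ, List.mem_toFinset.2 ((hIL σ hσ).1 (by rw [e]; exact hxN))⟩, Subtype.ext e⟩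
  obtain ⟨g, hgN, hgL⟩ : ∃ g ∈ N, g ∉ L := by
    by_contra hc
    push Not at hc
    have : (N ⊓ L : Subgroup G) = N := inf_of_le_left hc
    rw [this, hNcard] at hNL
    norm_num at hNL
  have hnorm : ((N ⊓ L).subgroupOf N).Normal := normal_of_index_eq_two (by
    have h := ((N ⊓ L).subgroupOf N).card_mul_index
    rw [Nat.card_congr (subgroupOfEquivOfLe inf_le_left).toEquiv, hNL, hNcard] at h
    omega)
  have hconjL : ∀ u, u ∈ N → u ∈ L → g * u * g⁻¹ ∈ L := fun u huN huL =>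
    (mem_inf.1 (mem_subgroupOf.1 (hnorm.conj_mem ⟨u, huN⟩ (mem_subgroupOf.2 (mem_inf.2 ⟨huN, huL⟩)) ⟨g, hgN⟩))).2
  have hgD : ∀ x ∈ D, g * x * g⁻¹ ∈ D := fun x hx => (mem_normalizer_iff.1 hgN x).1 hx
  have hzp : ∀ x : G, zpowers x = zpowers z → (g * z * g⁻¹ = x) → False := fun x hx e => hgL (by
    rw [hL, mem_normalizer_iff_map_conj_eq, MonoidHom.map_zpowers]
    exact (congrArg zpowers e).trans hx)
  have hkw : k8 * w8 = w8 * k8 := by decide +kernel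
  have hgz : g * z * g⁻¹ = w ∨ g * z * g⁻¹ = w * w := by
    obtain ⟨σ, hσ, hm, e⟩ := hD_of _ (hgD z hzD)
    rcases DL_cases σ hm with rfl | rfl | rfl | rfl | rfl | hd
    · exfalso
      rw [show (⟨1, hσ⟩ : PS) = 1 from rfl, map_one] at e
      exact hz1 (conj_eq_one_iff.1 e.symm)
    · exact (hzp z rfl e.symm).elim
    · refine (hzp _ ?_ e.symm).elim
      rw [show (⟨g8 * g8, hσ⟩ : PS) = ⟨g8, inP_g8⟩⁻¹ from Subtype.ext (by
        show g8 * g8 = g8⁻¹; decide +kernel), map_inv, zpowers_inv]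
    · exact Or.inl e.symm
    · right
      rw [← e, show (⟨w8 * w8, hσ⟩ : PS) = ⟨w8, inP_w8⟩ * ⟨w8, inP_w8⟩ from rfl, map_mul]
    · exfalso
      -- the conjugate of `k` inverts `z` and `w`, hence also `g w g⁻¹`
      have hk_IL : k8 ∈ IL := by decide +kernel
      set k := F ⟨k8, inP_k8⟩ with hk
      have hkN : k ∈ N := (hIL _ _).2 hk_IL
      have hkL : k ∈ L := hrange ▸ ⟨_, rfl⟩
      have hu : g * k * g⁻¹ ∈ F.range := hrange ▸ hconjL k hkN hkL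
      obtain ⟨⟨τ, hτ⟩, eτ⟩ := hu
      have hτIL : τ ∈ IL := (hIL τ hτ).1 (eτ ▸ mul_mem (mul_mem hgN hkN) (inv_mem hgN))
      have hkz : k * z * k⁻¹ = z⁻¹ := by
        rw [hk, hz, hFconj _ _ _ _ (PS.mul_mem (PS.mul_mem inP_k8 inP_g8) (PS.inv_mem inP_k8)), ← map_inv]
        exact hF _ _ _ _ (by decide +kernel)
      have hinv : τ * σ * τ⁻¹ = σ⁻¹ := congrArg Subtype.val (hinj (a₁ := ⟨τ, hτ⟩ * ⟨σ, hσ⟩ * ⟨τ, hτ⟩⁻¹)
        (a₂ := ⟨σ, hσ⟩⁻¹) (by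
          rw [map_mul, map_mul, map_inv, map_inv, eτ, e]
          calc g * k * g⁻¹ * (g * z * g⁻¹) * (g * k * g⁻¹)⁻¹ = g * (k * z * k⁻¹) * g⁻¹ := by group
            _ = _ := by rw [hkz]; group))
      obtain ⟨i1, i2⟩ := diag_invert τ hτIL σ (by simpa using hd) hinv
      have hall : ∀ x ∈ D, g * k * g⁻¹ * x * (g * k * g⁻¹)⁻¹ = x⁻¹ := by
        have key : ∀ τ ∈ IL, τ * g8 * τ⁻¹ = g8⁻¹ → τ * w8 * τ⁻¹ = w8⁻¹ → ∀ x ∈ DL, τ * x * τ⁻¹ = x⁻¹ := by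
          decide +kernel
        intro x hx
        obtain ⟨ρ, hρ, hρm, rfl⟩ := hD_of x hx
        rw [← eτ, hFconj τ ρ hτ hρ (PS.mul_mem (PS.mul_mem hτ hρ) (PS.inv_mem hτ)), ← map_inv]
        exact hF _ _ _ _ (key τ hτIL i1 i2 ρ hρm)
      have h1 := hall _ (hgD w hFwD)
      have h2 : k * w = w * k := by
        rw [hk, hw, ← map_mul, ← map_mul]
        exact hF _ _ (PS.mul_mem inP_k8 inP_w8) (PS.mul_mem inP_w8 inP_k8) hkw
      have h3 : w = w⁻¹ := by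
        have h4 : g * k * g⁻¹ * (g * w * g⁻¹) * (g * k * g⁻¹)⁻¹ = g * w * g⁻¹ := by
          calc g * k * g⁻¹ * (g * w * g⁻¹) * (g * k * g⁻¹)⁻¹ = g * (k * w) * k⁻¹ * g⁻¹ := by group
            _ = _ := by rw [h2]; group
        rw [h4] at h1
        calc w = g⁻¹ * (g * w * g⁻¹) * g := by group
          _ = g⁻¹ * (g * w * g⁻¹)⁻¹ * g := by rw [← h1]
          _ = w⁻¹ := by group
      have : w8 = w8⁻¹ := congrArg Subtype.val (hinj (a₁ := ⟨w8, inP_w8⟩) (a₂ := ⟨w8, inP_w8⟩⁻¹)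
        (by rw [map_inv]; exact h3))
      revert this
      decide +kernel
  obtain ⟨g, hgN, hgz⟩ : ∃ g ∈ N, g * z * g⁻¹ = w := by
    rcases hgz with e | e
    · exact ⟨g, hgN, e⟩
    · refine ⟨F ⟨h8, inP_h8⟩ * g, mul_mem ((hIL _ _).2 (by decide +kernel)) hgN, ?_⟩
      rw [show F ⟨h8, inP_h8⟩ * g * z * (F ⟨h8, inP_h8⟩ * g)⁻¹
          = F ⟨h8, inP_h8⟩ * (g * z * g⁻¹) * (F ⟨h8, inP_h8⟩)⁻¹ by group, e, hw, ← map_inv, ← map_mul,
        ← map_mul, ← map_mul]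
      exact hF _ _ (PS.mul_mem (PS.mul_mem inP_h8 (PS.mul_mem inP_w8 inP_w8)) (PS.inv_mem inP_h8)) inP_w8
        (by decide +kernel)
  have hgD : ∀ x ∈ D, g * x * g⁻¹ ∈ D := fun x hx => (mem_normalizer_iff.1 hgN x).1 hx
  -- cardinality of the centraliser of `z`
  have hz18 : Nat.card (centralizer ({z} : Set G)) ≠ 18 := by
    intro hc
    set f5 : P8 := swap 0 1 * swap 1 2 * swap 2 3 * swap 3 4 with hf5
    have h5 : InP f5 ∧ f5 ^ 5 = 1 ∧ f5 ≠ 1 ∧ f5 * g8 = g8 * f5 := by rw [hf5]; decide +kernel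
    haveI : Fact (Nat.Prime 5) := ⟨by norm_num⟩
    have hord : orderOf (F ⟨f5, h5.1⟩) = 5 := by
      rw [orderOf_injective F hinj, ← Subgroup.orderOf_coe]
      exact orderOf_eq_prime h5.2.1 h5.2.2.1
    have hm : F ⟨f5, h5.1⟩ ∈ centralizer ({z} : Set G) := by
      rw [mem_centralizer_singleton_iff, hz, ← map_mul, ← map_mul]
      exact hF _ _ (PS.mul_mem h5.1 inP_g8) (PS.mul_mem inP_g8 h5.1) h5.2.2.2
    have := orderOf_dvd_natCard (⟨_, hm⟩ : centralizer ({z} : Set G))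
    rw [orderOf_mk, hord, hc] at this
    norm_num at this
  have hw18 : Nat.card (centralizer ({w} : Set G)) ≠ 18 := by
    rw [← card_centralizer_isConj (isConj_iff.2 ⟨g, hgz⟩ : IsConj z w)]; exact hz18
  have hdiag : Nat.card (centralizer ({F ⟨w8 * g8, PS.mul_mem inP_w8 inP_g8⟩} : Set G)) = 18 := by
    obtain ⟨σ, hσ, hm, rfl⟩ := hD_of y hyD
    set dd := F ⟨w8 * g8, PS.mul_mem inP_w8 inP_g8⟩ with hdd
    have hk' : IsConj dd (F ⟨k8 * (w8 * g8) * k8⁻¹,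
        PS.mul_mem (PS.mul_mem inP_k8 (PS.mul_mem inP_w8 inP_g8)) (PS.inv_mem inP_k8)⟩) :=
      isConj_iff.2 ⟨F ⟨k8, inP_k8⟩, hFconj _ _ _ _ _⟩
    rcases DL_cases σ hm with rfl | rfl | rfl | rfl | rfl | rfl | rfl | rfl | rfl
    · exact absurd (by rw [show (⟨1, hσ⟩ : PS) = 1 from rfl, map_one]; exact one_mem _) hyz
    · exact absurd (mem_zpowers z) hyz
    · refine absurd ?_ hyz
      rw [show (⟨g8 * g8, hσ⟩ : PS) = ⟨g8, inP_g8⟩ * ⟨g8, inP_g8⟩ from rfl, map_mul]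
      exact mul_mem (mem_zpowers z) (mem_zpowers z)
    · exact absurd hycard hw18
    · refine absurd ?_ hw18
      rw [← hycard, show (⟨w8 * w8, hσ⟩ : PS) = ⟨w8, inP_w8⟩⁻¹ from Subtype.ext (by
        show w8 * w8 = w8⁻¹; decide +kernel), map_inv, card_centralizer_inv]
    · exact hycard
    · rw [← hycard, show (⟨(w8 * g8)⁻¹, hσ⟩ : PS) = ⟨w8 * g8, PS.mul_mem inP_w8 inP_g8⟩⁻¹ from rfl,
        map_inv, card_centralizer_inv]
    · rw [← hycard, card_centralizer_isConj hk']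
    · rw [← hycard, card_centralizer_isConj hk',
        show (⟨(k8 * (w8 * g8) * k8⁻¹)⁻¹, hσ⟩ : PS) = ⟨k8 * (w8 * g8) * k8⁻¹,
          PS.mul_mem (PS.mul_mem inP_k8 (PS.mul_mem inP_w8 inP_g8)) (PS.inv_mem inP_k8)⟩⁻¹ from rfl,
        map_inv, card_centralizer_inv]
  -- `g` maps `w` to `z^±1`
  obtain ⟨b, hb⟩ : ∃ b : Bool, g * F ⟨swapC b * g8 * (swapC b)⁻¹, inP_swapC b inP'_g8⟩ * g⁻¹ = z := by
    obtain ⟨σ, hσ, hm, e⟩ := hD_of _ (hgD w hFwD)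
    have hw' : ∀ i : ℕ, g * w * g⁻¹ ≠ w ^ i := fun i e' => by
      have : w8 = g8 ^ i := congrArg Subtype.val (hinj (a₁ := ⟨w8, inP_w8⟩) (a₂ := ⟨g8, inP_g8⟩ ^ i) (by
        rw [map_pow, ← hz, ← hw]
        rw [← hgz] at e' ⊢
        rw [conj_pow] at e'
        have := mul_left_cancel (mul_right_cancel e')
        exact this))
      have key : ∀ i < 3, w8 ≠ g8 ^ i := by decide +kernel
      refine key (i % 3) (Nat.mod_lt _ (by norm_num)) ?_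
      rw [this]
      conv_lhs => rw [← Nat.mod_add_div i 3, pow_add, pow_mul,
        show g8 ^ 3 = 1 by decide +kernel, one_pow, mul_one]
    have hne18 : Nat.card (centralizer ({g * w * g⁻¹} : Set G)) ≠ 18 := by
      rw [← card_centralizer_isConj (isConj_iff.2 ⟨g, rfl⟩ : IsConj w (g * w * g⁻¹))]; exact hw18
    rcases DL_cases σ hm with rfl | rfl | rfl | rfl | rfl | rfl | rfl | rfl | rfl
    · exfalso
      rw [show (⟨1, hσ⟩ : PS) = 1 from rfl, map_one] at e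
      exact hw' 0 (by rw [pow_zero]; exact e.symm)
    · refine ⟨true, ?_⟩
      rw [hF _ _ _ inP_w8 (by have := (swapC_facts true).2; simpa [swapC] using this)]
      exact e.symm
    · refine ⟨false, ?_⟩
      rw [hF _ _ _ (PS.mul_mem inP_w8 inP_w8) (by have := (swapC_facts false).2; simpa [swapC] using this),
        show (⟨w8 * w8, _⟩ : PS) = ⟨w8, inP_w8⟩ * ⟨w8, inP_w8⟩ from rfl, map_mul, ← hw, ← conj_mul, ← e,
        ← map_mul]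
      exact hF _ _ (PS.mul_mem hσ hσ) inP_g8 (by decide +kernel)
    · exact absurd e.symm (by simpa using hw' 1)
    · refine absurd e.symm ?_
      rw [show (⟨w8 * w8, hσ⟩ : PS) = ⟨w8, inP_w8⟩ * ⟨w8, inP_w8⟩ from rfl, map_mul, ← pow_two]
      exact hw' 2
    all_goals refine absurd ?_ hne18; rw [← e]
    · exact hdiag
    · rw [show (⟨(w8 * g8)⁻¹, hσ⟩ : PS) = ⟨w8 * g8, PS.mul_mem inP_w8 inP_g8⟩⁻¹ from rfl, map_inv,
        card_centralizer_inv, hdiag]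
    · exact (card_centralizer_isConj (isConj_iff.2 ⟨F ⟨k8, inP_k8⟩,
        hFconj _ _ _ (PS.mul_mem inP_w8 inP_g8) hσ⟩)).symm.trans hdiag
    · rw [show (⟨(k8 * (w8 * g8) * k8⁻¹)⁻¹, hσ⟩ : PS) = ⟨k8 * (w8 * g8) * k8⁻¹,
          PS.mul_mem (PS.mul_mem inP_k8 (PS.mul_mem inP_w8 inP_g8)) (PS.inv_mem inP_k8)⟩⁻¹ from rfl,
        map_inv, card_centralizer_inv]
      exact (card_centralizer_isConj (isConj_iff.2 ⟨F ⟨k8, inP_k8⟩,
        hFconj _ _ _ (PS.mul_mem inP_w8 inP_g8) _⟩)).symm.trans hdiag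
  -- the first version of the second chart
  set F₁ := chartW F g b 1 PS'.one_mem with hF1
  have hF1g : F₁ ⟨g8, inP'_g8⟩ = z := by
    rw [hF1]; erw [chartW_apply]
    exact (congrArg (fun t => g * t * g⁻¹) (hF _ _ _ _ (by group))).trans hb
  have hF1w : F₁ ⟨w8, inP'_w8⟩ = w := by
    rw [hF1]; erw [chartW_apply]; rw [← hgz]
    exact congrArg (fun t => g * t * g⁻¹) (hF _ _ _ _ (by rw [← (swapC_facts b).1]; group))
  -- the discrepancy on `h8`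
  have hact : ∀ (x : P8) (a : InP x) (a' : InP' x) (τ : P8) (t : InP τ) (t' : InP' τ),
      F ⟨τ, t⟩ = F₁ ⟨τ, t'⟩ → F ⟨τ, t⟩ ∈ D → ∀ hc : InP (x * τ * x⁻¹), ∀ hc' : InP' (x * τ * x⁻¹),
      F ⟨x * τ * x⁻¹, hc⟩ = F₁ ⟨x * τ * x⁻¹, hc'⟩ →
      ((F ⟨x, a⟩)⁻¹ * F₁ ⟨x, a'⟩) * F ⟨τ, t⟩ = F ⟨τ, t⟩ * ((F ⟨x, a⟩)⁻¹ * F₁ ⟨x, a'⟩) := by
    intro x a a' τ t t' e _ hc hc' ec
    have e1 : F ⟨x * τ * x⁻¹, hc⟩ = F ⟨x, a⟩ * F ⟨τ, t⟩ * (F ⟨x, a⟩)⁻¹ := (hFconj x τ a t hc).symm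
    have e2 : F₁ ⟨x * τ * x⁻¹, hc'⟩ = F₁ ⟨x, a'⟩ * F₁ ⟨τ, t'⟩ * (F₁ ⟨x, a'⟩)⁻¹ := by
      rw [← map_inv, ← map_mul, ← map_mul]; rfl
    rw [e1, e2, ← e] at ec
    calc (F ⟨x, a⟩)⁻¹ * F₁ ⟨x, a'⟩ * F ⟨τ, t⟩
        = (F ⟨x, a⟩)⁻¹ * (F₁ ⟨x, a'⟩ * F ⟨τ, t⟩ * (F₁ ⟨x, a'⟩)⁻¹) * F₁ ⟨x, a'⟩ := by group
      _ = _ := by rw [← ec]; group
  have hagreeD : ∀ τ ∈ DL, ∀ (t : InP τ) (t' : InP' τ), F ⟨τ, t⟩ = F₁ ⟨τ, t'⟩ := by
    intro τ hτ t t'
    simp only [DL, List.mem_flatMap, List.mem_cons, List.not_mem_nil, or_false] at hτ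
    obtain ⟨a, ha, hx⟩ := hτ
    have m1 : ∃ (u : InP a) (u' : InP' a), F ⟨a, u⟩ = F₁ ⟨a, u'⟩ := by
      rcases ha with rfl | rfl | rfl
      · exact ⟨PS.one_mem, PS'.one_mem, (map_one F).trans (map_one F₁).symm⟩
      · exact ⟨inP_g8, inP'_g8, hF1g.symm⟩
      · exact ⟨PS.mul_mem inP_g8 inP_g8, PS'.mul_mem inP'_g8 inP'_g8,
          (map_mul F ⟨g8, inP_g8⟩ ⟨g8, inP_g8⟩).trans (((congrArg₂ (· * ·) hF1g hF1g).symm).trans
            (map_mul F₁ _ _).symm)⟩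
    obtain ⟨u, u', eu⟩ := m1
    rcases hx with rfl | rfl | rfl
    · exact eu
    · exact (map_mul F ⟨a, u⟩ ⟨w8, inP_w8⟩).trans ((congrArg₂ (· * ·) eu hF1w.symm).trans (map_mul F₁ _ _).symm)
    · exact (map_mul F ⟨a, u⟩ (⟨w8, inP_w8⟩ * ⟨w8, inP_w8⟩)).trans ((congrArg₂ (· * ·) eu
        ((map_mul F _ _).trans ((congrArg₂ (· * ·) hF1w hF1w).symm.trans (map_mul F₁ _ _).symm))).trans
        (map_mul F₁ _ _).symm)
  have hdisc : ∀ (x : P8) (a : InP x) (a' : InP' x), x ∈ [h8, k8] →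
      ∃ d, ∃ hd : InP d, d ∈ DL ∧ F₁ ⟨x, a'⟩ = F ⟨x, a⟩ * F ⟨d, hd⟩ := by
    intro x a a' hx
    have hm : ∀ τ ∈ [g8, w8], x * τ * x⁻¹ ∈ DL := by
      have key : ∀ x ∈ [h8, k8], ∀ τ ∈ [g8, w8], x * τ * x⁻¹ ∈ DL := by decide +kernel
      exact key x hx
    obtain ⟨d, hd, hdm, e⟩ := hcD ((F ⟨x, a⟩)⁻¹ * F₁ ⟨x, a'⟩)
      (hact x a a' g8 inP_g8 inP'_g8 hF1g.symm hzD _ _ (hagreeD _ (hm g8 (by simp))
        (DL_facts.1 _ (hm g8 (by simp))).1 (DL_facts.1 _ (hm g8 (by simp))).2.1))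
      (hact x a a' w8 inP_w8 inP'_w8 hF1w.symm hFwD _ _ (hagreeD _ (hm w8 (by simp))
        (DL_facts.1 _ (hm w8 (by simp))).1 (DL_facts.1 _ (hm w8 (by simp))).2.1))
    exact ⟨d, hd, hdm, by rw [e]; group⟩
  obtain ⟨d, hd, hdm, hdh⟩ := hdisc h8 inP_h8 inP'_h8 (by simp)
  have hdd : InP' (d * d) := PS'.mul_mem (DL_facts.1 d hdm).2.1 (DL_facts.1 d hdm).2.1
  set F' := chartW F g b (d * d) hdd with hF'
  have hF'eq : ∀ σ : PS', F' σ = F₁ (⟨d * d, hdd⟩ * σ * ⟨d * d, hdd⟩⁻¹) := fun σ => by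
    rw [hF', hF1]; erw [chartW_apply]
  have hDconj : ∀ τ ∈ DL, d * d * τ * (d * d)⁻¹ = τ := by
    have key : ∀ d ∈ DL, ∀ τ ∈ DL, d * d * τ * (d * d)⁻¹ = τ := by decide +kernel
    exact key d hdm
  have hF'D : ∀ τ ∈ DL, ∀ (t : InP τ) (t' : InP' τ), F ⟨τ, t⟩ = F' ⟨τ, t'⟩ := fun τ hτ t t' => by
    rw [hagreeD τ hτ t t', hF'eq]
    exact congrArg F₁ (Subtype.ext (hDconj τ hτ).symm)
  have hF'h : F ⟨h8, inP_h8⟩ = F' ⟨h8, inP'_h8⟩ := by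
    have hd' : InP' d := (DL_facts.1 d hdm).2.1
    have e3 : F ⟨d, hd⟩ = F₁ ⟨d, hd'⟩ := hagreeD d hdm hd hd'
    rw [hF'eq, show (⟨d * d, hdd⟩ : PS') * ⟨h8, inP'_h8⟩ * ⟨d * d, hdd⟩⁻¹ =
      ⟨h8, inP'_h8⟩ * ⟨d, hd'⟩⁻¹ * ⟨d, hd'⟩⁻¹ * ⟨d, hd'⟩⁻¹ * ⟨d, hd'⟩⁻¹ from
      Subtype.ext (h8_fix d hdm).1]
    rw [map_mul, map_mul, map_mul, map_mul, map_inv, hdh, e3]
    have h3 : F₁ ⟨d, hd'⟩ ^ 3 = 1 := by rw [← e3]; exact hexp _ (hDL_mem d hd hdm)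
    calc F ⟨h8, inP_h8⟩ = F ⟨h8, inP_h8⟩ * (F₁ ⟨d, hd'⟩ ^ 3)⁻¹ := by rw [h3, inv_one, mul_one]
      _ = _ := by group
  have hF'g : F ⟨g8, inP_g8⟩ = F' ⟨g8, inP'_g8⟩ := hF'D _ (by decide +kernel) _ _
  have hF'w : F ⟨w8, inP_w8⟩ = F' ⟨w8, inP'_w8⟩ := hF'D _ (by decide +kernel) _ _
  have hF'k : F ⟨k8, inP_k8⟩ = F' ⟨k8, inP'_k8⟩ := by
    obtain ⟨c, hc, hcm, ec⟩ := hdisc k8 inP_k8 inP'_k8 (by simp)
    have hk' : d * d * k8 * (d * d)⁻¹ * k8⁻¹ ∈ DL := by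
      have key : ∀ d ∈ DL, d * d * k8 * (d * d)⁻¹ * k8⁻¹ ∈ DL := by decide +kernel
      exact key d hdm
    set c' := d * d * k8 * (d * d)⁻¹ * k8⁻¹ with hc'
    have hc'' : InP c' := (DL_facts.1 _ hk').1
    have e : F' ⟨k8, inP'_k8⟩ = F ⟨c' * (k8 * c), PS.mul_mem hc'' (PS.mul_mem inP_k8 hc)⟩ := by
      rw [hF'eq, show (⟨d * d, hdd⟩ : PS') * ⟨k8, inP'_k8⟩ * ⟨d * d, hdd⟩⁻¹ =
        ⟨c', (DL_facts.1 _ hk').2.1⟩ * ⟨k8, inP'_k8⟩ from Subtype.ext (by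
          show d * d * k8 * (d * d)⁻¹ = c' * k8; rw [hc']; group),
        map_mul, ← hagreeD c' hk' hc'' _, ec, ← map_mul, ← map_mul]
      rfl
    set u := c' * (k8 * c) with hu
    have hhk : h8 * u = u * h8 := by
      have hh : (⟨h8, inP'_h8⟩ : PS') * ⟨k8, inP'_k8⟩ = ⟨k8, inP'_k8⟩ * ⟨h8, inP'_h8⟩ :=
        Subtype.ext (show h8 * k8 = k8 * h8 by decide +kernel)
      have := congrArg F' hh
      rw [map_mul, map_mul, ← hF'h, e, ← map_mul, ← map_mul] at this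
      exact congrArg Subtype.val (hinj this)
    have hcc : ∃ m ∈ DL, u = k8 * m := by
      have key : ∀ a ∈ DL, ∀ c ∈ DL, ∃ m ∈ DL, a * (k8 * c) = k8 * m := by decide +kernel
      exact key c' hk' c hcm
    obtain ⟨m, hm, em⟩ := hcc
    rw [em] at hhk
    have := (h8_fix m hm).2 hhk
    rw [e]
    exact hF _ _ _ _ (by show k8 = u; rw [em, this, mul_one])
  have hagree := agree_of_gens F F' hF'g hF'w hF'h hF'k
  refine ⟨⟨F, F', hinj, ?_, hrange, ?_, hagree, ?_, hdiag, ?_, isConj_iff.2 ⟨g, hgz⟩⟩⟩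
  · intro a a' e
    rw [hF'] at e; erw [chartW_apply, chartW_apply] at e
    have e' := congrArg Subtype.val (hinj (mul_left_cancel (mul_right_cancel e)))
    exact Subtype.ext (mul_left_cancel (mul_right_cancel (mul_left_cancel (mul_right_cancel e'))))
  · rw [← hF'w, ← hw, ← hgz, normalizer_zpowers_conj, ← hL, ← hrange, ← MonoidHom.range_comp]
    refine le_antisymm ?_ ?_
    · rintro _ ⟨σ, rfl⟩
      rw [hF']; erw [chartW_apply]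
      exact ⟨_, rfl⟩
    · rintro _ ⟨⟨τ, hτ⟩, rfl⟩
      refine ⟨⟨(d * d)⁻¹ * ((swapC b)⁻¹ * τ * swapC b) * (d * d),
        PS'.mul_mem (PS'.mul_mem (PS'.inv_mem hdd) (inP'_swapC b hτ)) hdd⟩, ?_⟩
      rw [hF']; erw [chartW_apply]
      exact congrArg (fun t => g * t * g⁻¹) (hF _ _ _ hτ (by group))
  · intro h
    have h' : 3 ^ 3 ∣ Nat.card G := h
    obtain ⟨Q, hQ⟩ := Sylow.exists_subgroup_card_pow_prime 3 h'
    obtain ⟨R, hQR⟩ := (IsPGroup.of_card hQ).exists_le_sylow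
    have h1 := card_dvd_of_le hQR
    rw [hQ, R.card_eq_multiplicity, ← P.card_eq_multiplicity, ← hDP, hcard] at h1
    norm_num at h1
  · rw [hF'k, hF']; erw [chartW_apply]
    have hsp : ∀ b : Bool, ∀ d ∈ DL, let u := swapC b * (d * d * k8 * (d * d)⁻¹) * (swapC b)⁻¹
        u * g8 = g8 * u ∧ u * u = 1 ∧ u ≠ 1 := by decide +kernel
    obtain ⟨h1, h2, h3⟩ := hsp b d hdm
    obtain ⟨i, j, τ, -, k, l, ht, -, e⟩ := invol_g _ (inP_swapC b (PS'.mul_mem (PS'.mul_mem hdd inP'_k8)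
      (PS'.inv_mem hdd))) h1 h2 h3
    set t := emb (1, swap i j * swap k l) * τ with ht'
    refine isConj_iff.2 ⟨g * F ⟨t, ht⟩, ?_⟩
    rw [show g * F ⟨t, ht⟩ * F ⟨a8, inP_a8⟩ * (g * F ⟨t, ht⟩)⁻¹ =
      g * (F ⟨t, ht⟩ * F ⟨a8, inP_a8⟩ * (F ⟨t, ht⟩)⁻¹) * g⁻¹ by group,
      hFconj t a8 ht inP_a8 (PS.mul_mem (PS.mul_mem ht inP_a8) (PS.inv_mem ht))]
    exact congrArg (fun x => g * x * g⁻¹) (hF _ _ _ _ e)

theorem exists_data (P : Sylow 3 G) (D : Subgroup G) (hDP : D = P) (y z : G) (hgen : closure {y, z} = D)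
    (hcomm : IsMulCommutative D) (hcard : Nat.card D = 9) (hexp : ∀ a ∈ D, a ^ 3 = 1)
    (eN : normalizer (D : Set G) ⧸ D.subgroupOf (normalizer (D : Set G)) ≃* DihedralGroup 4)
    (hycard : Nat.card (centralizer ({y} : Set G)) = 18)
    (eL : normalizer (zpowers z : Set G) ≃*
      (((Equiv.Perm.sign).comp (MonoidHom.fst (Equiv.Perm (Fin 3)) (Equiv.Perm (Fin 5)))) *
        ((Equiv.Perm.sign).comp (MonoidHom.snd (Equiv.Perm (Fin 3)) (Equiv.Perm (Fin 5))))).ker) :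
    Nonempty (Data G) := by
  refine exists_data_of_card P D hDP y z hgen hcomm hcard hexp ?_ hycard eL
  rw [card_eq_card_quotient_mul_card_subgroup (D.subgroupOf (normalizer (D : Set G))), Nat.card_congr eN.toEquiv,
    DihedralGroup.nat_card, Nat.card_congr (subgroupOfEquivOfLe le_normalizer).toEquiv, hcard]

end Cfsg.Agent.A8Three
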