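import Cfsg.Agent.Lib.A8Three.CentA
import Cfsg.Agent.Lib.A8Three.Setup

/-!
The 3-local characterisation of the alternating group of degree eight.
-/

set_option autoImplicit false
set_option maxRecDepth 20000
set_option synthInstance.maxSize 2000
set_option maxHeartbeats 1000000
set_option linter.style.haveILetI false

namespace Cfsg.Agent.A8Three

open Equiv Subgroup

namespace Full

variable {G : Type*} [Group G] [Finite G] (E : Full G)
include E

/-- The centraliser of an involution of `H` lies in `H`. -/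
theorem cent_invol {j : G} (hj : j ∈ E.H) (hjj : j * j = 1) (hj1 : j ≠ 1) {c : G} (hc : c * j = j * c) :
    c ∈ E.H := by
  classical
  haveI : Fact (Nat.Prime 2) := ⟨Nat.prime_two⟩
  have hfac : (Nat.card E.H).factorization 2 = 6 := by
    have h1 : 2 ^ 6 ∣ Nat.card E.H := by rw [E.card_H]; norm_num
    have h2 : ¬ 2 ^ 7 ∣ Nat.card E.H := by rw [E.card_H]; norm_num
    rw [Nat.prime_two.pow_dvd_iff_le_factorization Nat.card_pos.ne'] at h1 h2
    omega
  let Q : Sylow 2 E.H := Sylow.ofCard (E.T.subgroupOf E.H) (by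
    rw [Nat.card_congr (subgroupOfEquivOfLe E.T_le).toEquiv, E.card_T, hfac]; rfl)
  set jH : E.H := ⟨j, hj⟩ with hjH
  have ho : orderOf jH = 2 := by
    rw [hjH, orderOf_mk]; exact orderOf_eq_prime (by rw [pow_two, hjj]) hj1
  obtain ⟨R, hR⟩ := (IsPGroup.of_card (G := zpowers jH) (n := 1) (p := 2)
    (by rw [Nat.card_zpowers, ho, pow_one])).exists_le_sylow
  obtain ⟨h, hh⟩ := MulAction.exists_smul_eq E.H R Q
  have hmem : h * jH * h⁻¹ ∈ (Q : Subgroup E.H) := by
    rw [← hh, Sylow.coe_subgroup_smul]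
    exact ⟨jH, hR (mem_zpowers _), rfl⟩
  obtain ⟨σ, hs, hσ, e⟩ := E.mem_img.1 (show ((h * jH * h⁻¹ : E.H) : G) ∈ E.T from hmem)
  have e' : E.t σ hs = (h : G) * j * (h : G)⁻¹ := e
  have h2 : σ * σ = 1 := by
    refine E.t_val (by rw [map_mul, hs, one_mul]) (map_one _) ?_
    rw [← E.t_mul hs hs, e', E.t_one]
    calc (h : G) * j * (h : G)⁻¹ * ((h : G) * j * (h : G)⁻¹) = (h : G) * (j * j) * (h : G)⁻¹ := by group
      _ = 1 := by rw [hjj]; group
  have h1 : σ ≠ 1 := fun e'' => hj1 (by subst e''; rw [E.t_one] at e'; exact conj_eq_one_iff.1 e'.symm)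
  have hhH : (h : G) ∈ E.H := h.2
  have hcj : (h : G) * c * (h : G)⁻¹ * E.t σ hs = E.t σ hs * ((h : G) * c * (h : G)⁻¹) := by
    rw [e']
    calc (h : G) * c * (h : G)⁻¹ * ((h : G) * j * (h : G)⁻¹) = (h : G) * (c * j) * (h : G)⁻¹ := by group
      _ = (h : G) * (j * c) * (h : G)⁻¹ := by rw [hc]
      _ = _ := by group
  have key : (h : G) * c * (h : G)⁻¹ ∈ E.H := by
    obtain ⟨k, hk, hk' | hk'⟩ := T_conj σ hσ h2 h1
    · subst hk'
      exact E.cent_conj (σ := a8) sgn_a8 (conjL_even k hk)
        (fun x hx => E.cent_a (by rw [E.a_t]; exact hx)) hcj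
    · subst hk'
      exact E.cent_conj (σ := b8) sgn_b8 (conjL_even k hk) (fun x hx => E.cent_b hx) hcj
  simpa [mul_assoc] using mul_mem (mul_mem (inv_mem hhH) key) hhH

theorem eq_top : E.H = ⊤ := by
  classical
  haveI : Fact (Nat.Prime 2) := ⟨Nat.prime_two⟩
  have hb1 : E.b ≠ 1 := fun e => absurd (E.t_val sgn_b8 (map_one _) (e.trans E.t_one.symm)) (by decide +kernel)
  have hb2 : E.b * E.b = 1 := (E.t_mul _ _).trans ((E.t_ext _ _ (by decide +kernel)).trans E.t_one)
  have haH : E.a ∈ E.H := by rw [E.a_t]; exact E.t_mem _ _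
  by_cases hall : ∀ g : G, g * E.b * g⁻¹ ∈ E.H
  · -- `H` is normal
    haveI : IsSimpleGroup (alternatingGroup (Fin 8)) := alternatingGroup.isSimpleGroup (by simp)
    haveI : IsSimpleGroup E.H := (MonoidHom.ofInjective E.θ_inj).isSimpleGroup_congr.1 inferInstance
    set K := Subgroup.normalClosure ({E.b} : Set G) with hK
    have hKH : K ≤ E.H := by
      rw [hK, Subgroup.normalClosure, closure_le]
      intro x hx
      obtain ⟨s, hs, hsx⟩ := Group.mem_conjugatesOfSet_iff.1 hx
      rw [Set.mem_singleton_iff] at hs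
      subst hs
      obtain ⟨g, rfl⟩ := isConj_iff.1 hsx
      exact hall g
    have hKn : (K.subgroupOf E.H).Normal := inferInstance
    have hKeq : E.H ≤ K := by
      rcases hKn.eq_bot_or_eq_top with h | h
      · exfalso
        have : (⟨E.b, E.t_mem _ _⟩ : E.H) ∈ K.subgroupOf E.H :=
          Subgroup.subset_normalClosure (Set.mem_singleton _)
        rw [h, Subgroup.mem_bot] at this
        exact hb1 (congrArg Subtype.val this)
      · exact Subgroup.subgroupOf_eq_top.1 h
    have hHK : E.H = K := le_antisymm hKeq hKH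
    haveI : E.H.Normal := hHK ▸ Subgroup.normalClosure_normal
    have hTp : IsPGroup 2 (E.T.subgroupOf E.H) :=
      (IsPGroup.of_card (n := 6) E.card_T).of_equiv (subgroupOfEquivOfLe E.T_le).symm
    obtain ⟨Q0, hQ0⟩ := hTp.exists_le_sylow
    have hmap : (Q0 : Subgroup E.H).map E.H.subtype = E.T := by
      have hle : E.T ≤ (Q0 : Subgroup E.H).map E.H.subtype := fun x hx => ⟨⟨x, E.T_le hx⟩, hQ0 hx, rfl⟩
      refine (eq_of_le_of_card_ge hle ?_).symm
      rw [E.card_T]
      obtain ⟨m, hm⟩ := IsPGroup.iff_card.1 (Q0.isPGroup'.map E.H.subtype)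
      have := (Nat.prime_two.pow_dvd_iff_le_factorization Nat.card_pos.ne').1
        (hm ▸ card_subgroup_dvd_card ((Q0 : Subgroup E.H).map E.H.subtype))
      rw [E.fac_two] at this
      rw [hm, show 64 = 2 ^ 6 from rfl]
      exact Nat.pow_le_pow_right two_pos this
    have hfr := Sylow.normalizer_sup_eq_top Q0
    rw [hmap] at hfr
    rw [eq_top_iff, ← hfr, sup_le_iff]
    refine ⟨fun g hg => E.normT fun x hx => (mem_normalizer_iff.1 hg x).1 hx, le_rfl⟩
  · exfalso
    push_neg at hall
    obtain ⟨g, hg⟩ := hall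
    set u := g * E.b * g⁻¹ with hu
    have huu : u * u = 1 := by
      rw [hu]
      calc g * E.b * g⁻¹ * (g * E.b * g⁻¹) = g * (E.b * E.b) * g⁻¹ := by group
        _ = 1 := by rw [hb2]; group
    have hu1 : u ≠ 1 := fun e => hb1 (conj_eq_one_iff.1 e)
    have hua : E.a * u ≠ 1 := fun e => hg (by
      rw [show u = E.a⁻¹ from eq_inv_of_mul_eq_one_right e]; exact inv_mem haH)
    set d := E.a * u with hd
    have hda : E.a * d * E.a = d⁻¹ := by
      rw [hd, mul_inv_rev, inv_eq_of_mul_eq_one_right huu, inv_eq_of_mul_eq_one_right E.aa, ← mul_assoc,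
        E.aa, one_mul]
    have hdk : ∀ k : ℕ, E.a * d ^ k * E.a = (d ^ k)⁻¹ := by
      intro k
      induction k with
      | zero => rw [pow_zero, inv_one, mul_one, E.aa]
      | succ k ih =>
        calc E.a * d ^ (k + 1) * E.a = E.a * d ^ k * (E.a * E.a) * d * E.a := by
              rw [E.aa, mul_one, pow_succ]; group
          _ = (E.a * d ^ k * E.a) * (E.a * d * E.a) := by group
          _ = _ := by rw [ih, hda, ← mul_inv_rev, ← pow_succ']
    rcases Nat.even_or_odd' (orderOf d) with ⟨k, hk | hk⟩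
    · -- the product has even order
      have hk0 : 0 < k := by have := orderOf_pos d; omega
      set j := d ^ k with hj
      have hjj : j * j = 1 := by rw [hj, ← pow_add, ← two_mul, ← hk, pow_orderOf_eq_one]
      have hj1 : j ≠ 1 := fun e => by
        have := Nat.le_of_dvd hk0 (orderOf_dvd_of_pow_eq_one e)
        omega
      have hja : j * E.a = E.a * j := by
        have h := hdk k
        rw [← hj, inv_eq_of_mul_eq_one_right hjj] at h
        calc j * E.a = E.a * j * E.a * E.a := by rw [h]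
          _ = E.a * j := by rw [mul_assoc, E.aa, mul_one]
      have hjH : j ∈ E.H := E.cent_a hja
      refine hg (E.cent_invol hjH hjj hj1 ?_)
      have hjd : Commute j d := (Commute.refl d).pow_left k
      have hju : Commute j u := by
        rw [show u = E.a * d by rw [hd, ← mul_assoc, E.aa, one_mul]]
        exact (show Commute j E.a from hja).mul_right hjd
      exact hju.symm.eq
    · -- the product has odd order
      refine E.a_not_conj_b ((isConj_iff.2 ⟨d ^ k, ?_⟩ : IsConj E.a u).trans (IsConj.symm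
        (isConj_iff.2 ⟨g, rfl⟩)))
      have h := hdk k
      rw [← h, ← mul_assoc, ← mul_assoc, mul_assoc (d ^ k) E.a E.a, E.aa, mul_one, ← pow_add, ← two_mul]
      have hinv : d ^ (2 * k) = d⁻¹ := eq_inv_of_mul_eq_one_left (by rw [← pow_succ, ← hk, pow_orderOf_eq_one])
      rw [hinv, hd, mul_inv_rev, inv_eq_of_mul_eq_one_right huu, inv_eq_of_mul_eq_one_right E.aa, mul_assoc,
        E.aa, mul_one]

theorem equiv : Nonempty (G ≃* alternatingGroup (Fin 8)) :=
  ⟨((MonoidHom.ofInjective E.θ_inj).trans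
    ((MulEquiv.subgroupCongr (show E.θ.range = ⊤ from E.eq_top)).trans Subgroup.topEquiv)).symm⟩

end Full

end Cfsg.Agent.A8Three
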