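import Cfsg.Agent.Lib.A8Three.Carm
import Mathlib.GroupTheory.Perm.Sign
import Mathlib.Tactic

/-!
Finite facts about the alternating group of degree eight used for its 3-local characterisation.
-/

set_option autoImplicit false
set_option maxRecDepth 20000

namespace Cfsg.Agent.A8Three

open Equiv

/-- Permutations of eight points. -/
abbrev P8 := Perm (Fin 8)

/-- Bounded quantifiers over lists of permutations are decided along the list. -/
scoped instance (priority := high) decBAll {p : P8 → Prop} [DecidablePred p] (l : List P8) :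
    Decidable (∀ x ∈ l, p x) := List.decidableBAll p l

/-- Bounded existence over lists of permutations is decided along the list. -/
scoped instance (priority := high) decBEx {p : P8 → Prop} [DecidablePred p] (l : List P8) :
    Decidable (∃ x ∈ l, p x) := List.decidableBEx p l

/-- `(5 6 7)` -/
def g8 : P8 := swap 5 6 * swap 6 7
/-- `(0 2)(1 3)` -/
def a8' : P8 := swap 0 2 * swap 1 3
/-- `(0 1)(2 3)` -/
def a8 : P8 := swap 0 1 * swap 2 3
/-- `(0 1)(5 6)` -/
def h8 : P8 := swap 0 1 * swap 5 6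
/-- `(3 4)(5 6)` -/
def k8 : P8 := swap 3 4 * swap 5 6
/-- `(4 7)(5 6)` -/
def u8 : P8 := swap 4 7 * swap 5 6
/-- `(0 1)(2 3)(4 7)(5 6)` -/
def b8 : P8 := a8 * u8
/-- `(0 1)(4 7)` -/
def e8 : P8 := swap 0 1 * swap 4 7
/-- `(0 2 4)(1 3 7)` -/
def q8 : P8 := swap 0 2 * swap 2 4 * (swap 1 3 * swap 3 7)
/-- `(0 5)(1 6)(2 7)(3 4)` -/
def bb8 : P8 := swap 0 5 * swap 1 6 * swap 2 7 * swap 3 4
/-- `(0 5)(1 6)(2 4)(3 7)` -/
def c8 : P8 := swap 0 5 * swap 1 6 * swap 2 4 * swap 3 7
/-- `(0 5)(1 6)(2 7)` -/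
def pi8 : P8 := swap 0 5 * swap 1 6 * swap 2 7
/-- conjugates `b8` to `bb8` -/
def cb8 : P8 := swap 1 5 * swap 5 4 * swap 4 2 * swap 3 6
/-- conjugates `w8 * g8` to `q8` -/
def cq8 : P8 := swap 1 2 * swap 2 4 * swap 4 5 * swap 3 6
/-- conjugates `(2 3 4)` to `w8` -/
def cx8 : P8 := swap 0 3 * swap 3 1 * swap 1 4 * swap 4 2

/-- The stabiliser of `{5, 6, 7}` among the even permutations. -/
def InP (σ : P8) : Prop := Perm.sign σ = 1 ∧ ∀ i : Fin 8, (5 ≤ (i : ℕ) ↔ 5 ≤ (σ i : ℕ))

/-- The stabiliser of `{0, 1, 2}` among the even permutations. -/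
def InP' (σ : P8) : Prop := Perm.sign σ = 1 ∧ ∀ i : Fin 8, ((i : ℕ) < 3 ↔ (σ i : ℕ) < 3)

instance : DecidablePred InP := fun σ => inferInstanceAs (Decidable (_ ∧ _))
instance : DecidablePred InP' := fun σ => inferInstanceAs (Decidable (_ ∧ _))

/-- The embedding of the permutations of the two parts. -/
def emb : Perm (Fin 3) × Perm (Fin 5) →* P8 :=
  ((finSumFinEquiv (m := 5) (n := 3)).permCongrHom.toMonoidHom.comp
    (Perm.sumCongrHom (Fin 5) (Fin 3))).comp (MulEquiv.prodComm.toMonoidHom)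

theorem emb_injective : Function.Injective emb :=
  ((finSumFinEquiv (m := 5) (n := 3)).permCongrHom.injective.comp
    Perm.sumCongrHom_injective).comp (MulEquiv.injective _)

/-- The two kinds of permutations are the same. -/
def Even35 (q : Perm (Fin 3) × Perm (Fin 5)) : Prop := Perm.sign q.1 * Perm.sign q.2 = 1

instance : DecidablePred Even35 := fun q => inferInstanceAs (Decidable (_ = _))

theorem inP_emb : ∀ q, Even35 q → InP (emb q) := by decide +kernel

theorem InP.exists_emb {σ : P8} (h : InP σ) : ∃ q, Even35 q ∧ emb q = σ := by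
  have h5 : ∀ i : Fin 5, (σ (Fin.castAdd 3 i) : ℕ) < 5 := fun i => by
    have h1 := (h.2 (Fin.castAdd 3 i)).not
    simp only [Fin.val_castAdd] at h1
    exact not_le.1 (h1.1 (by omega))
  have h3 : ∀ j : Fin 3, 5 ≤ (σ (Fin.natAdd 5 j) : ℕ) := fun j =>
    (h.2 (Fin.natAdd 5 j)).1 (by simp)
  let f : Fin 5 → Fin 5 := fun i => ⟨σ (Fin.castAdd 3 i), h5 i⟩
  let g : Fin 3 → Fin 3 := fun j => ⟨(σ (Fin.natAdd 5 j) : ℕ) - 5, by omega⟩
  have hf : Function.Injective f := fun i i' e =>
    Fin.castAdd_injective 5 3 (σ.injective (Fin.ext (congrArg Fin.val e :)))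
  have hg : Function.Injective g := fun i i' e => by
    refine Fin.natAdd_injective _ _ (σ.injective (Fin.ext ?_))
    have := congrArg Fin.val e
    have a := h3 i
    have b := h3 i'
    simp only [g] at this
    omega
  refine ⟨(Equiv.ofBijective g (Finite.injective_iff_bijective.1 hg),
    Equiv.ofBijective f (Finite.injective_iff_bijective.1 hf)), ?_, ?_⟩
  all_goals
    set q : Perm (Fin 3) × Perm (Fin 5) := (Equiv.ofBijective g (Finite.injective_iff_bijective.1 hg),
      Equiv.ofBijective f (Finite.injective_iff_bijective.1 hf)) with hq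
    have e : emb q = σ := by
      refine Equiv.ext fun i => ?_
      refine Fin.addCases (m := 5) (n := 3) (fun i => ?_) (fun j => ?_) i
      · have e1 := finSumFinEquiv_symm_apply_castAdd (m := 5) (n := 3) i
        simp [emb, hq, Equiv.permCongrHom]
        erw [e1]
        exact Fin.ext rfl
      · have e2 := finSumFinEquiv_symm_apply_natAdd (m := 5) (n := 3) j
        simp [emb, hq, Equiv.permCongrHom]
        erw [e2]
        refine Fin.ext ?_
        have := h3 j
        show 5 + ((σ (Fin.natAdd 5 j) : ℕ) - 5) = _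
        omega
  · have : ∀ q, Even35 q ↔ Perm.sign (emb q) = 1 := by decide +kernel
    exact (this q).2 (e ▸ h.1)
  · exact e

/-- `Even35` reduces a universal statement on `InP` to one on pairs. -/
theorem forall_inP {φ : P8 → Prop} (h : ∀ q, Even35 q → φ (emb q)) : ∀ σ, InP σ → φ σ := by
  intro σ hσ
  obtain ⟨q, hq, rfl⟩ := hσ.exists_emb
  exact h q hq

/-- `InP` as a subgroup. -/
def PS : Subgroup P8 where
  carrier := {σ | InP σ}
  one_mem' := ⟨map_one _, fun _ => Iff.rfl⟩
  mul_mem' {σ τ} hs ht := ⟨by rw [map_mul, hs.1, ht.1, one_mul],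
    fun i => (ht.2 i).trans (hs.2 (τ i))⟩
  inv_mem' {σ} hs := ⟨by rw [Perm.sign_inv, hs.1],
    fun i => by rw [hs.2 (σ⁻¹ i), show σ (σ⁻¹ i) = i from σ.apply_symm_apply i]⟩

theorem mem_PS {σ : P8} : σ ∈ PS ↔ InP σ := Iff.rfl

/-- `InP'` as a subgroup. -/
def PS' : Subgroup P8 where
  carrier := {σ | InP' σ}
  one_mem' := ⟨map_one _, fun _ => Iff.rfl⟩
  mul_mem' {σ τ} hs ht := ⟨by rw [map_mul, hs.1, ht.1, one_mul],
    fun i => (ht.2 i).trans (hs.2 (τ i))⟩
  inv_mem' {σ} hs := ⟨by rw [Perm.sign_inv, hs.1],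
    fun i => by rw [hs.2 (σ⁻¹ i), show σ (σ⁻¹ i) = i from σ.apply_symm_apply i]⟩

theorem mem_PS' {σ : P8} : σ ∈ PS' ↔ InP' σ := Iff.rfl

theorem inP'_pi : ∀ q, Even35 q → InP' (pi8 * emb q * pi8) := by decide +kernel

theorem InP'.exists_emb {σ : P8} (h : InP' σ) : ∃ q, Even35 q ∧ pi8 * emb q * pi8 = σ := by
  have hpp : pi8 * pi8 = 1 := by decide +kernel
  have hp : ∀ i : Fin 8, 5 ≤ (i : ℕ) ↔ (pi8 i : ℕ) < 3 := by decide +kernel
  have : InP (pi8 * σ * pi8) := by
    refine ⟨?_, fun i => ?_⟩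
    · rw [map_mul, map_mul, h.1, mul_one]
      decide +kernel
    · rw [hp i, h.2 (pi8 i)]
      have := hp (pi8 (σ (pi8 i)))
      rw [show pi8 (pi8 (σ (pi8 i))) = σ (pi8 i) from congrArg (fun p : P8 => p (σ (pi8 i))) hpp] at this
      exact this.symm
  obtain ⟨q, hq, e⟩ := this.exists_emb
  refine ⟨q, hq, ?_⟩
  rw [e]
  calc pi8 * (pi8 * σ * pi8) * pi8 = (pi8 * pi8) * σ * (pi8 * pi8) := by group
    _ = σ := by rw [hpp, one_mul, mul_one]

/-- The four-group on `{0, 1, 2, 3}`. -/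
def VL : List P8 := [1, a8, a8', a8 * a8']
/-- The four-group on `{0, 1, 2, 4}`. -/
def VL4 : List P8 := [1, swap 0 1 * swap 2 4, swap 0 2 * swap 1 4, swap 0 4 * swap 1 2]
/-- The four-group on `{4, 5, 6, 7}`. -/
def UL : List P8 := [1, u8, swap 4 5 * swap 6 7, swap 4 6 * swap 5 7]
/-- The product of the two four-groups. -/
def WL : List P8 := VL.flatMap fun v => UL.map fun u => v * u
/-- A Sylow 2-subgroup of the stabiliser of `a8`. -/
def T0L : List P8 := WL ++ WL.map fun x => x * h8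
/-- A Sylow 2-subgroup. -/
def TL : List P8 := T0L ++ T0L.map fun x => x * c8
/-- The Sylow 3-subgroup. -/
def DL : List P8 := [1, g8, g8 * g8].flatMap fun x => [x, x * w8, x * (w8 * w8)]
/-- The intersection of the two stabilisers. -/
def IL : List P8 := DL ++ DL.map (fun x => x * h8) ++ DL.map (fun x => x * k8) ++
  DL.map (fun x => x * (h8 * k8))
/-- The centraliser of `a8` inside `InP`. -/
def NaL : List P8 := VL.flatMap fun v => [v, v * g8, v * (g8 * g8), v * h8, v * (g8 * h8), v * (g8 * g8 * h8)]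

end Cfsg.Agent.A8Three
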